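import Cfsg.Agent.Lib.HallGen.PMinimal.Basic
import Cfsg.Agent.Lib.Lie.BNPair

/-!
Parabolic subgroups seen from a Sylow subgroup.
-/

set_option autoImplicit false

namespace CfsgLib.HallGen.PMinimal

open CfsgLib.Lie.BN

universe u

variable {G : Type u} [Group G] {p : ℕ} (P : Cfsg.BNPair G)

theorem parabolic_ne_top {J : Set G} (hJ : J ⊆ P.S) (h : J ≠ P.S) : P.parabolic J ≠ ⊤ := by
  intro e
  refine h (Set.Subset.antisymm hJ fun s hs => ?_)
  exact (mem_parabolic_of_coe P hJ (s := ⟨s, hs⟩)).1 (e ▸ Subgroup.mem_top _)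

theorem B_ne_top (hne : P.S.Nonempty) : P.B ≠ ⊤ := fun e => by
  obtain ⟨s, hs⟩ := hne
  exact simple_not_mem_B P hs (e ▸ Subgroup.mem_top _)

theorem split_of_bnPair (U : Sylow p G) (hNU : Subgroup.normalizer ((U : Subgroup G) : Set G) = P.B)
    (hne : P.S.Nonempty)
    (hJ : ∀ s ∈ P.S, ∃ J ⊆ P.S, s ∈ J ∧ J ≠ P.S ∧ Inv p (U : Subgroup G) (P.parabolic J)) : Split p G := by
  have hUB : (U : Subgroup G) ≤ P.B := hNU ▸ Subgroup.le_normalizer
  refine ⟨U, hNU ▸ B_ne_top P hne, {Y | ∃ J ⊆ P.S, J ≠ P.S ∧ Inv p (U : Subgroup G) (P.parabolic J) ∧ Y = P.parabolic J},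
    ?_, top_le_iff.1 ((parabolic_self_eq_top P).ge.trans (sup_le ?_ ((Subgroup.closure_le _).2 fun s hs => ?_)))⟩
  · rintro _ ⟨J, hJS, hJne, hinv, rfl⟩
    exact ⟨hUB.trans le_sup_left, parabolic_ne_top P hJS hJne, hinv⟩
  · obtain ⟨s, hs⟩ := hne
    obtain ⟨J, hJS, -, hJne, hinv⟩ := hJ s hs
    exact le_sup_left.trans (le_sSup (a := P.parabolic J) ⟨J, hJS, hJne, hinv, rfl⟩)
  · obtain ⟨J, hJS, hsJ, hJne, hinv⟩ := hJ s hs
    have hm : s ∈ P.parabolic J := Subgroup.mem_sup_right (Subgroup.subset_closure hsJ)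
    refine SetLike.mem_coe.2 (Subgroup.mem_sSup_of_mem ?_ hm)
    exact ⟨J, hJS, hJne, hinv, rfl⟩

theorem eq_B_or_exists {Y : Subgroup G} (hY : P.B ≤ Y) : Y = P.B ∨ ∃ s ∈ P.S, s ∈ Y := by
  by_cases h : ∃ s ∈ P.S, s ∈ Y
  · exact Or.inr h
  refine Or.inl (le_antisymm ?_ hY)
  rw [overgroup_eq_parabolic P hY]
  refine sup_le le_rfl ((Subgroup.closure_le _).2 ?_)
  rintro s ⟨hs, hsY⟩
  exact absurd ⟨s, hs, hsY⟩ h

theorem rankOne_of_bnPair (U : Sylow p G) (hNU : Subgroup.normalizer ((U : Subgroup G) : Set G) = P.B)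
    {s : G} (hS : P.S = {s}) : RankOne p G := by
  refine ⟨U, hNU ▸ ⟨B_ne_top P (hS ▸ Set.singleton_nonempty s), fun Y hY => ?_⟩⟩
  rcases eq_B_or_exists P hY.le with h | ⟨t, ht, htY⟩
  · exact absurd h hY.ne'
  · refine top_le_iff.1 ((parabolic_self_eq_top P).ge.trans (sup_le hY.le ((Subgroup.closure_le _).2 ?_)))
    rw [hS] at ht ⊢
    rintro x rfl
    exact ht ▸ htY

theorem rankTwo_of_bnPair (U : Sylow p G) (hNU : Subgroup.normalizer ((U : Subgroup G) : Set G) = P.B)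
    {a b : G} (hab : a ≠ b) (hS : P.S = {a, b}) : RankTwo p G := by
  have ha : ({a} : Set G) ⊆ P.S := hS ▸ Set.singleton_subset_iff.2 (by simp)
  have hb : ({b} : Set G) ⊆ P.S := hS ▸ Set.singleton_subset_iff.2 (by simp)
  refine ⟨U, P.parabolic {a}, P.parabolic {b}, parabolic_ne_top P ha ?_, parabolic_ne_top P hb ?_, ?_, ?_, ?_⟩
  · intro e
    exact hab ((e ▸ (hb rfl) : b ∈ ({a} : Set G))).symm
  · intro e
    exact hab (e ▸ (ha rfl) : a ∈ ({b} : Set G))
  · refine top_le_iff.1 ((parabolic_self_eq_top P).ge.trans (sup_le (le_sup_left.trans le_sup_left) ?_))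
    rw [hS, Subgroup.closure_le]
    rintro x (rfl | rfl)
    · exact Subgroup.mem_sup_left (Subgroup.mem_sup_right (Subgroup.subset_closure rfl))
    · exact Subgroup.mem_sup_right (Subgroup.mem_sup_right (Subgroup.subset_closure rfl))
  · rw [hNU]
    rcases eq_B_or_exists P (le_inf le_sup_left le_sup_left : P.B ≤ P.parabolic {a} ⊓ P.parabolic {b}) with h | ⟨s, hs, hsY⟩
    · exact h
    · exfalso
      have h1 : s = a := (mem_parabolic_of_coe P ha (s := ⟨s, hs⟩)).1 hsY.1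
      have h2 : s = b := (mem_parabolic_of_coe P hb (s := ⟨s, hs⟩)).1 hsY.2
      exact hab (h1.symm.trans h2)
  · intro Y hY hne
    rw [hNU] at hY
    by_cases haY : a ∈ Y
    · left
      rw [overgroup_eq_parabolic P hY]
      refine sup_le le_sup_left ((Subgroup.closure_le _).2 ?_)
      rintro s ⟨hs, hsY⟩
      rw [hS] at hs
      rcases hs with rfl | rfl
      · exact Subgroup.mem_sup_right (Subgroup.subset_closure rfl)
      · refine absurd (top_le_iff.1 ((parabolic_self_eq_top P).ge.trans (sup_le hY ?_))) hne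
        rw [hS, Subgroup.closure_le]
        rintro x (rfl | rfl)
        exacts [haY, hsY]
    · right
      rw [overgroup_eq_parabolic P hY]
      refine sup_le le_sup_left ((Subgroup.closure_le _).2 ?_)
      rintro s ⟨hs, hsY⟩
      rw [hS] at hs
      rcases hs with rfl | rfl
      · exact absurd hsY haY
      · exact Subgroup.mem_sup_right (Subgroup.subset_closure rfl)

theorem map_parabolic_eq [Finite G] {α : MulAut G} (hB : P.B.map α.toMonoidHom = P.B) {J : Set G}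
    (h : ∀ s ∈ J, α s ∈ P.parabolic J) : (P.parabolic J).map α.toMonoidHom = P.parabolic J := by
  refine Subgroup.eq_of_le_of_card_ge ?_
    (le_of_eq (Nat.card_congr ((P.parabolic J).equivMapOfInjective α.toMonoidHom α.injective).toEquiv))
  rw [Subgroup.map_le_iff_le_comap]
  refine sup_le (fun g hg => Subgroup.mem_sup_left (hB.le ⟨g, hg, rfl⟩)) ((Subgroup.closure_le _).2 h)

end CfsgLib.HallGen.PMinimal
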