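import Cfsg.Prelude.Def_LocalEven
import Mathlib.GroupTheory.Sylow

/-!
Minimal groups whose socle carries parabolic subgroups: the abstract arguments.
-/

set_option autoImplicit false

namespace CfsgLib.HallGen.PMinimal

universe u v

variable {K : Type u} [Group K] {p : ℕ}

/-- `Y` is invariant under the automorphisms of `p`-power order normalising `U`. -/
def Inv (p : ℕ) (U Y : Subgroup K) : Prop :=
  ∀ α : MulAut K, (∃ k : ℕ, α ^ p ^ k = 1) → U.map α.toMonoidHom = U → Y.map α.toMonoidHom = Y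

/-- Invariant proper overgroups of a Sylow subgroup generate the group. -/
def Split (p : ℕ) (K : Type u) [Group K] : Prop :=
  ∃ U : Sylow p K, Subgroup.normalizer ((U : Subgroup K) : Set K) ≠ ⊤ ∧ ∃ 𝒴 : Set (Subgroup K),
    (∀ Y ∈ 𝒴, (U : Subgroup K) ≤ Y ∧ Y ≠ ⊤ ∧ Inv p (U : Subgroup K) Y) ∧ sSup 𝒴 = ⊤

/-- The normaliser of a Sylow subgroup is maximal. -/
def RankOne (p : ℕ) (K : Type u) [Group K] : Prop :=
  ∃ U : Sylow p K, IsCoatom (Subgroup.normalizer ((U : Subgroup K) : Set K))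

/-- Two maximal overgroups of the normaliser of a Sylow subgroup, meeting in it. -/
def RankTwo (p : ℕ) (K : Type u) [Group K] : Prop :=
  ∃ (U : Sylow p K) (P₁ P₂ : Subgroup K), P₁ ≠ ⊤ ∧ P₂ ≠ ⊤ ∧ P₁ ⊔ P₂ = ⊤ ∧
    P₁ ⊓ P₂ = Subgroup.normalizer ((U : Subgroup K) : Set K) ∧
    ∀ Y : Subgroup K, Subgroup.normalizer ((U : Subgroup K) : Set K) ≤ Y → Y ≠ ⊤ → Y ≤ P₁ ∨ Y ≤ P₂

section Transport

variable {H : Type v} [Group H]

/-- The transported Sylow subgroup. -/
noncomputable def mapSylow [Finite K] [Fact p.Prime] (e : K ≃* H) (U : Sylow p K) : Sylow p H :=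
  U.mapSurjective (f := e.toMonoidHom) e.surjective

theorem coe_mapSylow [Finite K] [Fact p.Prime] (e : K ≃* H) (U : Sylow p K) :
    ((mapSylow e U : Sylow p H) : Subgroup H) = (U : Subgroup K).map e.toMonoidHom := rfl

theorem normalizer_map (e : K ≃* H) (S : Subgroup K) :
    Subgroup.normalizer ((S.map e.toMonoidHom : Subgroup H) : Set H) =
      (Subgroup.normalizer (S : Set K)).map e.toMonoidHom :=
  (Subgroup.map_equiv_normalizer_eq S e).symm

theorem map_eq_top_iff (e : K ≃* H) {Y : Subgroup K} : Y.map e.toMonoidHom = ⊤ ↔ Y = ⊤ := by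
  rw [← Subgroup.map_top_of_surjective e.toMonoidHom e.surjective]
  exact (Subgroup.map_injective e.injective).eq_iff

theorem Inv.map (e : K ≃* H) {U Y : Subgroup K} (h : Inv p U Y) :
    Inv p (U.map e.toMonoidHom) (Y.map e.toMonoidHom) := by
  intro α hα hU
  have hconj : ∀ S : Subgroup K, (S.map (MulAut.congr e.symm α).toMonoidHom).map e.toMonoidHom =
      (S.map e.toMonoidHom).map α.toMonoidHom := fun S => by
    rw [Subgroup.map_map, Subgroup.map_map]
    exact congrArg (fun f => Subgroup.map f S) (MonoidHom.ext fun x => e.apply_symm_apply _)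
  obtain ⟨k, hk⟩ := hα
  have h1 := h (MulAut.congr e.symm α) ⟨k, by rw [← map_pow, hk, map_one]⟩
    (Subgroup.map_injective e.injective ((hconj U).trans hU))
  rw [← hconj, h1]

theorem Split.of_equiv [Finite K] [Fact p.Prime] (h : Split p K) (e : K ≃* H) : Split p H := by
  obtain ⟨U, hN, 𝒴, h1, h2⟩ := h
  refine ⟨mapSylow e U, ?_, (fun Y => Subgroup.map e.toMonoidHom Y) '' 𝒴, ?_, ?_⟩
  · rw [coe_mapSylow, normalizer_map, Ne, map_eq_top_iff]
    exact hN
  · rintro _ ⟨Y, hY, rfl⟩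
    obtain ⟨hUY, hne, hinv⟩ := h1 Y hY
    exact ⟨Subgroup.map_mono hUY, fun h => hne ((map_eq_top_iff e).1 h), hinv.map e⟩
  · rw [eq_top_iff, ← Subgroup.map_top_of_surjective e.toMonoidHom e.surjective, ← h2,
      Subgroup.map_le_iff_le_comap, sSup_le_iff]
    intro Y hY
    exact Subgroup.map_le_iff_le_comap.1 (le_sSup ⟨Y, hY, rfl⟩)

theorem RankOne.of_equiv [Finite K] [Fact p.Prime] (h : RankOne p K) (e : K ≃* H) : RankOne p H := by
  obtain ⟨U, hU⟩ := h
  refine ⟨mapSylow e U, ?_⟩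
  rw [coe_mapSylow, normalizer_map]
  exact (OrderIso.isCoatom_iff e.mapSubgroup _).2 hU

theorem RankTwo.of_equiv [Finite K] [Fact p.Prime] (h : RankTwo p K) (e : K ≃* H) : RankTwo p H := by
  obtain ⟨U, P₁, P₂, h1, h2, h3, h4, h5⟩ := h
  refine ⟨mapSylow e U, P₁.map e.toMonoidHom, P₂.map e.toMonoidHom, fun h => h1 ((map_eq_top_iff e).1 h),
    fun h => h2 ((map_eq_top_iff e).1 h), ?_, ?_, fun Y hY hne => ?_⟩
  · rw [← Subgroup.map_sup, h3, Subgroup.map_top_of_surjective e.toMonoidHom e.surjective]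
  · rw [← Subgroup.map_inf _ _ _ e.injective, h4, coe_mapSylow, normalizer_map]
  · obtain ⟨Y, rfl⟩ : ∃ Z : Subgroup K, Z.map e.toMonoidHom = Y :=
      ⟨Y.comap e.toMonoidHom, Subgroup.map_comap_eq_self_of_surjective e.surjective Y⟩
    rw [coe_mapSylow, normalizer_map, Subgroup.map_le_map_iff_of_injective e.injective] at hY
    exact (h5 Y hY fun h => hne ((map_eq_top_iff e).2 h)).imp (fun h => Subgroup.map_mono h) fun h =>
      Subgroup.map_mono h

end Transport

theorem exists_conj_eq [Finite K] [Fact p.Prime] (U V : Sylow p K) :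
    ∃ g : K, mapSylow (MulAut.conj g) U = V := by
  obtain ⟨g, hg⟩ := MulAction.exists_smul_eq K U V
  exact ⟨g, hg ▸ Sylow.ext rfl⟩

theorem RankOne.forall_sylow [Finite K] [Fact p.Prime] (h : RankOne p K) (V : Sylow p K) :
    IsCoatom (Subgroup.normalizer ((V : Subgroup K) : Set K)) := by
  obtain ⟨U, hU⟩ := h
  obtain ⟨g, rfl⟩ := exists_conj_eq U V
  rw [coe_mapSylow, normalizer_map]
  exact (OrderIso.isCoatom_iff (MulAut.conj g).mapSubgroup _).2 hU

theorem RankTwo.forall_sylow [Finite K] [Fact p.Prime] (h : RankTwo p K) (V : Sylow p K) :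
    ∃ P₁ P₂ : Subgroup K, P₁ ≠ ⊤ ∧ P₂ ≠ ⊤ ∧ P₁ ⊔ P₂ = ⊤ ∧
      P₁ ⊓ P₂ = Subgroup.normalizer ((V : Subgroup K) : Set K) ∧
      ∀ Y : Subgroup K, Subgroup.normalizer ((V : Subgroup K) : Set K) ≤ Y → Y ≠ ⊤ → Y ≤ P₁ ∨ Y ≤ P₂ := by
  obtain ⟨U, P₁, P₂, h1, h2, h3, h4, h5⟩ := h
  obtain ⟨g, rfl⟩ := exists_conj_eq U V
  let e : K ≃* K := MulAut.conj g
  refine ⟨P₁.map e.toMonoidHom, P₂.map e.toMonoidHom, fun h => h1 ((map_eq_top_iff e).1 h),
    fun h => h2 ((map_eq_top_iff e).1 h), ?_, ?_, fun Y hY hne => ?_⟩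
  · rw [← Subgroup.map_sup, h3, Subgroup.map_top_of_surjective e.toMonoidHom e.surjective]
  · rw [← Subgroup.map_inf _ _ _ e.injective, h4, coe_mapSylow, normalizer_map]
  · obtain ⟨Y, rfl⟩ : ∃ Z : Subgroup K, Z.map e.toMonoidHom = Y :=
      ⟨Y.comap e.toMonoidHom, Subgroup.map_comap_eq_self_of_surjective e.surjective Y⟩
    rw [coe_mapSylow, normalizer_map, Subgroup.map_le_map_iff_of_injective e.injective] at hY
    exact (h5 Y hY fun h => hne ((map_eq_top_iff e).2 h)).imp (fun h => Subgroup.map_mono h) fun h =>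
      Subgroup.map_mono h

end CfsgLib.HallGen.PMinimal
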