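import Cfsg.Agent.Lib.HallGen.PMinimal.BN
import Cfsg.Agent.Lib.Known.ChevAut.OutStructure
import Cfsg.Agent.Lib.Known.TwistAut.E6
import Cfsg.Agent.Lib.Known.TwistAut.D4
import Cfsg.Agent.Lib.Known.TwistAut.F4
import Cfsg.Agent.Lib.HallGen.Overgroup.Twisted
import Cfsg.Agent.Lib.Lie.Rel.StFacts

/-!
Parabolic subgroups of the exceptional groups invariant under the automorphisms normalising a Sylow subgroup.
-/

set_option autoImplicit false

namespace CfsgLib.HallGen.PMinimal

open CfsgLib.Lie.Chev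
open CfsgLib.Known CfsgLib.Known.ChevAut
open Cfsg.Lie

section Chev

variable {D : ChevalleyDatum} {X : Aux} (C : Cert D X) {F : Type} [Field F] [Fintype F]

/-- The atom of a node. -/
noncomputable abbrev atom (i : Fin D.rank) : ↥(D.group F) := (chevRel C F).ne (D.simple i) 1

theorem atom_injective : Function.Injective (atom (F := F) C) := by
  haveI := (chevRel C F).Finite_of_field
  intro i j e
  have h1 : XS (chevRel C F) (D.neg (D.simple i)) = XS (chevRel C F) (D.neg (D.simple j)) := by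
    rw [← P1_inf_UN (chevRel C F) i, ← P1_inf_UN (chevRel C F) j]
    exact congrArg (fun s => (chevRel C F).bnPair.parabolic {s} ⊓ (chevRel C F).UN) e
  obtain ⟨t, ht⟩ : (chevRel C F).xe ((chevRel C F).negF ((chevRel C F).sroot i)) 1 ∈
      XS (chevRel C F) (D.neg (D.simple j)) := h1 ▸ ⟨1, rfl⟩
  have h2 := (chevRel C F).xe_inj_root (r := (chevRel C F).negF ((chevRel C F).sroot i))
    (r' := (chevRel C F).negF ((chevRel C F).sroot j)) one_ne_zero ht
  exact (chevRel C F).sroot_injective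
    (by rw [← (chevRel C F).negF_negF ((chevRel C F).sroot i), h2, (chevRel C F).negF_negF])

theorem bnPair_S : (chevRel C F).bnPair.S = Set.range (atom (F := F) C) :=
  Set.ext fun g => ⟨fun ⟨i, h⟩ => ⟨i, h.symm⟩, fun ⟨i, h⟩ => ⟨i, h.symm⟩⟩

theorem normalizer_UP : Subgroup.normalizer ((chevRel C F).UP : Set ↥(D.group F)) = (chevRel C F).BS := by
  haveI := (chevRel C F).Finite_of_field
  exact le_antisymm (fun g hg => mem_BS_of_normalises _ fun x => Subgroup.mem_normalizer_iff.1 hg x)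
    (chevRel C F).BS_le_normalizer_UP

/-- An automorphism normalising the Sylow subgroup permutes the atoms by a diagram symmetry. -/
theorem exists_perm_atom (hT : Decomposes D C F) (hS : ChevDiag.chkSteps D = true) {α : MulAut ↥(D.group F)}
    (hU : (chevRel C F).UP.map α.toMonoidHom = (chevRel C F).UP) :
    ∃ π : Equiv.Perm (Fin D.rank), π ∈ gammaSet C (F := F) ∧ D.IsDiagramSymmetry π ∧
      (chevRel C F).BS.map α.toMonoidHom = (chevRel C F).BS ∧
      ∀ i, α (atom C i) ∈ (chevRel C F).bnPair.parabolic {atom C (π i)} := by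
  haveI := (chevRel C F).Finite_of_field
  obtain ⟨u, hu1, hu2⟩ := exists_fix_opp (chevRel C F) α hU
  have hu : u ∈ (chevRel C F).BS := by
    refine mem_BS_of_normalises _ fun x => ⟨fun hx => ?_, fun hx => ?_⟩
    · obtain ⟨y, hy, rfl⟩ := hU.ge hx
      exact hu1.le ⟨y, hy, rfl⟩
    · obtain ⟨y, hy, e⟩ := hu1.ge hx
      have : x = α y := (MulAut.conj u).injective (e.symm : MulAut.conj u x = MulAut.conj u (α y))
      exact this ▸ hU.le ⟨y, hy, rfl⟩
  obtain ⟨φ, hφ⟩ : ∃ φ, φ = MulAut.conj u * α := ⟨_, rfl⟩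
  rw [← hφ] at hu1 hu2
  obtain ⟨π, τ, c, hact, hsym, -⟩ := exists_act C hS hT (show φ ∈ fixing C from ⟨hu1, hu2⟩)
  refine ⟨π, ⟨φ, ⟨hu1, hu2⟩, τ, c, hact⟩, hsym, map_BS _ hU, fun i => ?_⟩
  obtain ⟨j, hj⟩ := exists_P1_image (chevRel C F) hu1 i
  obtain rfl : j = π i := by
    have h1 : (XS (chevRel C F) (D.neg (D.simple i))).map φ.toMonoidHom = XS (chevRel C F) (D.neg (D.simple j)) := by
      rw [← P1_inf_UN, Subgroup.map_inf _ _ _ φ.injective, hj, hu2, P1_inf_UN]
    obtain ⟨t, ht⟩ := h1.le ⟨_, ⟨1, rfl⟩, rfl⟩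
    have ht' := ht.symm.trans (hact i 1).2
    have h2 := (chevRel C F).xe_inj_root (r := (chevRel C F).negF ((chevRel C F).sroot (π i)))
      (r' := (chevRel C F).negF ((chevRel C F).sroot j)) (t' := t) (by simp) ht'.symm
    exact (chevRel C F).sroot_injective
      (by rw [← (chevRel C F).negF_negF ((chevRel C F).sroot j), ← h2, (chevRel C F).negF_negF])
  have h3 : φ (atom C i) ∈ P1 (chevRel C F) (π i) :=
    hj.le ⟨_, Subgroup.mem_sup_right (Subgroup.subset_closure rfl), rfl⟩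
  have h4 : α (atom C i) = u⁻¹ * φ (atom C i) * u := by
    rw [hφ, MulAut.mul_apply, MulAut.conj_apply]; group
  rw [h4]
  exact mul_mem (mul_mem (inv_mem (Subgroup.mem_sup_left hu)) h3) (Subgroup.mem_sup_left hu)

/-- An orbit family of nodes. -/
theorem split_chev (hT : Decomposes D C F) (hS : ChevDiag.chkSteps D = true) (p : ℕ) [Fact p.Prime] [CharP F p]
    (orb : Fin D.rank → Finset (Fin D.rank)) (hself : ∀ i, i ∈ orb i) (hproper : ∀ i, orb i ≠ Finset.univ)
    (horb : ∀ π ∈ gammaSet C (F := F), D.IsDiagramSymmetry π → ∀ i j, j ∈ orb i → π j ∈ orb i) :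
    Split p ↥(D.group F) := by
  classical
  haveI := (chevRel C F).Finite_of_field
  obtain ⟨U, hU⟩ := exists_sylow_UP C F p
  have hS' := bnPair_S (F := F) C
  refine split_of_bnPair (chevRel C F).bnPair U (by rw [hU]; exact normalizer_UP C) ⟨_, ⟨⟨0, C.rank_pos⟩, rfl⟩⟩ ?_
  intro s hs
  rw [hS'] at hs
  obtain ⟨i, rfl⟩ := hs
  refine ⟨atom C '' (orb i : Set (Fin D.rank)), hS'.symm ▸ Set.image_subset_range _ _, ⟨i, hself i, rfl⟩,
    fun e => hproper i (Finset.eq_univ_of_forall fun j => ?_), fun α _ hα => ?_⟩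
  · have h9 : atom (F := F) C j ∈ (chevRel C F).bnPair.S := by rw [hS']; exact ⟨j, rfl⟩
    rw [← e] at h9
    obtain ⟨k, hk, e'⟩ := h9
    exact atom_injective C e' ▸ hk
  · rw [hU] at hα
    obtain ⟨π, hπ, hsym, hB, hat⟩ := exists_perm_atom C hT hS hα
    refine map_parabolic_eq _ hB ?_
    rintro _ ⟨j, hj, rfl⟩
    exact (sup_le le_sup_left ((Subgroup.closure_le _).2 (Set.singleton_subset_iff.2
      (Subgroup.mem_sup_right (Subgroup.subset_closure
        (Set.mem_image_of_mem (atom C) (horb π hπ hsym i j hj))))))) (hat j)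

include C in
theorem rankTwo_chev (p : ℕ) [Fact p.Prime] [CharP F p] (h2 : D.rank = 2) : RankTwo p ↥(D.group F) := by
  haveI := (chevRel C F).Finite_of_field
  obtain ⟨U, hU⟩ := exists_sylow_UP C F p
  have hne : atom (F := F) C ⟨0, by omega⟩ ≠ atom C ⟨1, by omega⟩ := fun e => by
    simpa using atom_injective C e
  refine rankTwo_of_bnPair (chevRel C F).bnPair U (by rw [hU]; exact normalizer_UP C) hne ?_
  rw [bnPair_S]
  ext g
  constructor
  · rintro ⟨⟨i, hi⟩, rfl⟩
    rcases (show i = 0 ∨ i = 1 by omega) with rfl | rfl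
    · exact Or.inl rfl
    · exact Or.inr rfl
  · rintro (rfl | rfl) <;> exact ⟨_, rfl⟩

end Chev

/-- The nodes an admissible image list sends a node to. -/
def symOrb (D : ChevalleyDatum) (i : Fin D.rank) : Finset (Fin D.rank) :=
  Finset.univ.filter fun j => (syms D D.rank).any fun l => Nat.beq (l.getD i 0) j

/-- The orbits of the diagram symmetries are proper. -/
def chkSymOrb (D : ChevalleyDatum) : Bool :=
  (List.range D.rank).all fun i =>
    ((syms D D.rank).any fun l => Nat.beq (l.getD i 0) i) &&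
      ((List.range D.rank).any fun j => (syms D D.rank).all fun l => !Nat.beq (l.getD i 0) j) &&
      (syms D D.rank).all fun l => (syms D D.rank).all fun m =>
        (syms D D.rank).any fun n => Nat.beq (n.getD i 0) (m.getD (l.getD i 0) 0)

theorem symOrb_spec {D : ChevalleyDatum} (h : chkSymOrb D = true) (i : Fin D.rank) :
    i ∈ symOrb D i ∧ symOrb D i ≠ Finset.univ ∧
      ∀ π, D.IsDiagramSymmetry π → ∀ j ∈ symOrb D i, π j ∈ symOrb D i := by
  simp only [chkSymOrb, List.all_eq_true, List.mem_range, Bool.and_eq_true, List.any_eq_true,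
    Bool.not_eq_true', nat_beq_iff] at h
  obtain ⟨⟨h1, j, hj, hne⟩, h3⟩ := h i i.2
  refine ⟨?_, fun e => ?_, fun π hπ j hj => ?_⟩
  · obtain ⟨l, hl, e⟩ := h1
    exact Finset.mem_filter.2 ⟨Finset.mem_univ _, List.any_eq_true.2 ⟨l, hl, nat_beq_iff.2 e⟩⟩
  · obtain ⟨-, hl⟩ := Finset.mem_filter.1 (e ▸ Finset.mem_univ (⟨j, hj⟩ : Fin D.rank) :
      (⟨j, hj⟩ : Fin D.rank) ∈ symOrb D i)
    obtain ⟨l, hl, e'⟩ := List.any_eq_true.1 hl
    have := hne l hl
    simp_all
  · obtain ⟨l, hl, e⟩ := List.any_eq_true.1 (Finset.mem_filter.1 hj).2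
    rw [nat_beq_iff] at e
    obtain ⟨m, hm, -, hval⟩ := syms_spec hπ D.rank le_rfl
    obtain ⟨n, hn, e'⟩ := h3 l hl m hm
    rw [e, hval j j.2] at e'
    exact Finset.mem_filter.2 ⟨Finset.mem_univ _, List.any_eq_true.2 ⟨n, hn, nat_beq_iff.2 e'⟩⟩

variable {F : Type} [Field F] [Fintype F] (p : ℕ) [Fact p.Prime] [CharP F p]

theorem split_of_chk {D : ChevalleyDatum} {X : Aux} (C : Cert D X) (hT : Decomposes D C F)
    (h : chkSymOrb D = true) : Split p ↥(D.group F) :=
  split_chev C hT hT.2.2 p (symOrb D) (fun i => (symOrb_spec h i).1) (fun i => (symOrb_spec h i).2.1)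
    fun π _ hπ i j hj => (symOrb_spec h i).2.2 π hπ j hj

theorem split_D4 : Split p ↥(chevD4.group F) := split_of_chk p certD4 decomposes_D4 (by decide +kernel)

theorem split_F4 : Split p ↥(chevF4.group F) := split_of_chk p certF4 decomposes_F4 (by decide +kernel)

theorem split_E6 : Split p ↥(chevE6.group F) := split_of_chk p certE6 decomposes_E6 (by decide +kernel)

theorem split_E7 : Split p ↥(chevE7.group F) := split_of_chk p certE7 decomposes_E7 (by decide +kernel)

theorem split_E8 : Split p ↥(chevE8.group F) := split_of_chk p certE8 decomposes_E8 (by decide +kernel)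

theorem split_G2 (hp : p = 2) : Split p ↥(chevG2.group F) := by
  refine split_chev certG2 decomposes_G2 (decomposes_G2 (F := F)).2.2 p (fun i => {i}) (fun i => Finset.mem_singleton_self i)
    (fun i e => ?_) fun π hπ _ i j hj => ?_
  · have := congrArg Finset.card e
    rw [Finset.card_singleton, Finset.card_univ, Fintype.card_fin, show chevG2.rank = 2 by decide +kernel] at this
    omega
  · obtain rfl : π = 1 := by
      by_contra h
      have h3 : ((3 : ℕ) : F) = 0 := by exact_mod_cast (char_three_of_G2 hπ h).2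
      rw [CharP.cast_eq_zero_iff F p 3, hp] at h3
      omega
    simpa using hj

theorem rankTwo_G2 : RankTwo p ↥(chevG2.group F) := rankTwo_chev certG2 p (by decide +kernel)

theorem rankTwo_B2 : RankTwo p ↥(chevB2.group F) := rankTwo_chev certB2 p (by decide +kernel)

/-! ### Twisted groups -/

section Twisted

variable {D : ChevalleyDatum} {X : Aux} {K : Type*} [Field K] {G : Type*} [Group G] [Finite G] {R : Rel D X K G}
  (T : TwG R)

theorem normalizer_U1 : Subgroup.normalizer (T.U1 : Set T.P1) = T.bnPair1.B :=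
  le_antisymm (fun g hg => T.mem_B1_of_normalises fun x hx => (Subgroup.mem_normalizer_iff.1 hg x).1 hx)
    fun g hg => Subgroup.mem_normalizer_fintype (S := (T.U1 : Set T.P1)) fun x hx => T.B1_le_normalizer hg hx

theorem split_twG {q : ℕ} [Fact q.Prime] (hUp : IsPGroup q T.U1) (hidx : ¬ q ∣ T.U1.index)
    (hfix : ∀ φ ∈ T.fixUV, ∀ k, (T.VK k).map φ.toMonoidHom = T.VK k) (hk : 2 ≤ T.κ) : Split q T.P1 := by
  refine split_of_bnPair T.bnPair1 (hUp.toSylow hidx) (normalizer_U1 T) ⟨_, ⟨⟨0, by omega⟩, rfl⟩⟩ ?_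
  rintro s ⟨k, rfl⟩
  have hsub : ({T.sJ k} : Set T.P1) ⊆ T.bnPair1.S := Set.singleton_subset_iff.2 ⟨k, rfl⟩
  refine ⟨{T.sJ k}, hsub, rfl, ?_, fun α _ hα => ?_⟩
  · intro e
    obtain ⟨l, hl⟩ : ∃ l : Fin T.κ, l ≠ k := by
      haveI : Nontrivial (Fin T.κ) := Fin.nontrivial_iff_two_le.2 hk
      exact exists_ne k
    have h1 : T.sJ l = T.sJ k := (e ▸ (⟨l, rfl⟩ : T.sJ l ∈ T.bnPair1.S) : T.sJ l ∈ ({T.sJ k} : Set T.P1))
    exact hl (T.VK_injective (by rw [← T.PK_inf_V1 l, ← T.PK_inf_V1 k]; show T.bnPair1.parabolic _ ⊓ _ = _; rw [h1]))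
  · obtain ⟨g, hg⟩ := T.exists_mem_fixUV hUp hidx α
    replace hα : T.U1.map α.toMonoidHom = T.U1 := hα
    have hgB : g ∈ T.bnPair1.B := T.mem_B1_of_normalises fun x hx => by
      obtain ⟨y, hy, rfl⟩ := hα.ge hx
      exact hg.1.le ⟨y, hy, rfl⟩
    have hBα : T.bnPair1.B.map α.toMonoidHom = T.bnPair1.B := by
      rw [← normalizer_U1 T, ← normalizer_map, hα]
    obtain ⟨j, hj⟩ := T.exists_PK_image hg k
    have hjk : j = k := by
      refine T.VK_injective ?_
      rw [← hfix _ hg k, ← T.PK_inf_V1 k, Subgroup.map_inf _ _ _ (MulAut.conj g * α).injective, hj, hg.2, T.PK_inf_V1 j]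
    rw [hjk] at hj
    refine map_parabolic_eq _ hBα ?_
    rintro _ rfl
    have h3 : g * α (T.sJ k) * g⁻¹ ∈ T.PK k := hj.le ⟨_, T.sJ_mem_PK k, rfl⟩
    rw [show α (T.sJ k) = g⁻¹ * (g * α (T.sJ k) * g⁻¹) * g by group]
    exact mul_mem (mul_mem (inv_mem (Subgroup.mem_sup_left hgB)) h3) (Subgroup.mem_sup_left hgB)

end Twisted

end CfsgLib.HallGen.PMinimal
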