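import Cfsg.Agent.Lib.HallGen.PMinimal.Polar

/-!
Vectors fixed modulo an invariant subspace.
-/

set_option autoImplicit false

namespace CfsgLib.HallGen.PMinimal

open CfsgLib.Blocks.DefectLie

universe u v w

variable {F : Type u} [Field F] {V : Type v} [AddCommGroup V] [Module F V] {E : Type w} [Group E]

/-- The action of a group preserving a subspace on the quotient. -/
noncomputable def quotRep (ρ : E →* (V ≃ₗ[F] V)) (H : Subgroup E) (U : Submodule F V)
    (hU : H ≤ stab ρ U) : H →* ((V ⧸ U) ≃ₗ[F] (V ⧸ U)) where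
  toFun g := Submodule.Quotient.equiv U U (ρ g) (by
    ext w
    constructor
    · rintro ⟨x, hx, rfl⟩
      exact (hU g.2 x).2 hx
    · intro hw
      refine ⟨ρ (g : E)⁻¹ w, (hU g.2 _).1 ?_, apply_inv_apply _ _⟩
      rw [apply_inv_apply]
      exact hw)
  map_one' := by
    refine LinearEquiv.ext fun x => Quotient.inductionOn' x fun v => ?_
    show Submodule.Quotient.mk (ρ ((1 : H) : E) v) = Submodule.Quotient.mk v
    simp
  map_mul' a b := by
    refine LinearEquiv.ext fun x => Quotient.inductionOn' x fun v => ?_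
    show Submodule.Quotient.mk (ρ ((a * b : H) : E) v) = Submodule.Quotient.mk (ρ a (ρ b v))
    simp

variable {ρ : E →* (V ≃ₗ[F] V)} {p : ℕ} [Fact p.Prime]

theorem quotRep_mk {H : Subgroup E} {U : Submodule F V} (hU : H ≤ stab ρ U) (g : H) (v : V) :
    quotRep ρ H U hU g (Submodule.Quotient.mk v) = Submodule.Quotient.mk (ρ g v) := rfl

/-- A set of vectors whose image modulo the subspace has cardinality divisible by `p`. -/
theorem exists_fixed_mod_set [Finite V] {H : Subgroup E} (hH : IsPGroup p H) {U : Submodule F V}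
    (hU : H ≤ stab ρ U) (S : Set V) (h0 : (0 : V) ∈ S) (hS : ∀ g ∈ H, ∀ x ∈ S, ρ g x ∈ S)
    (hdvd : p ∣ Nat.card ↥((Submodule.Quotient.mk : V → V ⧸ U) '' S)) :
    ∃ u ∈ S, u ∉ U ∧ ∀ g ∈ H, ρ g u - u ∈ U := by
  haveI : Finite (V ⧸ U) := Quotient.finite _
  have hT : IsPGroup p (⊤ : Subgroup H) := hH.of_equiv Subgroup.topEquiv.symm
  obtain ⟨x, ⟨v, hv, rfl⟩, hx0, hxf⟩ := exists_fixed_mem (quotRep ρ H U hU) hT
    ((Submodule.Quotient.mk : V → V ⧸ U) '' S)
    (by rintro g - _ ⟨v, hv, rfl⟩; exact ⟨_, hS g g.2 v hv, rfl⟩) ⟨0, h0, rfl⟩ hdvd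
  refine ⟨v, hv, fun h => hx0 ((Submodule.Quotient.mk_eq_zero U).2 h), fun g hg => ?_⟩
  exact (Submodule.Quotient.eq U).1 (hxf ⟨g, hg⟩ (Subgroup.mem_top _))

/-- A vector of a larger invariant subspace fixed modulo a smaller one. -/
theorem exists_fixed_mod [CharP F p] [Finite F] [FiniteDimensional F V] {H : Subgroup E} (hH : IsPGroup p H)
    {U O : Submodule F V} (hU : H ≤ stab ρ U) (hO : ∀ g ∈ H, ∀ x ∈ O, ρ g x ∈ O) (hne : ¬ O ≤ U) :
    ∃ u ∈ O, u ∉ U ∧ ∀ g ∈ H, ρ g u - u ∈ U := by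
  haveI : Finite V := Module.finite_of_finite F
  refine exists_fixed_mod_set hH hU (O : Set V) O.zero_mem hO ?_
  have h : (Submodule.Quotient.mk : V → V ⧸ U) '' (O : Set V) = ((O.map U.mkQ : Submodule F (V ⧸ U)) : Set (V ⧸ U)) :=
    (Submodule.map_coe U.mkQ O).symm
  rw [h]
  refine dvd_card_submodule fun e => hne fun x hx => ?_
  have h1 : U.mkQ x ∈ O.map U.mkQ := ⟨x, hx, rfl⟩
  rw [e, Submodule.mem_bot, Submodule.mkQ_apply, Submodule.Quotient.mk_eq_zero] at h1
  exact h1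

theorem le_stab_point [Finite V] {H : Subgroup E} {e : V} (he : ∀ g ∈ H, ρ g e = e) :
    H ≤ stab ρ (Submodule.span F {e}) := fun g hg =>
  mem_stab_point (by rw [he g hg]; exact Submodule.mem_span_singleton_self e)

end CfsgLib.HallGen.PMinimal
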