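import Cfsg.Agent.Lib.HallGen.PMinimal.Basic
import Cfsg.Agent.Lib.HallGen.Overgroup.Polar

/-!
The stabilisers of the singular point and of the singular line fixed by a Sylow subgroup.
-/

set_option autoImplicit false

namespace CfsgLib.HallGen.PMinimal

open CfsgLib.HallGen.Overgroup CfsgLib.Blocks.DefectLie

universe u v w z

variable {F : Type u} [Field F] {V : Type v} [AddCommGroup V] [Module F V] {E : Type w} [Group E]

/-- The stabiliser of a subspace. -/
def stab (ρ : E →* (V ≃ₗ[F] V)) (W : Submodule F V) : Subgroup E where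
  carrier := {g | ∀ w, ρ g w ∈ W ↔ w ∈ W}
  one_mem' w := by simp
  mul_mem' {a b} ha hb w := by rw [map_mul, LinearEquiv.mul_apply]; exact (ha _).trans (hb w)
  inv_mem' {a} ha w := by
    rw [← ha (ρ a⁻¹ w), ← LinearEquiv.mul_apply, ← map_mul, mul_inv_cancel, map_one]
    rfl

variable {ρ : E →* (V ≃ₗ[F] V)}

theorem mem_stab {W : Submodule F V} {g : E} : g ∈ stab ρ W ↔ ∀ w, ρ g w ∈ W ↔ w ∈ W := Iff.rfl

theorem mem_stab_of_forall [Finite V] {S : Set V} {g : E} (h : ∀ s ∈ S, ρ g s ∈ Submodule.span F S) :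
    g ∈ stab ρ (Submodule.span F S) := by
  set W := Submodule.span F S
  have h1 : ∀ w ∈ W, ρ g w ∈ W := fun w hw =>
    (Submodule.span_le (p := W.comap (ρ g : V →ₗ[F] V))).2 h hw
  intro w
  refine ⟨fun hw => ?_, h1 w⟩
  have hsurj : Function.Surjective (fun x : W => (⟨ρ g x, h1 x x.2⟩ : W)) :=
    Finite.surjective_of_injective fun a b e => Subtype.ext ((ρ g).injective (congrArg Subtype.val e))
  obtain ⟨x, hx⟩ := hsurj ⟨_, hw⟩
  exact (ρ g).injective (congrArg Subtype.val hx) ▸ x.2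

theorem apply_inv_apply (g : E) (v : V) : ρ g (ρ g⁻¹ v) = v := by
  rw [← LinearEquiv.mul_apply, ← map_mul, mul_inv_cancel, map_one]; rfl

/-- An element of `p`-power order has no eigenvalue but one. -/
theorem eq_self_of_smul {p : ℕ} [Fact p.Prime] [CharP F p] {g : E} (hg : ∃ k : ℕ, g ^ p ^ k = 1) {c : F}
    {v : V} (h : ρ g v = c • v) : ρ g v = v := by
  rcases eq_or_ne v 0 with rfl | hv
  · exact map_zero _
  obtain ⟨k, hk⟩ := hg
  have hp : ∀ n : ℕ, ρ (g ^ n) v = c ^ n • v := fun n => by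
    induction n with
    | zero => simp
    | succ n ih => rw [pow_succ', map_mul, LinearEquiv.mul_apply, ih, map_smul, h, smul_smul, pow_succ]
  have h1 := hp (p ^ k)
  rw [hk, map_one, LinearEquiv.coe_one, id_eq] at h1
  have h2 : c ^ p ^ k = 1 := by
    refine smul_left_injective F hv ?_
    show c ^ p ^ k • v = (1 : F) • v
    rw [one_smul, ← h1]
  rw [h, iterateFrobenius_inj F p k (show iterateFrobenius F p k c = iterateFrobenius F p k 1 by
    rw [map_one]; exact h2), one_smul]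

variable {K : Type z} [Group K] (Γ : Geom ρ) (π : E →* K)

/-- An automorphism induced by a semilinear map respecting the geometry. -/
def SemiInd (α : MulAut K) : Prop :=
  ∃ f : V →+ V, Function.Injective f ∧ (∀ (c : F) v, ∃ d : F, f (c • v) = d • f v) ∧
    (∀ x ∈ Γ.sing, f x ∈ Γ.sing) ∧ ∀ g, ∃ g', π g' = α (π g) ∧ ∀ v, ρ g' (f v) = f (ρ g v)

/-- Root groups separate the vectors outside their flag. -/
def Sep [Finite E] : Prop :=
  ∀ (T : Set V) (u v : V), T.Subsingleton → (∀ a ∈ insert u T, a ∈ Γ.sing) →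
    (∀ a ∈ insert u T, ∀ b ∈ insert u T, Γ.perp a b) → u ∉ Submodule.span F T →
      v ∈ Γ.sing → v ∉ Submodule.span F (insert u T) →
        ∃ g ∈ flagFix ρ (Submodule.span F (insert u T)) (Γ.orth (insert u T)),
          ρ g v - v ∉ Submodule.span F T

/-- Orthogonal singular points are not fixed by all the stabiliser of one of them. -/
def Irred : Prop :=
  ∀ e ∈ Γ.sing, ∀ y ∈ Γ.sing, Γ.perp e y → y ∉ Submodule.span F {e} →
    ∃ g, ρ g e = e ∧ ¬ Γ.perp y (ρ g y)

theorem orth_mono_span {S S' : Set V} (h : ∀ a ∈ S', a ∈ Submodule.span F S) :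
    Γ.orth S ≤ Γ.orth S' := fun v hv u hu => by
  have h1 : Submodule.span F S ≤ Γ.orth {v} :=
    Submodule.span_le.2 fun s hs w hw => hw ▸ Γ.symm (hv s hs)
  exact Γ.symm (h1 (h u hu) v rfl)

/-- Conjugation by an element fixing a flag. -/
theorem conj_mem_of_stab [Finite E] {S : Set V} {g a : E} (hg : g ∈ stab ρ (Submodule.span F S))
    (ha : a ∈ flagFix ρ (Submodule.span F S) (Γ.orth S)) :
    g * a * g⁻¹ ∈ flagFix ρ (Submodule.span F S) (Γ.orth S) := by
  refine Geom.conj_mem_flagFix g ha (fun w => (hg w).symm) fun w => ?_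
  have h1 : ∀ s ∈ S, ρ g s ∈ Submodule.span F S := fun s hs => (hg s).2 (Submodule.subset_span hs)
  have h2 : Γ.orth (ρ g '' S) = Γ.orth S := by
    refine le_antisymm (orth_mono_span Γ fun s hs => ?_) (orth_mono_span Γ ?_)
    · have h3 : ρ g⁻¹ s ∈ Submodule.span F S := by
        rw [← hg, apply_inv_apply]; exact Submodule.subset_span hs
      have h4 : ρ g (ρ g⁻¹ s) ∈ (Submodule.span F S).map (ρ g : V →ₗ[F] V) :=
        ⟨_, h3, rfl⟩
      rw [apply_inv_apply, Submodule.map_span] at h4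
      exact h4
    · rintro _ ⟨s, hs, rfl⟩
      exact h1 s hs
  exact (Γ.mem_orth_map g S w).trans (by rw [h2])

section Data

variable {p : ℕ} [Fact p.Prime] [CharP F p] [Finite E] [Finite K] [IsSimpleGroup K]
variable (hπ : Function.Surjective π) (hρ : Function.Injective ρ) (hker : ¬ p ∣ Nat.card π.ker)
  (hsc : ∀ z ∈ π.ker, ∃ a : F, ∀ v, ρ z v = a • v)

omit [Finite K] [IsSimpleGroup K] [Finite E] [Fact p.Prime] [CharP F p] in
include hρ hsc in
theorem ker_comm {z : E} (hz : z ∈ π.ker) (g : E) : Commute g z := by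
  obtain ⟨a, ha⟩ := hsc z hz
  exact hρ (LinearEquiv.ext fun v => by
    rw [map_mul, map_mul, LinearEquiv.mul_apply, LinearEquiv.mul_apply, ha, ha, map_smul])

omit [Finite K] [IsSimpleGroup K] [Finite E] [Fact p.Prime] [CharP F p] in
include hsc in
theorem ker_le_stab (W : Submodule F V) : π.ker ≤ stab ρ W := by
  intro z hz w
  obtain ⟨a, ha⟩ := hsc z hz
  refine ⟨fun hw => ?_, fun hw => by rw [ha]; exact W.smul_mem a hw⟩
  rcases eq_or_ne a 0 with rfl | ha0
  · rw [(ρ z).map_eq_zero_iff.1 (by rw [ha, zero_smul] : ρ z w = 0)]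
    exact W.zero_mem
  · rw [ha] at hw
    have := W.smul_mem a⁻¹ hw
    rwa [inv_smul_smul₀ ha0] at this

omit [IsSimpleGroup K] [CharP F p] in
include hρ hsc hker in
theorem mem_sylow_of_map {P : Sylow p E} {g : E} (hg : ∃ k : ℕ, g ^ p ^ k = 1)
    (hU : π g ∈ ((P.mapSurjective hπ : Sylow p K) : Subgroup K)) : g ∈ P := by
  rw [Sylow.coe_mapSurjective] at hU
  obtain ⟨h, hh, e⟩ := hU
  obtain ⟨z, hz⟩ : ∃ z, z = h⁻¹ * g := ⟨_, rfl⟩
  have hzk : z ∈ π.ker := by rw [MonoidHom.mem_ker, hz, map_mul, map_inv, e, inv_mul_cancel]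
  have hg' : g = h * z := by rw [hz, mul_inv_cancel_left]
  obtain ⟨k, hk⟩ := hg
  obtain ⟨l, hl⟩ := P.isPGroup' ⟨h, hh⟩
  have hl' : h ^ p ^ l = 1 := congrArg Subtype.val hl
  have h1 : z ^ p ^ (k + l) = 1 := by
    have h2 := (ker_comm π hρ hsc hzk h).mul_pow (p ^ (k + l))
    rw [← hg', pow_add, pow_mul, hk, one_pow, mul_comm (p ^ k), pow_mul h, hl', one_pow, one_mul] at h2
    rw [pow_add, mul_comm]; exact h2.symm
  have h3 : orderOf z ∣ Nat.card π.ker := Subgroup.orderOf_dvd_natCard _ hzk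
  have h4 : orderOf z = 1 :=
    Nat.eq_one_of_dvd_coprimes (((((Fact.out : p.Prime).coprime_iff_not_dvd).2 hker)).pow_left _)
      (orderOf_dvd_of_pow_eq_one h1) h3
  rw [hg', orderOf_eq_one_iff.1 h4, mul_one]
  exact hh

variable (P : Sylow p E)

omit [Finite K] [IsSimpleGroup K] [CharP F p] in
theorem exists_pow_of_mem {g : E} (hg : g ∈ P) : ∃ k : ℕ, g ^ p ^ k = 1 := by
  obtain ⟨k, hk⟩ := P.isPGroup' ⟨g, hg⟩
  exact ⟨k, congrArg Subtype.val hk⟩

omit [IsSimpleGroup K] in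
include hρ hsc hker in
/-- The semilinear map carries the fixed vectors of the Sylow subgroup. -/
theorem exists_source {α : MulAut K}
    (hU : ((P.mapSurjective hπ : Sylow p K) : Subgroup K).map α.toMonoidHom =
      ((P.mapSurjective hπ : Sylow p K) : Subgroup K))
    {f : V →+ V} (hf : Function.Injective f) (hg : ∀ g, ∃ g', π g' = α (π g) ∧ ∀ v, ρ g' (f v) = f (ρ g v))
    [Finite V] {h : E} (hh : h ∈ P) : ∃ g ∈ P, ∀ v, ρ h (f v) = f (ρ g v) := by
  obtain ⟨_, hx, e⟩ := hU.ge (show π h ∈ _ by rw [Sylow.coe_mapSurjective]; exact ⟨h, hh, rfl⟩)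
  rw [Sylow.coe_mapSurjective] at hx
  obtain ⟨g, hgP, rfl⟩ := hx
  change α (π g) = π h at e
  obtain ⟨g', hg', hact⟩ := hg g
  obtain ⟨k, hk⟩ := exists_pow_of_mem P hgP
  have hsurj : Function.Surjective f := Finite.surjective_of_injective hf
  have hpow : ∀ n : ℕ, ∀ v, ρ (g' ^ n) (f v) = f (ρ (g ^ n) v) := fun n => by
    induction n with
    | zero => intro v; simp
    | succ n ih =>
      intro v
      rw [pow_succ, map_mul, LinearEquiv.mul_apply, hact, ih, pow_succ, map_mul, LinearEquiv.mul_apply]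
  have hk' : g' ^ p ^ k = 1 := hρ (LinearEquiv.ext fun w => by
    obtain ⟨v, rfl⟩ := hsurj w
    rw [hpow, hk, map_one, LinearEquiv.coe_one, id_eq, id_eq])
  have hmem : g' ∈ P := mem_sylow_of_map π hπ hρ hker hsc ⟨k, hk'⟩
    (by rw [hg', e, Sylow.coe_mapSurjective]; exact ⟨h, hh, rfl⟩)
  obtain ⟨z, hz⟩ : ∃ z, z = h⁻¹ * g' := ⟨_, rfl⟩
  have hzk : z ∈ π.ker := by rw [MonoidHom.mem_ker, hz, map_mul, map_inv, hg', e, inv_mul_cancel]
  have hzP : z ∈ P := hz ▸ mul_mem (inv_mem hh) hmem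
  obtain ⟨l, hl⟩ := exists_pow_of_mem P hzP
  have h4 : orderOf z = 1 :=
    Nat.eq_one_of_dvd_coprimes (((((Fact.out : p.Prime).coprime_iff_not_dvd).2 hker)).pow_left _)
      (orderOf_dvd_of_pow_eq_one hl) (Subgroup.orderOf_dvd_natCard _ hzk)
  rw [orderOf_eq_one_iff, hz, inv_mul_eq_one] at h4
  exact ⟨g, hgP, fun v => by rw [h4, hact]⟩

omit [IsSimpleGroup K] in
include hρ hsc hker in
/-- The normaliser of the image lifts to the normaliser. -/
theorem comap_normalizer_le :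
    (Subgroup.normalizer (((P.mapSurjective hπ : Sylow p K) : Subgroup K) : Set K)).comap π ≤
      Subgroup.normalizer ((P : Subgroup E) : Set E) := by
  intro n hn
  refine Subgroup.mem_normalizer_fintype (S := ((P : Subgroup E) : Set E)) fun x hx => ?_
  obtain ⟨k, hk⟩ := exists_pow_of_mem P hx
  refine mem_sylow_of_map π hπ hρ hker hsc ⟨k, by rw [conj_pow, hk]; group⟩ ?_
  rw [map_mul, map_mul, map_inv]
  refine (Subgroup.mem_normalizer_iff.1 hn _).1 ?_
  rw [Sylow.coe_mapSurjective]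
  exact ⟨x, hx, rfl⟩

variable {e : V}

omit [Finite K] [IsSimpleGroup K] [Finite E] [Fact p.Prime] [CharP F p] in
theorem mem_stab_point [Finite V] {g : E} (h : ρ g e ∈ Submodule.span F {e}) :
    g ∈ stab ρ (Submodule.span F {e}) :=
  mem_stab_of_forall fun s hs => by rw [Set.mem_singleton_iff.1 hs]; exact h

omit [Finite K] [IsSimpleGroup K] in
include hρ in
theorem rootGp_le_sylow [Nontrivial V] (hfe : ∀ g ∈ P, ρ g e = e) : Γ.rootGp e ≤ P :=
  le_sylow_of_normalised P (isPGroup_flagFix ρ hρ _ _)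
    (le_normalizer_of_conj fun g hg a ha => by
      have h1 := Γ.conj_rootGp g ha
      rwa [hfe g hg] at h1)

omit [Finite K] [IsSimpleGroup K] in
include hρ in
/-- The fixed singular point is unique. -/
theorem fixed_unique [Nontrivial V] (hsep : Sep Γ) (he : e ∈ Γ.sing) (hfe : ∀ g ∈ P, ρ g e = e) {v : V}
    (hv : v ∈ Γ.sing) (hfv : ∀ g ∈ P, ρ g v = v) : v ∈ Submodule.span F {e} := by
  by_contra h
  obtain ⟨g, hg, hne⟩ := hsep ∅ e v Set.subsingleton_empty (by simpa using he)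
    (by simpa using Γ.self he) (by simp [Γ.ne_zero he]) hv (by simpa using h)
  have h1 : g ∈ Γ.rootGp e := by simpa [Geom.rootGp] using hg
  rw [hfv g (rootGp_le_sylow Γ hρ P hfe h1), sub_self] at hne
  exact hne (Submodule.zero_mem _)

omit [Finite K] [IsSimpleGroup K] in
/-- An overgroup of the point stabiliser fixes the point or moves it away from its perp. -/
theorem le_stab_or [Finite V] (hirr : Irred Γ) (he : e ∈ Γ.sing) {M : Subgroup E}
    (hM : stab ρ (Submodule.span F {e}) ≤ M) :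
    M ≤ stab ρ (Submodule.span F {e}) ∨ ∃ m ∈ M, ¬ Γ.perp e (ρ m e) := by
  by_contra h
  push Not at h
  obtain ⟨hle, hperp⟩ := h
  obtain ⟨m, hm, hme⟩ := SetLike.not_le_iff_exists.1 hle
  have hy : ρ m e ∉ Submodule.span F {e} := fun h' => hme (mem_stab_point h')
  obtain ⟨g, hge, hgy⟩ := hirr e he _ (Γ.map_sing m he) (hperp m hm) hy
  have hgM : g ∈ M := hM (mem_stab_point (by rw [hge]; exact Submodule.mem_span_singleton_self e))
  refine hgy ?_
  have h2 := Γ.map_perp m (hperp _ (mul_mem (inv_mem hm) (mul_mem hgM hm)))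
  rwa [← LinearEquiv.mul_apply, ← map_mul, mul_inv_cancel_left, map_mul, LinearEquiv.mul_apply] at h2

variable [Nontrivial V] [Finite V]

omit [Finite K] in
include hπ hρ hker in
theorem map_eq_top_of_moves (hsep : Sep Γ)
    (htr : ∀ {x v v'}, x ∈ Γ.sing → v ∈ Γ.sing → v' ∈ Γ.sing → ¬ Γ.perp x v → ¬ Γ.perp x v' →
      ∃ g ∈ Γ.rootGp x, ∃ c : F, c ≠ 0 ∧ ρ g v = c • v')
    (he : e ∈ Γ.sing) {M : Subgroup E} (hM : stab ρ (Submodule.span F {e}) ≤ M) {m : E} (hm : m ∈ M)
    (hne : ¬ Γ.perp e (ρ m e)) : M.map π = ⊤ := by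
  have hroot : Γ.rootGp e ≤ M := fun g hg => hM (mem_stab_point (by
    rw [hg.1 e (Submodule.mem_span_singleton_self e)]; exact Submodule.mem_span_singleton_self e))
  have hall := Γ.rootGp_le @htr he hroot hm hne
  obtain ⟨y, hy, hey⟩ := Γ.partner he
  have hye : y ∉ Submodule.span F {e} := fun h => by
    obtain ⟨c, rfl⟩ := Submodule.mem_span_singleton.1 h
    exact hey (Γ.perp_smul c (Γ.self he))
  obtain ⟨a, ha, hay⟩ := hsep ∅ e y Set.subsingleton_empty (by simpa using he)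
    (by simpa using Γ.self he) (by simp [Γ.ne_zero he]) hy (by simpa using hye)
  have ha' : a ∈ Γ.rootGp e := by simpa [Geom.rootGp] using ha
  refine map_eq_top_of_invariant hπ {a | ∃ x ∈ Γ.sing, a ∈ Γ.rootGp x} ?_ ⟨a, ⟨e, he, ha'⟩, fun h => ?_⟩ ?_
  · rintro g b ⟨x, hx, hb⟩
    exact ⟨ρ g x, Γ.map_sing g hx, Γ.conj_rootGp g hb⟩
  · obtain ⟨n, hn⟩ := (IsPGroup.iff_orderOf.1 (isPGroup_flagFix (p := p) ρ hρ _ _)) ⟨a, ha'⟩
    replace hn : orderOf a = p ^ n := (Subgroup.orderOf_coe _).trans hn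
    have h4 : orderOf a = 1 :=
      Nat.eq_one_of_dvd_coprimes (((((Fact.out : p.Prime).coprime_iff_not_dvd).2 hker)).pow_left n)
        (hn ▸ dvd_rfl) (Subgroup.orderOf_dvd_natCard _ (MonoidHom.mem_ker.2 h))
    rw [orderOf_eq_one_iff] at h4
    rw [h4, map_one, LinearEquiv.coe_one, id_eq, sub_self] at hay
    exact hay (Submodule.zero_mem _)
  · rintro b ⟨x, hx, hb⟩
    exact hall x hx hb

omit [Finite K] [IsSimpleGroup K] in
include hρ P in
theorem stab_point_ne_top (hsep : Sep Γ) (he : e ∈ Γ.sing) :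
    stab ρ (Submodule.span F {e}) ≠ ⊤ := by
  intro h
  obtain ⟨z, hz, hez⟩ := Γ.partner he
  have hze : e ∉ Submodule.span F {z} := fun h' => by
    obtain ⟨c, rfl⟩ := Submodule.mem_span_singleton.1 h'
    exact hez (Γ.symm (Γ.perp_smul c (Γ.self hz)))
  obtain ⟨g, hg, hge⟩ := hsep ∅ z e Set.subsingleton_empty (by simpa using hz)
    (by simpa using Γ.self hz) (by simp [Γ.ne_zero hz]) he (by simpa using hze)
  obtain ⟨n, hn⟩ := isPGroup_flagFix (p := p) ρ hρ _ _ ⟨g, hg⟩
  obtain ⟨c, hc⟩ := Submodule.mem_span_singleton.1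
    (((h ▸ Subgroup.mem_top g : g ∈ stab ρ (Submodule.span F {e})) e).2 (Submodule.mem_span_singleton_self e))
  rw [eq_self_of_smul ⟨n, congrArg Subtype.val hn⟩ hc.symm, sub_self] at hge
  exact hge (Submodule.zero_mem _)

omit [Finite E] [Finite K] [IsSimpleGroup K] [Fact p.Prime] [CharP F p] [Nontrivial V] [Finite V] in
include hsc hπ in
theorem map_stab_ne_top {W : Submodule F V} (h : stab ρ W ≠ ⊤) : (stab ρ W).map π ≠ ⊤ := fun e1 => h (by
  rw [← Subgroup.comap_map_eq_self (ker_le_stab π hsc W), e1, Subgroup.comap_top])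

omit [IsSimpleGroup K] in
include hρ hker hsc in
/-- Stabilisers of subspaces carried into themselves by the semilinear maps are invariant. -/
theorem inv_map_stab (hauto : ∀ α : MulAut K, SemiInd Γ π α) {W : Submodule F V}
    (hW : ∀ f : V →+ V, (∀ (c : F) v, ∃ d : F, f (c • v) = d • f v) → (∀ x ∈ Γ.sing, f x ∈ Γ.sing) →
      (∀ h ∈ P, ∃ g ∈ P, ∀ v, ρ h (f v) = f (ρ g v)) → Function.Injective f → ∀ w ∈ W, f w ∈ W) :
    Inv p ((P.mapSurjective hπ : Sylow p K) : Subgroup K) ((stab ρ W).map π) := by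
  intro α _ hU
  obtain ⟨f, hinj, hsl, hsing, hg⟩ := hauto α
  have hfW := hW f hsl hsing (fun h hh => exists_source π hπ hρ hker hsc P hU hinj hg hh) hinj
  have hsurj : Function.Surjective (fun x : W => (⟨f x, hfW x x.2⟩ : W)) :=
    Finite.surjective_of_injective fun a b e1 => Subtype.ext (hinj (congrArg Subtype.val e1))
  refine Subgroup.eq_of_le_of_card_ge ?_ (le_of_eq (Nat.card_congr
    (((stab ρ W).map π).equivMapOfInjective α.toMonoidHom α.injective).toEquiv))
  rintro _ ⟨_, ⟨g, hgW, rfl⟩, rfl⟩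
  obtain ⟨g', hg', hact⟩ := hg g
  refine ⟨g', ?_, hg'⟩
  have h1 : g' ∈ stab ρ (Submodule.span F (W : Set V)) := by
    refine mem_stab_of_forall fun w hw => ?_
    obtain ⟨x, hx⟩ := hsurj ⟨w, hw⟩
    have hx' : f x = w := congrArg Subtype.val hx
    rw [← hx', hact, Submodule.span_eq]
    exact hfW _ ((hgW _).2 x.2)
  rwa [Submodule.span_eq] at h1

omit [IsSimpleGroup K] in
include hρ hker hsc in
theorem normalizer_ne_top (hsep : Sep Γ) (he : e ∈ Γ.sing) (hfe : ∀ g ∈ P, ρ g e = e) :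
    Subgroup.normalizer ((P : Subgroup E) : Set E) ≤ stab ρ (Submodule.span F {e}) ∧
    Subgroup.normalizer (((P.mapSurjective hπ : Sylow p K) : Subgroup K) : Set K) ≠ ⊤ := by
  have h1 : Subgroup.normalizer ((P : Subgroup E) : Set E) ≤ stab ρ (Submodule.span F {e}) := fun n hn =>
    mem_stab_point (fixed_unique Γ hρ P hsep he hfe (Γ.map_sing n he) fun g hg =>
      fixedSpace_invariant ρ hn (v := e) hfe g hg)
  refine ⟨h1, fun h => stab_point_ne_top Γ hρ P hsep he ?_⟩
  refine top_le_iff.1 (le_trans (fun g _ => comap_normalizer_le π hπ hρ hker hsc P ?_) h1)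
  rw [Subgroup.mem_comap, h]
  exact Subgroup.mem_top _

include hπ hρ hker hsc in
/-- Rank at least two. -/
theorem split_of_geom (hauto : ∀ α : MulAut K, SemiInd Γ π α)
    (hfix : ∀ H : Subgroup E, IsPGroup p H → H ≠ ⊥ → ∃ e ∈ Γ.sing, ∀ g ∈ H, ρ g e = e)
    (htr : ∀ {x v v'}, x ∈ Γ.sing → v ∈ Γ.sing → v' ∈ Γ.sing → ¬ Γ.perp x v → ¬ Γ.perp x v' →
      ∃ g ∈ Γ.rootGp x, ∃ c : F, c ≠ 0 ∧ ρ g v = c • v')
    (hsep : Sep Γ) (hirr : Irred Γ) (hsing : Γ.sing.Nonempty)
    (hline : ∀ e ∈ Γ.sing, ∀ H : Subgroup E, IsPGroup p H → (∀ g ∈ H, ρ g e = e) →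
      ∃ u ∈ Γ.sing, Γ.perp e u ∧ u ∉ Submodule.span F {e} ∧
        ∀ g ∈ H, ρ g u - u ∈ Submodule.span F {e}) : Split p K := by
  obtain ⟨P⟩ : Nonempty (Sylow p E) := inferInstance
  have hP : (P : Subgroup E) ≠ ⊥ := by
    obtain ⟨x, hx⟩ := hsing
    obtain ⟨y, hy, hxy⟩ := Γ.partner hx
    have hyx : y ∉ Submodule.span F {x} := fun h => by
      obtain ⟨c, rfl⟩ := Submodule.mem_span_singleton.1 h
      exact hxy (Γ.perp_smul c (Γ.self hx))
    obtain ⟨a, ha, hay⟩ := hsep ∅ x y Set.subsingleton_empty (by simpa using hx)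
      (by simpa using Γ.self hx) (by simp [Γ.ne_zero hx]) hy (by simpa using hyx)
    intro h
    obtain ⟨Q, hQ⟩ := (isPGroup_flagFix (p := p) ρ hρ (Submodule.span F (insert x ∅))
      (Γ.orth (insert x ∅))).exists_le_sylow
    have h1 : (Q : Subgroup E) = ⊥ := Subgroup.card_eq_one.1 (by
      rw [Q.card_eq_multiplicity, ← P.card_eq_multiplicity, h, Subgroup.card_bot])
    rw [h1] at hQ
    rw [Subgroup.mem_bot.1 (hQ ha), map_one, LinearEquiv.coe_one, id_eq, sub_self] at hay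
    exact hay (Submodule.zero_mem _)
  obtain ⟨e, he, hfe⟩ := hfix P P.isPGroup' hP
  obtain ⟨u, hu, heu, hue, hfu⟩ := hline e he P P.isPGroup' hfe
  have hnorm := normalizer_ne_top Γ π hπ hρ hker hsc P hsep he hfe
  have heu' : e ∉ Submodule.span F {u} := fun h => hue (by
    obtain ⟨c, hc⟩ := Submodule.mem_span_singleton.1 h
    refine Submodule.mem_span_singleton.2 ⟨c⁻¹, ?_⟩
    rw [← hc, inv_smul_smul₀ fun h0 => Γ.ne_zero he (by rw [← hc, h0, zero_smul])])
  obtain ⟨W, hW⟩ : ∃ W, W = Submodule.span F ({u, e} : Set V) := ⟨_, rfl⟩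
  have heW : e ∈ W := hW ▸ Submodule.subset_span (Or.inr rfl)
  have huW : u ∈ W := hW ▸ Submodule.subset_span (Or.inl rfl)
  have hPW : (P : Subgroup E) ≤ stab ρ W := fun g hg => by
    rw [hW]
    refine mem_stab_of_forall ?_
    rintro s (rfl | rfl)
    · have h1 := Submodule.add_mem _ (Submodule.span_mono (by simp) (hfu g hg))
        (Submodule.subset_span (Or.inl rfl) : s ∈ Submodule.span F ({s, e} : Set V))
      rwa [sub_add_cancel] at h1
    · rw [hfe g hg]; exact Submodule.subset_span (Or.inr rfl)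
  have hflag : flagFix ρ (Submodule.span F ({u, e} : Set V)) (Γ.orth {u, e}) ≤ P :=
    le_sylow_of_normalised P (isPGroup_flagFix ρ hρ _ _)
      (le_normalizer_of_conj fun g hg a ha => conj_mem_of_stab Γ (hW ▸ hPW hg) ha)
  -- the singular vectors moved by the Sylow subgroup into the point lie on the line
  have hline2 : ∀ v ∈ Γ.sing, (∀ g ∈ P, ρ g v - v ∈ Submodule.span F {e}) → v ∈ W := by
    intro v hv h
    by_contra hvW
    obtain ⟨g, hg, hne⟩ := hsep {e} u v Set.subsingleton_singleton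
      (by rintro a (rfl | rfl) <;> assumption)
      (by
        rintro a (rfl | rfl) b (rfl | rfl)
        exacts [Γ.self hu, Γ.symm heu, heu, Γ.self he])
      hue hv (hW ▸ hvW)
    exact hne (h g (hflag hg))
  -- an element moving the point along the line
  obtain ⟨t, ht, hte⟩ : ∃ t ∈ stab ρ W, t ∉ stab ρ (Submodule.span F {e}) := by
    obtain ⟨g, hg, hge⟩ := hsep ∅ u e Set.subsingleton_empty (by simpa using hu)
      (by simpa using Γ.self hu) (by simp [Γ.ne_zero hu]) he (by simpa using heu')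
    have hg' : g ∈ Γ.rootGp u := by simpa [Geom.rootGp] using hg
    have h1 := (hg'.2.1 e (fun w hw => hw ▸ Γ.symm heu)).1
    refine ⟨g, hW ▸ mem_stab_of_forall ?_, fun h => ?_⟩
    · rintro s (rfl | rfl)
      · rw [hg'.1 _ (Submodule.mem_span_singleton_self _)]; exact Submodule.subset_span (Or.inl rfl)
      · have h2 := Submodule.add_mem _ (Submodule.span_mono (by simp) h1)
          (Submodule.subset_span (Or.inr rfl) : s ∈ Submodule.span F ({u, s} : Set V))
        rwa [sub_add_cancel] at h2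
    · obtain ⟨n, hn⟩ := isPGroup_flagFix (p := p) ρ hρ _ _ ⟨g, hg⟩
      obtain ⟨c, hc⟩ := Submodule.mem_span_singleton.1 ((h e).2 (Submodule.mem_span_singleton_self e))
      rw [eq_self_of_smul ⟨n, congrArg Subtype.val hn⟩ hc.symm, sub_self] at hge
      exact hge (Submodule.zero_mem _)
  refine ⟨P.mapSurjective hπ, hnorm.2,
    {(stab ρ (Submodule.span F {e})).map π, (stab ρ W).map π}, ?_, ?_⟩
  · have hPe : (P : Subgroup E) ≤ stab ρ (Submodule.span F {e}) := Subgroup.le_normalizer.trans hnorm.1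
    rintro Y (rfl | rfl)
    · refine ⟨by rw [Sylow.coe_mapSurjective]; exact Subgroup.map_mono hPe,
        map_stab_ne_top π hπ hsc (stab_point_ne_top Γ hρ P hsep he),
        inv_map_stab Γ π hπ hρ hker hsc P hauto fun f hsl hsing hsrc _ w hw => ?_⟩
      obtain ⟨c, rfl⟩ := Submodule.mem_span_singleton.1 hw
      obtain ⟨d, hd⟩ := hsl c e
      rw [hd]
      refine Submodule.smul_mem _ d (fixed_unique Γ hρ P hsep he hfe (hsing e he) fun h hh => ?_)
      obtain ⟨g, hg, hact⟩ := hsrc h hh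
      rw [hact, hfe g hg]
    · refine ⟨by rw [Sylow.coe_mapSurjective]; exact Subgroup.map_mono hPW,
        map_stab_ne_top π hπ hsc fun h => ?_,
        inv_map_stab Γ π hπ hρ hker hsc P hauto fun f hsl hsing hsrc hinj w hw => ?_⟩
      · obtain ⟨g, hgu, hge⟩ := hirr u hu e he (Γ.symm heu) heu'
        have h1 : ρ g e ∈ W := ((h ▸ Subgroup.mem_top g : g ∈ stab ρ W) e).2 heW
        refine hge (Γ.span_le_orth (S := ({u, e} : Set V)) ?_ (hW ▸ heW) fun a ha => ?_)
        · rintro a (rfl | rfl) b (rfl | rfl)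
          exacts [Γ.self hu, Γ.symm heu, heu, Γ.self he]
        · refine Γ.symm (Γ.span_le_orth (S := ({u, e} : Set V)) ?_ (hW ▸ h1) fun b hb => ?_)
          · rintro a (rfl | rfl) b (rfl | rfl)
            exacts [Γ.self hu, Γ.symm heu, heu, Γ.self he]
          · rcases ha with rfl | rfl <;> rcases hb with rfl | rfl
            exacts [Γ.self hu, heu, Γ.symm heu, Γ.self he]
      · have hfe' : f e ∈ Submodule.span F {e} := by
          refine fixed_unique Γ hρ P hsep he hfe (hsing e he) fun h hh => ?_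
          obtain ⟨g, hg, hact⟩ := hsrc h hh
          rw [hact, hfe g hg]
        have hfsmul : ∀ x ∈ Submodule.span F {e}, f x ∈ Submodule.span F {e} := by
          intro x hx
          obtain ⟨c, rfl⟩ := Submodule.mem_span_singleton.1 hx
          obtain ⟨d, hd⟩ := hsl c e
          rw [hd]; exact Submodule.smul_mem _ d hfe'
        have hfu' : f u ∈ W := hline2 _ (hsing u hu) fun h hh => by
          obtain ⟨g, hg, hact⟩ := hsrc h hh
          rw [hact, ← map_sub]
          exact hfsmul _ (hfu g hg)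
        rw [hW, Submodule.mem_span_pair] at hw
        obtain ⟨a, b, rfl⟩ := hw
        obtain ⟨a', ha'⟩ := hsl a u
        rw [map_add, ha']
        exact W.add_mem (W.smul_mem a' hfu') ((Submodule.span_le.2 (by simpa using heW))
          (hfsmul _ (Submodule.smul_mem _ b (Submodule.mem_span_singleton_self e))))
  · rw [sSup_pair]
    obtain ⟨M, hM⟩ : ∃ M, M = ((stab ρ (Submodule.span F {e})).map π ⊔ (stab ρ W).map π).comap π := ⟨_, rfl⟩
    have hM1 : stab ρ (Submodule.span F {e}) ≤ M := hM ▸ Subgroup.map_le_iff_le_comap.1 le_sup_left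
    rcases le_stab_or Γ hirr he hM1 with h | ⟨m, hm, hne⟩
    · exact absurd (h (hM ▸ Subgroup.map_le_iff_le_comap.1 le_sup_right ht)) hte
    · rw [eq_top_iff, ← map_eq_top_of_moves Γ π hπ hρ hker hsep @htr he hM1 hm hne, hM]
      exact Subgroup.map_comap_le _ _

include hπ hρ hker hsc in
/-- Rank one. -/
theorem rankOne_of_geom
    (htr : ∀ {x v v'}, x ∈ Γ.sing → v ∈ Γ.sing → v' ∈ Γ.sing → ¬ Γ.perp x v → ¬ Γ.perp x v' →
      ∃ g ∈ Γ.rootGp x, ∃ c : F, c ≠ 0 ∧ ρ g v = c • v')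
    (hsep : Sep Γ) (hirr : Irred Γ) (P : Sylow p E) (he : e ∈ Γ.sing) (hfe : ∀ g ∈ P, ρ g e = e)
    (hP : (P : Subgroup E) ≤ Γ.rootGp e) : RankOne p K := by
  have hnorm := normalizer_ne_top Γ π hπ hρ hker hsc P hsep he hfe
  have hPeq : (P : Subgroup E) = Γ.rootGp e := le_antisymm hP (rootGp_le_sylow Γ hρ P hfe)
  have hle : stab ρ (Submodule.span F {e}) ≤ Subgroup.normalizer ((P : Subgroup E) : Set E) := by
    rw [hPeq]
    refine le_normalizer_of_conj fun g hg a ha => ?_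
    obtain ⟨c, hc⟩ := Submodule.mem_span_singleton.1 ((hg e).2 (Submodule.mem_span_singleton_self e))
    have h1 := Γ.conj_rootGp g ha
    rwa [← hc, Γ.rootGp_smul fun h0 => Γ.ne_zero (Γ.map_sing g he) (by rw [← hc, h0, zero_smul])] at h1
  have hS : stab ρ (Submodule.span F {e}) ≤
      (Subgroup.normalizer (((P.mapSurjective hπ : Sylow p K) : Subgroup K) : Set K)).comap π := by
    intro g hg
    rw [Subgroup.mem_comap, Sylow.coe_mapSurjective]
    exact Subgroup.le_normalizer_map _ ⟨g, hle hg, rfl⟩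
  refine ⟨P.mapSurjective hπ, hnorm.2, fun Y hY => ?_⟩
  have hM1 : stab ρ (Submodule.span F {e}) ≤ Y.comap π := hS.trans (Subgroup.comap_mono hY.le)
  rcases le_stab_or Γ hirr he hM1 with h | ⟨m, hm, hne⟩
  · exfalso
    refine hY.ne (le_antisymm hY.le fun y hy => ?_)
    obtain ⟨g, rfl⟩ := hπ y
    exact hS (h hy)
  · rw [eq_top_iff, ← map_eq_top_of_moves Γ π hπ hρ hker hsep @htr he hM1 hm hne]
    exact Subgroup.map_comap_le _ _

end Data

end CfsgLib.HallGen.PMinimal
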