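import Cfsg.Agent.Lib.HallGen.PMinimal.LinearBasic
import Cfsg.Agent.Lib.HallGen.PMinimal.Polar

/-!
The special linear groups: rank one, rank two, or not minimal over a Sylow subgroup.
-/

set_option autoImplicit false

namespace CfsgLib.HallGen.PMinimal.Linear

open Matrix CfsgLib.Known.AutPSL CfsgLib.Blocks.DefectLie CfsgLib.HallGen.PMinimal
open CfsgLib.HallGen.Overgroup (map_eq_top_of_invariant)

variable {n : ℕ} {F : Type*} [Field F] [Fintype F] {p : ℕ} [Fact p.Prime] [CharP F p]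
  (hn : 2 ≤ n) (P : Sylow p (SL n F))

omit [Fact p.Prime] [CharP F p] in
theorem scalar_of_mem_ker {z : SL n F} (hz : z ∈ (proj n F).ker) :
    ∃ c : F, ∀ v, vRep n F z v = c • v := by
  rw [proj, QuotientGroup.ker_mk'] at hz
  obtain ⟨r, -, hr⟩ := Matrix.SpecialLinearGroup.mem_center_iff.1 hz
  refine ⟨r, fun v => ?_⟩
  rw [slRep_apply, ← hr]
  simp

omit [Fact p.Prime] [CharP F p] in
theorem dual_scalar_of_mem_ker {z : SL n F} (hz : z ∈ (proj n F).ker) :
    ∃ c : F, ∀ v, dRep n F z v = c • v := by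
  refine scalar_of_mem_ker (z := slIota z) ?_
  rw [MonoidHom.mem_ker, ← iota_proj, MonoidHom.mem_ker.1 hz, map_one]

include p in
theorem not_dvd_ker [Nonempty (Fin n)] : ¬ p ∣ Nat.card (proj n F).ker := by
  rw [proj, QuotientGroup.ker_mk']
  refine not_dvd_card_center (vRep n F) slRep_injective fun z hz => scalar_of_mem_ker ?_
  rw [proj, QuotientGroup.ker_mk']
  exact hz

theorem simple_PSL (h : n = 2 → 4 ≤ Fintype.card F) (hn : 2 ≤ n) : IsSimpleGroup (PSL n F) := by
  haveI : Nonempty (Fin n) := ⟨⟨0, by omega⟩⟩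
  rcases Nat.lt_or_ge n 3 with h3 | h3
  · obtain rfl : n = 2 := by omega
    exact CfsgLib.Classical.isSimpleGroup_PSL_two (h rfl)
  · exact CfsgLib.Classical.isSimpleGroup_PSL h3

include hn in
/-- An overgroup of the Sylow subgroup moving the fixed point off the fixed hyperplane is everything. -/
theorem map_eq_top_of_moves [IsSimpleGroup (PSL n F)] {M : Subgroup (SL n F)}
    (hPM : (P : Subgroup (SL n F)) ≤ M) {e a : Fin n → F} (he0 : e ≠ 0) (he : ∀ g ∈ P, vRep n F g e = e)
    (ha : ∀ g ∈ P, dRep n F g a = a) {m : SL n F} (hm : m ∈ M) (hme : a ⬝ᵥ vRep n F m e ≠ 0) :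
    M.map (proj n F) = ⊤ := by
  haveI : Nonempty (Fin n) := ⟨⟨0, by omega⟩⟩
  let A : (Fin n → F) → Set (SL n F) := fun x => {g | ∃ ψ h, g = tvSL x ψ h}
  have hAe : A e ⊆ M := by
    rintro _ ⟨ψ, h, rfl⟩
    exact hPM (tv_mem hn P h (le_stab_point he) (Submodule.mem_span_singleton_self e) fun w hw => by
      obtain ⟨c, rfl⟩ := Submodule.mem_span_singleton.1 hw
      rw [dotProduct_smul, h, smul_zero])
  have hconj : ∀ (g : SL n F) (x : Fin n → F), ∀ b ∈ A x, g * b * g⁻¹ ∈ A (vRep n F g x) := by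
    rintro g x _ ⟨ψ, h, rfl⟩
    refine ⟨dRep n F g ψ, by rw [dot_apply, h], slRep_injective (LinearEquiv.ext fun v => ?_)⟩
    obtain ⟨w, rfl⟩ := (vRep n F g).surjective v
    show vRep n F _ _ = vRep n F _ _
    rw [map_mul, map_mul, LinearEquiv.mul_apply, LinearEquiv.mul_apply, vRep_tv, vRep_tv, dot_apply]
    have h1 : vRep n F g⁻¹ (vRep n F g w) = w := by
      rw [← LinearEquiv.mul_apply, ← map_mul, inv_mul_cancel, map_one]; rfl
    rw [h1, map_add, map_smul]
  have hmove : ∀ {x}, A x ⊆ M → ∀ {g}, g ∈ M → A (vRep n F g x) ⊆ M := by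
    intro x hx g hg b hb
    have h1 := hconj g⁻¹ _ b hb
    rw [← LinearEquiv.mul_apply, ← map_mul, inv_mul_cancel, map_one, inv_inv] at h1
    have h2 := mul_mem (mul_mem hg (hx h1)) (inv_mem hg)
    simpa [mul_assoc] using h2
  have hsmul : ∀ {c : F}, c ≠ 0 → ∀ x, A (c • x) ⊆ M → A x ⊆ M := by
    rintro c hc x hx _ ⟨ψ, h, rfl⟩
    refine hx ⟨c⁻¹ • ψ, by rw [smul_dotProduct, dotProduct_smul, h, smul_zero, smul_zero], slRep_injective
      (LinearEquiv.ext fun v => ?_)⟩
    show vRep n F _ v = vRep n F _ v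
    rw [vRep_tv, vRep_tv, smul_dotProduct, smul_smul, smul_eq_mul, mul_comm c⁻¹, mul_assoc,
      inv_mul_cancel₀ hc, mul_one]
  have hC : ∀ u (h : a ⬝ᵥ u = 0), tvSL u a h ∈ M := fun u h =>
    hPM (tv_mem hn P h (stab_ann hn P ha) (mem_ann.2 h) fun w hw => mem_ann.1 hw)
  set y := vRep n F m e with hy
  have hoff : ∀ z, a ⬝ᵥ z ≠ 0 → A z ⊆ M := by
    intro z hz
    obtain ⟨c, hc⟩ : ∃ c, c = (a ⬝ᵥ y) / (a ⬝ᵥ z) := ⟨_, rfl⟩
    obtain ⟨u, hu⟩ : ∃ u, u = (a ⬝ᵥ y)⁻¹ • (c • z - y) := ⟨_, rfl⟩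
    have hau : a ⬝ᵥ u = 0 := by
      rw [hu, dotProduct_smul, dotProduct_sub, dotProduct_smul, smul_eq_mul, smul_eq_mul, hc,
        div_mul_cancel₀ _ hz, sub_self, mul_zero]
    have h1 := hmove (hmove hAe hm) (hC u hau)
    rw [← hy, vRep_tv, hu, smul_inv_smul₀ hme, add_sub_cancel] at h1
    exact hsmul (hc ▸ div_ne_zero hme hz) z h1
  have hall : ∀ x, x ≠ 0 → A x ⊆ M := by
    intro x hx
    by_cases hxH : a ⬝ᵥ x = 0
    swap
    · exact hoff x hxH
    have hxz : x ∉ Submodule.span F {y} := fun h => by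
      obtain ⟨c, rfl⟩ := Submodule.mem_span_singleton.1 h
      rw [dotProduct_smul, smul_eq_mul, mul_eq_zero] at hxH
      exact hx (by rw [hxH.resolve_right hme, zero_smul])
    obtain ⟨ψ, hψ, hψW⟩ := exists_dot_sep hxz
    have hψy : ψ ⬝ᵥ y = 0 := hψW y (Submodule.mem_span_singleton_self y)
    have hgM : tvSL y ψ hψy ∈ M := hoff y hme ⟨ψ, hψy, rfl⟩
    have hgx : a ⬝ᵥ vRep n F (tvSL y ψ hψy) x ≠ 0 := by
      rw [vRep_tv, dotProduct_add, hxH, zero_add, hψ, one_smul]
      exact hme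
    have h1 := hmove (hoff _ hgx) (inv_mem hgM)
    rwa [← LinearEquiv.mul_apply, ← map_mul, inv_mul_cancel, map_one] at h1
  obtain ⟨w, hw, hw0⟩ := exists_ann_notMem e (W := (⊥ : Submodule F (Fin n → F))) (by rw [finrank_bot]; omega)
  have hwe : w ⬝ᵥ e = 0 := by rw [dotProduct_comm]; exact hw
  refine map_eq_top_of_invariant proj_surjective {b | ∃ x, x ≠ 0 ∧ b ∈ A x} ?_
    ⟨tvSL e w hwe, ⟨e, he0, w, hwe, rfl⟩, fun h => ?_⟩ ?_
  · rintro g b ⟨x, hx, hb⟩
    exact ⟨vRep n F g x, fun h => hx (by simpa using h), hconj g x b hb⟩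
  · obtain ⟨c, hc⟩ := scalar_of_mem_ker (MonoidHom.mem_ker.2 h)
    have h1 := hc e
    rw [vRep_tv, hwe, zero_smul, add_zero] at h1
    have hc1 : c = 1 := by
      refine smul_left_injective F he0 ?_
      show c • e = (1 : F) • e
      rw [one_smul, ← h1]
    have hw0' : w ≠ 0 := fun e1 => hw0 (e1 ▸ Submodule.zero_mem _)
    obtain ⟨v, hv, -⟩ := exists_dot_sep (W := (⊥ : Submodule F (Fin n → F))) (v := w)
      (fun h2 => hw0' ((Submodule.mem_bot F).1 h2))
    have h2 := hc v
    rw [vRep_tv, hc1, one_smul, add_eq_left, dotProduct_comm, hv, one_smul] at h2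
    exact he0 h2
  · rintro b ⟨x, hx, hb⟩
    exact hall x hx hb

include hn in
/-- An overgroup of the Sylow subgroup is everything or has an invariant subspace in the hyperplane. -/
theorem top_or_invariant [IsSimpleGroup (PSL n F)] {M : Subgroup (SL n F)}
    (hPM : (P : Subgroup (SL n F)) ≤ M) {e a : Fin n → F} (he0 : e ≠ 0) (he : ∀ g ∈ P, vRep n F g e = e)
    (ha : ∀ g ∈ P, dRep n F g a = a) :
    M.map (proj n F) = ⊤ ∨ ∃ W, e ∈ W ∧ W ≤ ann a ∧ M ≤ stab (vRep n F) W := by
  by_cases h : ∃ m ∈ M, a ⬝ᵥ vRep n F m e ≠ 0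
  · obtain ⟨m, hm, hme⟩ := h
    exact Or.inl (map_eq_top_of_moves hn P hPM he0 he ha hm hme)
  push Not at h
  obtain ⟨S, hS⟩ : ∃ S : Set (Fin n → F), S = {x | ∃ m ∈ M, vRep n F m e = x} := ⟨_, rfl⟩
  refine Or.inr ⟨Submodule.span F S, Submodule.subset_span (hS ▸ ⟨1, one_mem M, by simp⟩),
    Submodule.span_le.2 ?_, fun g hg => mem_stab_of_forall ?_⟩
  · rw [hS]
    rintro _ ⟨m, hm, rfl⟩
    exact mem_ann.2 (h m hm)
  · rw [hS]
    rintro _ ⟨m, hm, rfl⟩
    refine Submodule.subset_span ⟨g * m, mul_mem hg hm, ?_⟩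
    rw [map_mul, LinearEquiv.mul_apply]

omit [Fact p.Prime] [CharP F p] in
include hn in
/-- The stabiliser of a subspace between the point and the hyperplane is proper. -/
theorem stab_ne_top {e a : Fin n → F} (he0 : e ≠ 0) (ha0 : a ≠ 0) (hae : a ⬝ᵥ e = 0)
    {W : Submodule F (Fin n → F)} (heW : e ∈ W) (hW : W ≤ ann a) : stab (vRep n F) W ≠ ⊤ := by
  intro h
  obtain ⟨z, hz, -⟩ := exists_dot_sep (W := (⊥ : Submodule F (Fin n → F))) (v := a)
    (fun h2 => ha0 ((Submodule.mem_bot F).1 h2))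
  have haz : a ⬝ᵥ z = 1 := by rw [dotProduct_comm]; exact hz
  have hez : e ∉ Submodule.span F {z} := fun h1 => by
    obtain ⟨c, rfl⟩ := Submodule.mem_span_singleton.1 h1
    rw [dotProduct_smul, haz, smul_eq_mul, mul_one] at hae
    exact he0 (by rw [hae, zero_smul])
  obtain ⟨ψ, hψ, hψz⟩ := exists_dot_sep hez
  have h1 := ((h ▸ Subgroup.mem_top (tvSL z ψ (hψz z (Submodule.mem_span_singleton_self z))) :
    tvSL z ψ _ ∈ stab (vRep n F) W) e).2 heW
  have h2 := mem_ann.1 (hW h1)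
  rw [vRep_tv, hψ, one_smul, dotProduct_add, hae, zero_add, haz] at h2
  exact one_ne_zero h2

theorem map_stab_ne_top' {W : Submodule F (Fin n → F)} (h : stab (vRep n F) W ≠ ⊤) :
    (stab (vRep n F) W).map (proj n F) ≠ ⊤ :=
  map_stab_ne_top (proj n F) proj_surjective (fun _ hz => scalar_of_mem_ker hz) h

include hn in
theorem normalizer_le {e : Fin n → F} (he0 : e ≠ 0) (he : ∀ g ∈ P, vRep n F g e = e) :
    Subgroup.normalizer ((P : Subgroup (SL n F)) : Set (SL n F)) ≤
      stab (vRep n F) (Submodule.span F {e}) := fun g hg => by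
  have h1 : vRep n F g e ∈ fixedSpace (vRep n F) (P : Subgroup (SL n F)) :=
    fixedSpace_invariant (vRep n F) hg (v := e) he
  rw [fixed_eq hn P he0 he] at h1
  exact mem_stab_point h1

include hn in
theorem normalizer_ne_top {e a : Fin n → F} (he0 : e ≠ 0) (he : ∀ g ∈ P, vRep n F g e = e) (ha0 : a ≠ 0)
    (ha : ∀ g ∈ P, dRep n F g a = a) :
    Subgroup.normalizer (((P.mapSurjective (proj_surjective (n := n) (F := F)) : Sylow p (PSL n F)) :
      Subgroup (PSL n F)) : Set (PSL n F)) ≠ ⊤ := by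
  haveI : Nonempty (Fin n) := ⟨⟨0, by omega⟩⟩
  intro h
  refine stab_ne_top hn he0 ha0 (dot_fixed_pair hn P he0 he ha0 ha) (Submodule.mem_span_singleton_self e)
    (Submodule.span_le.2 (Set.singleton_subset_iff.2 (mem_ann.2 (dot_fixed_pair hn P he0 he ha0 ha))))
    (top_le_iff.1 (le_trans (fun g _ => comap_normalizer_le (proj n F) proj_surjective slRep_injective not_dvd_ker
      (fun _ hz => scalar_of_mem_ker hz) P ?_) (normalizer_le hn P he0 he)))
  rw [Subgroup.mem_comap, h]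
  exact Subgroup.mem_top _

/-- The groups of degree two. -/
theorem rankOne_PSL_two (h4 : 4 ≤ Fintype.card F) : RankOne p (PSL 2 F) := by
  haveI := simple_PSL (n := 2) (F := F) (fun _ => h4) le_rfl
  obtain ⟨P⟩ : Nonempty (Sylow p (SL 2 F)) := inferInstance
  obtain ⟨e, he0, he⟩ := exists_vec_fixed P
  obtain ⟨a, ha0, ha⟩ := exists_dual_fixed le_rfl P
  have hae := dot_fixed_pair le_rfl P he0 he ha0 ha
  have hann : ann a = Submodule.span F {e} := by
    refine (Submodule.eq_of_le_of_finrank_le (Submodule.span_le.2 (Set.singleton_subset_iff.2 (mem_ann.2 hae))) ?_).symm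
    rw [finrank_span_singleton he0]
    obtain ⟨z, hz, -⟩ := exists_dot_sep (W := (⊥ : Submodule F (Fin 2 → F))) (v := a)
      (fun h2 => ha0 ((Submodule.mem_bot F).1 h2))
    have hne : ann a ≠ ⊤ := fun h => by
      have h1 : a ⬝ᵥ z = 0 := mem_ann.1 (h ▸ Submodule.mem_top)
      rw [dotProduct_comm, hz] at h1
      exact one_ne_zero h1
    have := Submodule.finrank_lt hne
    rw [Module.finrank_fin_fun] at this
    omega
  obtain ⟨U, hU⟩ : ∃ U, U = P.mapSurjective (proj_surjective (n := 2) (F := F)) := ⟨_, rfl⟩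
  have hP : (P : Subgroup (SL 2 F)) ≤ flagFix (vRep 2 F) (Submodule.span F {e}) (Submodule.span F {e}) := by
    obtain ⟨u, -, hue, hfu⟩ := exists_fixed_mod (p := p) P.isPGroup' (le_stab_point (ρ := vRep 2 F) he) (O := ⊤)
      (fun _ _ _ _ => Submodule.mem_top) fun h => by
        have h1 := Submodule.finrank_mono h
        rw [finrank_top, Module.finrank_fin_fun, finrank_span_singleton he0] at h1
        omega
    have htop : Submodule.span F ({u, e} : Set (Fin 2 → F)) = ⊤ := by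
      refine Submodule.eq_top_of_finrank_eq (le_antisymm ((Submodule.finrank_le _)) ?_)
      rw [Module.finrank_fin_fun]
      have h1 : Submodule.span F {e} < Submodule.span F ({u, e} : Set (Fin 2 → F)) :=
        lt_of_le_of_ne (Submodule.span_mono (by simp)) fun h => hue (h ▸ Submodule.subset_span (Or.inl rfl))
      have h2 := Submodule.finrank_lt_finrank_of_lt h1
      rw [finrank_span_singleton he0] at h2
      omega
    intro g hg
    have hfe : ∀ w ∈ Submodule.span F {e}, vRep 2 F g w = w := fun w hw => by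
      obtain ⟨c, rfl⟩ := Submodule.mem_span_singleton.1 hw
      rw [map_smul, he g hg]
    refine mem_flagFix _ le_rfl hfe (fun w hw => by rw [hfe w hw, sub_self]; exact Submodule.zero_mem _) fun w => ?_
    have h1 : w ∈ Submodule.span F ({u, e} : Set (Fin 2 → F)) := htop ▸ Submodule.mem_top
    obtain ⟨s, t, rfl⟩ := Submodule.mem_span_pair.1 h1
    rw [map_add, map_smul, map_smul, he g hg, add_sub_add_right_eq_sub, ← smul_sub]
    exact Submodule.smul_mem _ s (hfu g hg)
  haveI : Nontrivial (Fin 2 → F) := nontrivial_vec le_rfl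
  have hPeq : (P : Subgroup (SL 2 F)) = flagFix (vRep 2 F) (Submodule.span F {e}) (Submodule.span F {e}) :=
    le_antisymm hP (CfsgLib.HallGen.Overgroup.le_sylow_of_normalised P (isPGroup_flagFix _ slRep_injective _ _)
      (CfsgLib.HallGen.Overgroup.le_normalizer_of_conj fun g hg b hb =>
        CfsgLib.HallGen.Overgroup.Geom.conj_mem_flagFix g hb (fun w => (le_stab_point he hg w).symm)
          fun w => (le_stab_point he hg w).symm))
  have hS : stab (vRep 2 F) (Submodule.span F {e}) ≤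
      (Subgroup.normalizer ((U : Subgroup (PSL 2 F)) : Set (PSL 2 F))).comap (proj 2 F) := by
    intro g hg
    rw [Subgroup.mem_comap, hU, Sylow.coe_mapSurjective]
    refine Subgroup.le_normalizer_map _ ⟨g, ?_, rfl⟩
    rw [hPeq]
    exact CfsgLib.HallGen.Overgroup.le_normalizer_of_conj (fun y hy b hb =>
      CfsgLib.HallGen.Overgroup.Geom.conj_mem_flagFix y hb (fun w => (hy w).symm) fun w => (hy w).symm) hg
  refine ⟨U, hU ▸ normalizer_ne_top le_rfl P he0 he ha0 ha, fun Y hY => ?_⟩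
  have hPM : (P : Subgroup (SL 2 F)) ≤ Y.comap (proj 2 F) :=
    ((le_stab_point he).trans hS).trans (Subgroup.comap_mono hY.le)
  rcases top_or_invariant le_rfl P hPM he0 he ha with h | ⟨W, heW, hW, hM⟩
  · rw [eq_top_iff, ← h]
    exact Subgroup.map_comap_le _ _
  · exfalso
    have hWe : W = Submodule.span F {e} :=
      le_antisymm (hann ▸ hW) (Submodule.span_le.2 (Set.singleton_subset_iff.2 heW))
    refine hY.ne (le_antisymm hY.le fun y hy => ?_)
    obtain ⟨g, rfl⟩ := proj_surjective y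
    exact hS (hWe ▸ hM hy)

/-- The groups of degree three. -/
theorem rankTwo_PSL_three : RankTwo p (PSL 3 F) := by
  haveI := simple_PSL (n := 3) (F := F) (fun h => absurd h (by norm_num)) (by norm_num)
  haveI : Nontrivial (Fin 3 → F) := nontrivial_vec (by norm_num)
  have h2 : 2 ≤ 3 := by norm_num
  obtain ⟨P⟩ : Nonempty (Sylow p (SL 3 F)) := inferInstance
  obtain ⟨e, he0, he⟩ := exists_vec_fixed P
  obtain ⟨a, ha0, ha⟩ := exists_dual_fixed h2 P
  have hae := dot_fixed_pair h2 P he0 he ha0 ha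
  obtain ⟨U, hU⟩ : ∃ U, U = P.mapSurjective (proj_surjective (n := 3) (F := F)) := ⟨_, rfl⟩
  have heH : Submodule.span F {e} ≤ ann a := Submodule.span_le.2 (Set.singleton_subset_iff.2 (mem_ann.2 hae))
  have hHne : ann a ≠ ⊤ := fun h => by
    obtain ⟨z, hz, -⟩ := exists_dot_sep (W := (⊥ : Submodule F (Fin 3 → F))) (v := a)
      (fun h2 => ha0 ((Submodule.mem_bot F).1 h2))
    have h1 : a ⬝ᵥ z = 0 := mem_ann.1 (h ▸ Submodule.mem_top)
    rw [dotProduct_comm, hz] at h1
    exact one_ne_zero h1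
  have hH2 : Module.finrank F (ann a) = 2 := by
    have := Submodule.finrank_lt hHne
    rw [Module.finrank_fin_fun] at this
    have := finrank_ann a
    omega
  obtain ⟨u, hu, hue⟩ := exists_fix2 h2 P he0 he
  have huH : a ⬝ᵥ u = 0 := mem_ann.1 (fix2_le_ann h2 P le_rfl he0 he ha hu)
  have hfu : ∀ g ∈ P, vRep 3 F g u - u ∈ Submodule.span F {e} := fun g hg => fixed_eq h2 P he0 he ▸ hu g hg
  have hHspan : ann a = Submodule.span F {u, e} := by
    refine (Submodule.eq_of_le_of_finrank_le (Submodule.span_le.2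
      (Set.insert_subset (mem_ann.2 huH) (Set.singleton_subset_iff.2 (mem_ann.2 hae)))) ?_).symm
    rw [hH2]
    have h1 : Submodule.span F {e} < Submodule.span F ({u, e} : Set (Fin 3 → F)) :=
      lt_of_le_of_ne (Submodule.span_mono (by simp)) fun h => hue (h ▸ Submodule.subset_span (Or.inl rfl))
    have h3 := Submodule.finrank_lt_finrank_of_lt h1
    rw [finrank_span_singleton he0] at h3
    omega
  have hPflag : (P : Subgroup (SL 3 F)) ≤ flagFix (vRep 3 F) (Submodule.span F {e}) (ann a) := by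
    intro g hg
    refine mem_flagFix _ heH (fun w hw => ?_) (fun w hw => ?_) fun w => ?_
    · obtain ⟨c, rfl⟩ := Submodule.mem_span_singleton.1 hw
      rw [map_smul, he g hg]
    · rw [hHspan, Submodule.mem_span_pair] at hw
      obtain ⟨s, t, rfl⟩ := hw
      rw [map_add, map_smul, map_smul, he g hg, add_sub_add_right_eq_sub, ← smul_sub]
      exact Submodule.smul_mem _ s (hfu g hg)
    · rw [mem_ann, dotProduct_sub, dot_fixed (ha g hg), sub_self]
  obtain ⟨S1, hS1⟩ : ∃ S1, S1 = stab (vRep 3 F) (Submodule.span F {e}) := ⟨_, rfl⟩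
  obtain ⟨S2, hS2⟩ : ∃ S2, S2 = stab (vRep 3 F) (ann a) := ⟨_, rfl⟩
  have hP1 : (P : Subgroup (SL 3 F)) ≤ S1 := hS1 ▸ le_stab_point he
  have hP2 : (P : Subgroup (SL 3 F)) ≤ S2 := hS2 ▸ stab_ann h2 P ha
  have hPeq : (P : Subgroup (SL 3 F)) = flagFix (vRep 3 F) (Submodule.span F {e}) (ann a) :=
    le_antisymm hPflag (CfsgLib.HallGen.Overgroup.le_sylow_of_normalised P
      (isPGroup_flagFix _ slRep_injective _ _) (CfsgLib.HallGen.Overgroup.le_normalizer_of_conj fun g hg b hb =>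
        CfsgLib.HallGen.Overgroup.Geom.conj_mem_flagFix g hb (fun w => ((hS1 ▸ hP1 hg : g ∈ stab _ _) w).symm)
          fun w => ((hS2 ▸ hP2 hg : g ∈ stab _ _) w).symm))
  have hker1 : (proj 3 F).ker ≤ S1 := hS1 ▸ ker_le_stab _ (fun _ hz => scalar_of_mem_ker hz) _
  have hker2 : (proj 3 F).ker ≤ S2 := hS2 ▸ ker_le_stab _ (fun _ hz => scalar_of_mem_ker hz) _
  have hinf : S1.map (proj 3 F) ⊓ S2.map (proj 3 F) =
      Subgroup.normalizer ((U : Subgroup (PSL 3 F)) : Set (PSL 3 F)) := by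
    refine le_antisymm (fun y hy => ?_) fun y hy => ?_
    · obtain ⟨g, rfl⟩ := proj_surjective y
      rw [← Subgroup.mem_comap, Subgroup.comap_inf, Subgroup.comap_map_eq_self hker1,
        Subgroup.comap_map_eq_self hker2, hS1, hS2] at hy
      rw [hU, Sylow.coe_mapSurjective]
      refine Subgroup.le_normalizer_map _ ⟨g, ?_, rfl⟩
      rw [hPeq]
      exact CfsgLib.HallGen.Overgroup.le_normalizer_of_conj
        (M := stab (vRep 3 F) (Submodule.span F {e}) ⊓ stab (vRep 3 F) (ann a)) (fun z hz b hb =>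
        CfsgLib.HallGen.Overgroup.Geom.conj_mem_flagFix z hb (fun w => (hz.1 w).symm) fun w => (hz.2 w).symm) hy
    · obtain ⟨g, rfl⟩ := proj_surjective y
      have hg : g ∈ Subgroup.normalizer ((P : Subgroup (SL 3 F)) : Set (SL 3 F)) :=
        comap_normalizer_le (proj 3 F) proj_surjective slRep_injective not_dvd_ker
          (fun _ hz => scalar_of_mem_ker hz) P (hU ▸ hy)
      refine ⟨⟨g, hS1 ▸ normalizer_le h2 P he0 he hg, rfl⟩, g, hS2 ▸ fun w => ?_, rfl⟩
      have hag : dRep 3 F g⁻¹ a ∈ fixedSpace (dRep 3 F) (P : Subgroup (SL 3 F)) :=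
        fixedSpace_invariant (dRep 3 F) (inv_mem hg) (v := a) ha
      rw [fixedSpace_dual, fixed_eq h2 (dualSylow P) ha0 fun k hk => by
        have h1 := ha _ ((mem_dualSylow P).1 hk)
        rwa [dRep_apply, slIota_slIota] at h1] at hag
      obtain ⟨c, hc⟩ := Submodule.mem_span_singleton.1 hag
      have hc0 : c ≠ 0 := fun h => ha0 ((dRep 3 F g⁻¹).map_eq_zero_iff.1 (by rw [← hc, h, zero_smul]))
      have h1 : a ⬝ᵥ vRep 3 F g w = c * (a ⬝ᵥ w) := by
        conv_lhs => rw [← apply_inv_apply (ρ := dRep 3 F) g a, dot_apply, ← hc]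
        rw [smul_dotProduct, smul_eq_mul]
      rw [mem_ann, mem_ann, h1, mul_eq_zero]
      exact or_iff_right hc0
  have hN1 : Subgroup.normalizer ((U : Subgroup (PSL 3 F)) : Set (PSL 3 F)) ≤ S1.map (proj 3 F) :=
    hinf ▸ inf_le_left
  have heN : S1.map (proj 3 F) ≠ ⊤ :=
    hS1 ▸ map_stab_ne_top' (stab_ne_top h2 he0 ha0 hae (Submodule.mem_span_singleton_self e) heH)
  refine ⟨U, S1.map (proj 3 F), S2.map (proj 3 F), heN,
    hS2 ▸ map_stab_ne_top' (stab_ne_top h2 he0 ha0 hae (mem_ann.2 hae) le_rfl), ?_, hinf, fun Y hY hne => ?_⟩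
  · obtain ⟨M, hM⟩ : ∃ M, M = (S1.map (proj 3 F) ⊔ S2.map (proj 3 F)).comap (proj 3 F) := ⟨_, rfl⟩
    have hM1 : S1 ≤ M := hM ▸ Subgroup.map_le_iff_le_comap.1 le_sup_left
    have hM2 : S2 ≤ M := hM ▸ Subgroup.map_le_iff_le_comap.1 le_sup_right
    rcases top_or_invariant h2 P (hP1.trans hM1) he0 he ha with h | ⟨W, heW, hW, hWs⟩
    · rw [eq_top_iff, ← h, hM]
      exact Subgroup.map_comap_le _ _
    · exfalso
      -- move the point inside the hyperplane, then the hyperplane
      obtain ⟨ψ, hψ, hψu⟩ := exists_dot_sep (v := e) (W := Submodule.span F {u}) fun h => hue (by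
        obtain ⟨c, hc⟩ := Submodule.mem_span_singleton.1 h
        refine Submodule.mem_span_singleton.2 ⟨c⁻¹, ?_⟩
        rw [← hc, inv_smul_smul₀ fun h0 => he0 (by rw [← hc, h0, zero_smul])])
      have ht : tvSL u ψ (hψu u (Submodule.mem_span_singleton_self u)) ∈ S2 := hS2 ▸ fun w => by
        rw [vRep_tv, mem_ann, mem_ann, dotProduct_add, dotProduct_smul, huH, smul_zero, add_zero]
      have huW : u ∈ W := by
        have h1 := Submodule.sub_mem _ ((hWs (hM2 ht) e).2 heW) heW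
        rwa [vRep_tv, hψ, one_smul, add_sub_cancel_left] at h1
      obtain ⟨z, hz, -⟩ := exists_dot_sep (W := (⊥ : Submodule F (Fin 3 → F))) (v := a)
        (fun h2 => ha0 ((Submodule.mem_bot F).1 h2))
      have haz : a ⬝ᵥ z = 1 := by rw [dotProduct_comm]; exact hz
      obtain ⟨φ, hφ, hφW⟩ := exists_dot_sep (v := u) (W := Submodule.span F {z, e}) fun h => hue (by
        obtain ⟨s, t, hst⟩ := Submodule.mem_span_pair.1 h
        have h1 := congrArg (a ⬝ᵥ ·) hst
        simp only [dotProduct_add, dotProduct_smul, haz, hae, huH, smul_eq_mul, mul_one, mul_zero, add_zero] at h1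
        exact Submodule.mem_span_singleton.2 ⟨t, by rw [← hst, h1, zero_smul, zero_add]⟩)
      have ht' : tvSL z φ (hφW z (Submodule.subset_span (Or.inl rfl))) ∈ S1 := hS1 ▸ mem_stab_point (by
        rw [vRep_tv, hφW e (Submodule.subset_span (Or.inr rfl)), zero_smul, add_zero]
        exact Submodule.mem_span_singleton_self e)
      have h1 := mem_ann.1 (hW ((hWs (hM1 ht') u).2 huW))
      rw [vRep_tv, hφ, one_smul, dotProduct_add, huH, zero_add, haz] at h1
      exact one_ne_zero h1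
  · have hPM : (P : Subgroup (SL 3 F)) ≤ Y.comap (proj 3 F) := fun g hg => hY (by
      rw [hU, Sylow.coe_mapSurjective]
      exact Subgroup.le_normalizer ⟨g, hg, rfl⟩)
    rcases top_or_invariant h2 P hPM he0 he ha with h | ⟨W, heW, hW, hWs⟩
    · exact absurd (top_le_iff.1 (h ▸ Subgroup.map_comap_le _ _)) hne
    · have h3 : W = Submodule.span F {e} ∨ W = ann a := by
        have hle : Submodule.span F {e} ≤ W := Submodule.span_le.2 (Set.singleton_subset_iff.2 heW)
        rcases eq_or_lt_of_le hle with h | h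
        · exact Or.inl h.symm
        · refine Or.inr (Submodule.eq_of_le_of_finrank_le hW ?_)
          have h4 := Submodule.finrank_lt_finrank_of_lt h
          rw [finrank_span_singleton he0] at h4
          omega
      rcases h3 with h3 | h3
      · refine Or.inl fun y hy => ?_
        obtain ⟨g, rfl⟩ := proj_surjective y
        exact ⟨g, hS1 ▸ h3 ▸ hWs hy, rfl⟩
      · refine Or.inr fun y hy => ?_
        obtain ⟨g, rfl⟩ := proj_surjective y
        exact ⟨g, hS2 ▸ h3 ▸ hWs hy, rfl⟩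

end CfsgLib.HallGen.PMinimal.Linear
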