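import Cfsg.Agent.Lib.HallGen.PMinimal.FixedMod
import Cfsg.Agent.Lib.HallGen.Overgroup.Linear
import Cfsg.Agent.Lib.Known.AutPSL.Classify

/-!
The vectors and functionals fixed by a Sylow subgroup of a special linear group, and modulo those.
-/

set_option autoImplicit false

namespace CfsgLib.HallGen.PMinimal.Linear

open Matrix CfsgLib.Known.AutPSL CfsgLib.Blocks.DefectLie CfsgLib.HallGen.PMinimal

variable {n : ℕ} {F : Type*} [Field F]

/-- The action on vectors. -/
noncomputable abbrev vRep (n : ℕ) (F : Type*) [Field F] : SL n F →* ((Fin n → F) ≃ₗ[F] (Fin n → F)) :=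
  slRep n F

/-- The action on functionals, in coordinates. -/
noncomputable abbrev dRep (n : ℕ) (F : Type*) [Field F] : SL n F →* ((Fin n → F) ≃ₗ[F] (Fin n → F)) :=
  (slRep n F).comp slIota

theorem dRep_apply (x : SL n F) (a : Fin n → F) : dRep n F x a = vRep n F (slIota x) a := rfl

theorem dot_apply (x : SL n F) (a v : Fin n → F) : dRep n F x a ⬝ᵥ vRep n F x v = a ⬝ᵥ v := by
  show (((x⁻¹ : SL n F) : Matrix (Fin n) (Fin n) F)ᵀ *ᵥ a) ⬝ᵥ ((x : Matrix (Fin n) (Fin n) F) *ᵥ v) = _
  rw [Matrix.mulVec_transpose, ← Matrix.dotProduct_mulVec, Matrix.mulVec_mulVec,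
    ← Matrix.SpecialLinearGroup.coe_mul, inv_mul_cancel, Matrix.SpecialLinearGroup.coe_one, Matrix.one_mulVec]

theorem dot_fixed {x : SL n F} {a : Fin n → F} (h : dRep n F x a = a) (v : Fin n → F) :
    a ⬝ᵥ vRep n F x v = a ⬝ᵥ v := by
  conv_lhs => rw [← h]
  exact dot_apply x a v

theorem vRep_tv {u φ : Fin n → F} (h : φ ⬝ᵥ u = 0) (v : Fin n → F) :
    vRep n F (tvSL u φ h) v = v + (φ ⬝ᵥ v) • u := by
  show (tvSL u φ h : Matrix (Fin n) (Fin n) F) *ᵥ v = _
  rw [coe_tvSL, Matrix.add_mulVec, Matrix.one_mulVec, Matrix.vecMulVec_mulVec, op_smul_eq_smul]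

theorem slIota_tv {u φ : Fin n → F} (h : φ ⬝ᵥ u = 0) :
    slIota (tvSL u φ h) = tvSL φ (-u) (by rw [neg_dotProduct, dotProduct_comm, h, neg_zero]) := by
  have hi : ((tvSL u φ h)⁻¹ : SL n F) = tvSL u (-φ) (by rw [neg_dotProduct, h, neg_zero]) := by
    refine inv_eq_of_mul_eq_one_right (Subtype.ext ?_)
    show (1 + vecMulVec u φ) * (1 + vecMulVec u (-φ)) = (1 : Matrix (Fin n) (Fin n) F)
    rw [vecMulVec_neg, mul_add, add_mul, add_mul, one_mul, one_mul, mul_one, mul_neg,
      vecMulVec_mul_vecMulVec, h, zero_smul, vecMulVec_zero, neg_zero, add_zero]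
    abel
  refine Subtype.ext ?_
  rw [coe_slIota, hi, coe_tvSL, coe_tvSL, Matrix.transpose_add, Matrix.transpose_one, transpose_vecMulVec,
    neg_vecMulVec, vecMulVec_neg]

theorem dRep_tv {u φ : Fin n → F} (h : φ ⬝ᵥ u = 0) (b : Fin n → F) :
    dRep n F (tvSL u φ h) b = b + (-(u ⬝ᵥ b)) • φ := by
  rw [dRep_apply, slIota_tv h, vRep_tv, neg_dotProduct]

theorem dRep_injective [Fintype F] : Function.Injective (dRep n F) :=
  slRep_injective.comp slIotaEquiv.injective

/-- Separation by a functional. -/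
theorem exists_dot_sep {W : Submodule F (Fin n → F)} {v : Fin n → F} (hv : v ∉ W) :
    ∃ a : Fin n → F, a ⬝ᵥ v = 1 ∧ ∀ w ∈ W, a ⬝ᵥ w = 0 := by
  obtain ⟨φ, hφv, hφW⟩ := Submodule.exists_le_ker_of_notMem hv
  obtain ⟨a, ha⟩ : ∃ a : Fin n → F, a = (dotProductEquiv F (Fin n)).symm ((φ v)⁻¹ • φ) := ⟨_, rfl⟩
  have h : ∀ w, a ⬝ᵥ w = (φ v)⁻¹ * φ w := fun w => by
    have h1 : dotProductEquiv F (Fin n) a = (φ v)⁻¹ • φ := by rw [ha, LinearEquiv.apply_symm_apply]
    exact LinearMap.congr_fun h1 w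
  exact ⟨a, by rw [h, inv_mul_cancel₀ hφv], fun w hw => by rw [h, LinearMap.mem_ker.1 (hφW hw), mul_zero]⟩

/-- The annihilator of one vector. -/
noncomputable def ann (a : Fin n → F) : Submodule F (Fin n → F) :=
  LinearMap.ker (dotProductEquiv F (Fin n) a)

theorem mem_ann {a x : Fin n → F} : x ∈ ann a ↔ a ⬝ᵥ x = 0 := LinearMap.mem_ker

theorem finrank_ann (a : Fin n → F) : n ≤ Module.finrank F (ann a) + 1 := by
  have h1 := LinearMap.finrank_range_add_finrank_ker (dotProductEquiv F (Fin n) a)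
  have h2 := (LinearMap.range (dotProductEquiv F (Fin n) a)).finrank_le
  rw [Module.finrank_self] at h2
  rw [Module.finrank_fin_fun] at h1
  show n ≤ Module.finrank F (LinearMap.ker (dotProductEquiv F (Fin n) a)) + 1
  omega

/-- A vector orthogonal to one, outside a small subspace. -/
theorem exists_ann_notMem (a : Fin n → F) {W : Submodule F (Fin n → F)}
    (h : Module.finrank F W + 2 ≤ n) : ∃ x, a ⬝ᵥ x = 0 ∧ x ∉ W := by
  by_contra hc
  push Not at hc
  have h1 := Submodule.finrank_mono (show ann a ≤ W from fun x hx => hc x (mem_ann.1 hx))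
  have := finrank_ann a
  omega

theorem finrank_span_le_one (e : Fin n → F) : Module.finrank F (Submodule.span F {e}) ≤ 1 := by
  rcases eq_or_ne e 0 with rfl | h
  · rw [Submodule.span_zero_singleton, finrank_bot]; exact Nat.zero_le _
  · exact (finrank_span_singleton h).le

section Sylow

variable [Fintype F] {p : ℕ} [Fact p.Prime] [CharP F p] (hn : 2 ≤ n) (P : Sylow p (SL n F))

include hn in
theorem nontrivial_vec : Nontrivial (Fin n → F) :=
  Module.nontrivial_of_finrank_pos (R := F) (by rw [Module.finrank_fin_fun]; omega)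

include hn in
theorem tv_mem {u φ : Fin n → F} (h : φ ⬝ᵥ u = 0) {W : Submodule F (Fin n → F)}
    (hW : (P : Subgroup (SL n F)) ≤ stab (vRep n F) W) (hu : u ∈ W) (hφ : ∀ w ∈ W, φ ⬝ᵥ w = 0) :
    tvSL u φ h ∈ P := by
  haveI := nontrivial_vec (F := F) hn
  have hmem : tvSL u φ h ∈ flagFix (vRep n F) W W := mem_flagFix _ le_rfl
    (fun w hw => by rw [vRep_tv, hφ w hw, zero_smul, add_zero])
    (fun w hw => by rw [vRep_tv, hφ w hw, zero_smul, add_zero, sub_self]; exact W.zero_mem)
    fun w => by rw [vRep_tv, add_sub_cancel_left]; exact W.smul_mem _ hu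
  exact CfsgLib.HallGen.Overgroup.le_sylow_of_normalised P (isPGroup_flagFix (vRep n F) slRep_injective _ _)
    (CfsgLib.HallGen.Overgroup.le_normalizer_of_conj fun g hg a ha =>
      CfsgLib.HallGen.Overgroup.Geom.conj_mem_flagFix g ha (fun w => (hW hg w).symm) fun w => (hW hg w).symm)
    hmem

/-- The transported Sylow subgroup. -/
noncomputable def dualSylow : Sylow p (SL n F) := mapSylow slIotaEquiv P

theorem mem_dualSylow {y : SL n F} : y ∈ dualSylow P ↔ slIota y ∈ P := by
  show y ∈ ((dualSylow P : Sylow p (SL n F)) : Subgroup (SL n F)) ↔ _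
  rw [dualSylow, coe_mapSylow, Subgroup.mem_map_equiv]
  rfl

/-- The vectors fixed modulo the fixed ones. -/
def fix2 (r : SL n F →* ((Fin n → F) ≃ₗ[F] (Fin n → F))) (H : Subgroup (SL n F)) : Submodule F (Fin n → F) where
  carrier := {v | ∀ g ∈ H, r g v - v ∈ fixedSpace r H}
  zero_mem' g _ := by rw [map_zero, sub_zero]; exact Submodule.zero_mem _
  add_mem' ha hb g hg := by rw [map_add, add_sub_add_comm]; exact Submodule.add_mem _ (ha g hg) (hb g hg)
  smul_mem' c a ha g hg := by rw [map_smul, ← smul_sub]; exact Submodule.smul_mem _ c (ha g hg)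

theorem fixed_le_fix2 (r : SL n F →* ((Fin n → F) ≃ₗ[F] (Fin n → F))) (H : Subgroup (SL n F)) :
    fixedSpace r H ≤ fix2 r H := fun v hv g hg => by
  rw [hv g hg, sub_self]; exact Submodule.zero_mem _

theorem fixedSpace_dual : fixedSpace (dRep n F) (P : Subgroup (SL n F)) =
    fixedSpace (vRep n F) (dualSylow P : Subgroup (SL n F)) := by
  ext v
  constructor
  · intro h g hg
    have h1 := h _ ((mem_dualSylow P).1 hg)
    rwa [dRep_apply, slIota_slIota] at h1
  · intro h g hg
    rw [dRep_apply]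
    exact h _ ((mem_dualSylow P).2 (by rwa [slIota_slIota]))

theorem fix2_dual : fix2 (dRep n F) (P : Subgroup (SL n F)) =
    fix2 (vRep n F) (dualSylow P : Subgroup (SL n F)) := by
  ext v
  constructor
  · intro h g hg
    have h1 := h _ ((mem_dualSylow P).1 hg)
    rwa [dRep_apply, slIota_slIota, fixedSpace_dual] at h1
  · intro h g hg
    rw [dRep_apply, fixedSpace_dual]
    exact h _ ((mem_dualSylow P).2 (by rwa [slIota_slIota]))

theorem exists_vec_fixed [Nonempty (Fin n)] : ∃ e : Fin n → F, e ≠ 0 ∧ ∀ g ∈ P, vRep n F g e = e := by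
  obtain ⟨e, -, he0, he⟩ := exists_fixed_of_invariant (vRep n F) P.isPGroup'
    (⊤ : Submodule F (Fin n → F)) top_ne_bot fun _ _ _ _ => Submodule.mem_top
  exact ⟨e, he0, he⟩

include hn in
theorem exists_dual_fixed : ∃ a : Fin n → F, a ≠ 0 ∧ ∀ g ∈ P, dRep n F g a = a := by
  haveI : Nonempty (Fin n) := ⟨⟨0, by omega⟩⟩
  obtain ⟨a, ha0, ha⟩ := exists_vec_fixed (dualSylow P)
  refine ⟨a, ha0, fun g hg => ?_⟩
  rw [dRep_apply]
  exact ha _ ((mem_dualSylow P).2 (by rwa [slIota_slIota]))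

include hn in
/-- The fixed vectors form a line. -/
theorem fixed_eq {e : Fin n → F} (he0 : e ≠ 0) (he : ∀ g ∈ P, vRep n F g e = e) :
    fixedSpace (vRep n F) (P : Subgroup (SL n F)) = Submodule.span F {e} := by
  refine le_antisymm (fun v hv => ?_) (Submodule.span_le.2 (Set.singleton_subset_iff.2 he))
  by_contra h
  obtain ⟨a, hav, haW⟩ := exists_dot_sep h
  have hg := tv_mem hn P (haW e (Submodule.mem_span_singleton_self e)) (le_stab_point he)
    (Submodule.mem_span_singleton_self e) haW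
  have h1 := hv _ hg
  rw [vRep_tv, hav, one_smul, add_eq_left] at h1
  exact he0 h1

include hn in
/-- The fixed vector is annihilated by the fixed functional. -/
theorem dot_fixed_pair {e a : Fin n → F} (he0 : e ≠ 0) (he : ∀ g ∈ P, vRep n F g e = e) (ha0 : a ≠ 0)
    (ha : ∀ g ∈ P, dRep n F g a = a) : a ⬝ᵥ e = 0 := by
  by_contra h
  obtain ⟨u, hu, hu0⟩ := exists_ann_notMem a (W := (⊥ : Submodule F (Fin n → F)))
    (by rw [finrank_bot]; omega)
  have hP : (P : Subgroup (SL n F)) ≤ stab (vRep n F) (ann a) := fun g hg w => by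
    rw [mem_ann, mem_ann, dot_fixed (ha g hg)]
  have h1 := he _ (tv_mem hn P hu hP (mem_ann.2 hu) fun w hw => mem_ann.1 hw)
  rw [vRep_tv, add_eq_left, smul_eq_zero] at h1
  exact h1.elim h fun h2 => hu0 ((Submodule.mem_bot F).2 h2)

include hn in
theorem stab_ann {a : Fin n → F} (ha : ∀ g ∈ P, dRep n F g a = a) :
    (P : Subgroup (SL n F)) ≤ stab (vRep n F) (ann a) := fun g hg w => by
  rw [mem_ann, mem_ann, dot_fixed (ha g hg)]

include hn in
/-- The vectors fixed modulo the fixed line lie in the fixed hyperplane. -/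
theorem fix2_le_ann (h3 : 3 ≤ n) {e a : Fin n → F} (he0 : e ≠ 0) (he : ∀ g ∈ P, vRep n F g e = e)
    (ha : ∀ g ∈ P, dRep n F g a = a) :
    fix2 (vRep n F) (P : Subgroup (SL n F)) ≤ ann a := by
  intro v hv
  obtain ⟨z, hz, hze⟩ := exists_ann_notMem a (W := Submodule.span F {e})
    (by have := finrank_span_le_one e; omega)
  have h1 := hv _ (tv_mem hn P hz (stab_ann hn P ha) (mem_ann.2 hz) fun w hw => mem_ann.1 hw)
  rw [fixed_eq hn P he0 he, vRep_tv, add_sub_cancel_left] at h1
  by_contra h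
  have h2 := Submodule.smul_mem _ (a ⬝ᵥ v)⁻¹ h1
  rw [inv_smul_smul₀ fun h0 => h (mem_ann.2 h0)] at h2
  exact hze h2

include hn in
/-- Some vector is fixed only modulo the fixed line. -/
theorem exists_fix2 {e : Fin n → F} (he0 : e ≠ 0) (he : ∀ g ∈ P, vRep n F g e = e) :
    ∃ u ∈ fix2 (vRep n F) (P : Subgroup (SL n F)), u ∉ Submodule.span F {e} := by
  obtain ⟨u, -, hu, hfu⟩ := exists_fixed_mod (p := p) P.isPGroup' (le_stab_point (ρ := vRep n F) he)
    (O := ⊤) (fun _ _ _ _ => Submodule.mem_top) fun h => by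
      have h1 := Submodule.finrank_mono h
      rw [finrank_top, Module.finrank_fin_fun, finrank_span_singleton he0] at h1
      omega
  exact ⟨u, fun g hg => fixed_eq hn P he0 he ▸ hfu g hg, hu⟩

include hn in
theorem le_stab_fix2 : (P : Subgroup (SL n F)) ≤
    stab (vRep n F) (fix2 (vRep n F) (P : Subgroup (SL n F))) := fun g hg => by
  have h : g ∈ stab (vRep n F) (Submodule.span F ((fix2 (vRep n F) (P : Subgroup (SL n F))) : Set (Fin n → F))) := by
    refine mem_stab_of_forall fun v hv => ?_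
    have h2 := Submodule.add_mem _ (fixed_le_fix2 _ _ (hv g hg)) hv
    rw [sub_add_cancel] at h2
    exact Submodule.subset_span h2
  rwa [Submodule.span_eq] at h

include hn in
/-- The two second layers annihilate each other. -/
theorem fix2_perp (h4 : 4 ≤ n) {v b : Fin n → F} (hv : v ∈ fix2 (vRep n F) (P : Subgroup (SL n F)))
    (hb : b ∈ fix2 (dRep n F) (P : Subgroup (SL n F))) : v ⬝ᵥ b = 0 := by
  haveI : Nonempty (Fin n) := ⟨⟨0, by omega⟩⟩
  obtain ⟨e, he0, he⟩ := exists_vec_fixed P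
  obtain ⟨a₀, ha0, ha₀⟩ := exists_dual_fixed hn P
  by_cases hve : v ∈ Submodule.span F {e}
  · have hb2 : b ∈ ann e := by
      refine fix2_le_ann hn (dualSylow P) (by omega) ha0 (fun g hg => ?_) (fun g hg => ?_)
        (fix2_dual P ▸ hb)
      · have h1 := ha₀ _ ((mem_dualSylow P).1 hg)
        rwa [dRep_apply, slIota_slIota] at h1
      · rw [dRep_apply]
        exact he _ ((mem_dualSylow P).1 hg)
    obtain ⟨c, rfl⟩ := Submodule.mem_span_singleton.1 hve
    rw [smul_dotProduct, mem_ann.1 hb2, smul_zero]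
  -- a transvection centred at `v`
  obtain ⟨W, hW⟩ : ∃ W, W = Submodule.span F ({v, e} : Set (Fin n → F)) := ⟨_, rfl⟩
  have hvW : v ∈ W := hW ▸ Submodule.subset_span (Or.inl rfl)
  have hPW : (P : Subgroup (SL n F)) ≤ stab (vRep n F) W := fun g hg => by
    rw [hW]
    refine mem_stab_of_forall ?_
    rintro s (rfl | rfl)
    · have h1 := Submodule.add_mem _ (Submodule.span_mono (by simp) (fixed_eq hn P he0 he ▸ hv g hg :
        vRep n F g s - s ∈ Submodule.span F {e})) (Submodule.subset_span (Or.inl rfl) :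
          s ∈ Submodule.span F ({s, e} : Set (Fin n → F)))
      rwa [sub_add_cancel] at h1
    · rw [he g hg]; exact Submodule.subset_span (Or.inr rfl)
  obtain ⟨x, hxv, hxe, hxa⟩ : ∃ x, v ⬝ᵥ x = 0 ∧ e ⬝ᵥ x = 0 ∧ x ∉ Submodule.span F {a₀} := by
    by_contra hc
    push Not at hc
    have h1 := Submodule.finrank_mono
      (show ann v ⊓ ann e ≤ Submodule.span F {a₀} from fun x hx => hc x (mem_ann.1 hx.1) (mem_ann.1 hx.2))
    have h2 := Submodule.finrank_sup_add_finrank_inf_eq (ann v) (ann e)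
    have h3 := (ann v ⊔ ann e).finrank_le
    rw [Module.finrank_fin_fun] at h3
    have := finrank_ann v
    have := finrank_ann e
    have := finrank_span_le_one a₀
    omega
  have hg := tv_mem hn P (u := v) (φ := x) (by rw [dotProduct_comm]; exact hxv) hPW hvW fun w hw => by
    rw [hW] at hw
    obtain ⟨s, t, rfl⟩ := Submodule.mem_span_pair.1 hw
    rw [dotProduct_add, dotProduct_smul, dotProduct_smul, dotProduct_comm x v, dotProduct_comm x e, hxv, hxe]
    simp
  have h1 := hb _ hg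
  have hfix : fixedSpace (dRep n F) (P : Subgroup (SL n F)) = Submodule.span F {a₀} := by
    rw [fixedSpace_dual]
    refine fixed_eq hn (dualSylow P) ha0 fun g hg => ?_
    have h2 := ha₀ _ ((mem_dualSylow P).1 hg)
    rwa [dRep_apply, slIota_slIota] at h2
  rw [hfix, dRep_tv, add_sub_cancel_left] at h1
  by_contra h
  have h2 := Submodule.smul_mem _ (-(v ⬝ᵥ b))⁻¹ h1
  rw [inv_smul_smul₀ (neg_ne_zero.2 h)] at h2
  exact hxa h2

end Sylow

end CfsgLib.HallGen.PMinimal.Linear
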