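import Cfsg.Agent.Lib.HallGen.PMinimal.Linear

/-!
The special linear groups of degree at least four are not minimal over a Sylow subgroup.
-/

set_option autoImplicit false

namespace CfsgLib.HallGen.PMinimal.Linear

open Matrix CfsgLib.Known.AutPSL CfsgLib.Blocks.DefectLie CfsgLib.HallGen.PMinimal

variable {n : ℕ} {F : Type*} [Field F] [Fintype F] {p : ℕ} [Fact p.Prime] [CharP F p]
  (P : Sylow p (SL n F))

/-- The pair of stabilisers of a space of vectors and a space of functionals. -/
noncomputable def pairStab (W W' : Submodule F (Fin n → F)) : Subgroup (SL n F) := stab (vRep n F) W ⊓ stab (dRep n F) W'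

omit [Fintype F] in
theorem mem_stab_transport [Finite F] {r₁ r₂ : SL n F →* ((Fin n → F) ≃ₗ[F] (Fin n → F))}
    {f : (Fin n → F) →+ (Fin n → F)} (hinj : Function.Injective f) {W₁ W₂ : Submodule F (Fin n → F)}
    (hfW : ∀ v ∈ W₁, f v ∈ W₂) (hcard : Nat.card W₂ ≤ Nat.card W₁) {g g' : SL n F}
    (hg : g ∈ stab r₁ W₁) (hact : ∀ v, r₂ g' (f v) = f (r₁ g v)) : g' ∈ stab r₂ W₂ := by
  have hb : Function.Bijective (fun x : W₁ => (⟨f x, hfW x x.2⟩ : W₂)) :=
    Function.Injective.bijective_of_nat_card_le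
      (fun a b e => Subtype.ext (hinj (congrArg Subtype.val e))) hcard
  have h1 : g' ∈ stab r₂ (Submodule.span F (W₂ : Set (Fin n → F))) := by
    refine mem_stab_of_forall fun w hw => ?_
    obtain ⟨x, hx⟩ := hb.2 ⟨w, hw⟩
    have hx' : f x = w := congrArg Subtype.val hx
    rw [← hx', hact, Submodule.span_eq]
    exact hfW _ ((hg _).2 x.2)
  rwa [Submodule.span_eq] at h1

omit [Fintype F] in
theorem map_fixed {r₁ r₂ : SL n F →* ((Fin n → F) ≃ₗ[F] (Fin n → F))} {f : (Fin n → F) →+ (Fin n → F)}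
    {H : Subgroup (SL n F)} (h : ∀ x ∈ H, ∃ g ∈ H, ∀ v, r₂ x (f v) = f (r₁ g v)) :
    (∀ v ∈ fixedSpace r₁ H, f v ∈ fixedSpace r₂ H) ∧ ∀ v ∈ fix2 r₁ H, f v ∈ fix2 r₂ H := by
  have h1 : ∀ v ∈ fixedSpace r₁ H, f v ∈ fixedSpace r₂ H := fun v hv x hx => by
    obtain ⟨g, hg, hact⟩ := h x hx
    rw [hact, hv g hg]
  refine ⟨h1, fun v hv x hx => ?_⟩
  obtain ⟨g, hg, hact⟩ := h x hx
  rw [hact, ← map_sub]
  exact h1 _ (hv g hg)

/-- A semilinear map. -/
noncomputable def semiMap (M : GL (Fin n) F) (σ : F ≃+* F) : (Fin n → F) →+ (Fin n → F) :=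
  AddMonoidHom.mk' (fun v => (M : Matrix (Fin n) (Fin n) F) *ᵥ (σ ∘ v)) fun a b => by
    rw [← Matrix.mulVec_add]
    exact congrArg _ (funext fun i => map_add σ _ _)

omit [Fintype F] in
theorem semiMap_injective (M : GL (Fin n) F) (σ : F ≃+* F) : Function.Injective (semiMap M σ) := fun a b e => by
  have h1 := congrArg (fun w => ((M⁻¹ : GL (Fin n) F) : Matrix (Fin n) (Fin n) F) *ᵥ w) e
  simp only [semiMap, AddMonoidHom.mk'_apply, Matrix.mulVec_mulVec, Units.inv_mul, Matrix.one_mulVec] at h1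
  exact funext fun i => σ.injective (congrFun h1 i)

omit [Fintype F] in
theorem vRep_slConj (M : GL (Fin n) F) (σ : F ≃+* F) (x : SL n F) (v : Fin n → F) :
    vRep n F (slConjHom M σ x) (semiMap M σ v) = semiMap M σ (vRep n F x v) := by
  show (slConjHom M σ x : Matrix (Fin n) (Fin n) F) *ᵥ ((M : Matrix (Fin n) (Fin n) F) *ᵥ (σ ∘ v)) =
    (M : Matrix (Fin n) (Fin n) F) *ᵥ (σ ∘ ((x : Matrix (Fin n) (Fin n) F) *ᵥ v))
  rw [coe_slConjHom, Matrix.mulVec_mulVec, Matrix.mul_assoc, Units.inv_mul, Matrix.mul_one,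
    ← Matrix.mulVec_mulVec]
  exact congrArg _ (funext fun i => (RingHom.map_mulVec σ.toRingHom _ v i).symm)

omit [Fintype F] in
theorem slIota_slConj (g : GL (Fin n) F) (σ : F ≃+* F) (s : SL n F) :
    slIota (slConjHom g σ s) = slConjHom (glIota g) σ (slIota s) := by
  refine Subtype.ext ?_
  have h : ((slConjHom g σ s)⁻¹ : SL n F) = slConjHom g σ s⁻¹ := (map_inv _ _).symm
  rw [coe_slIota, h, coe_slConjHom, coe_slConjHom, coe_slIota, Matrix.transpose_mul,
    Matrix.transpose_mul, Matrix.transpose_map, Matrix.mul_assoc]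
  rfl

variable (hn : 4 ≤ n)

include hn in
/-- Both pairs are carried into themselves. -/
theorem inv_pairStab :
    Inv p ((P.mapSurjective (proj_surjective (n := n) (F := F)) : Sylow p (PSL n F)) : Subgroup (PSL n F))
      ((pairStab (fixedSpace (vRep n F) (P : Subgroup (SL n F)))
        (fixedSpace (dRep n F) (P : Subgroup (SL n F)))).map (proj n F)) ∧
    Inv p ((P.mapSurjective (proj_surjective (n := n) (F := F)) : Sylow p (PSL n F)) : Subgroup (PSL n F))
      ((pairStab (fix2 (vRep n F) (P : Subgroup (SL n F)))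
        (fix2 (dRep n F) (P : Subgroup (SL n F)))).map (proj n F)) := by
  haveI : Nonempty (Fin n) := ⟨⟨0, by omega⟩⟩
  have main : ∀ α : MulAut (PSL n F),
      ((P.mapSurjective (proj_surjective (n := n) (F := F)) : Sylow p (PSL n F)) : Subgroup (PSL n F)).map
          α.toMonoidHom =
        ((P.mapSurjective (proj_surjective (n := n) (F := F)) : Sylow p (PSL n F)) : Subgroup (PSL n F)) →
      ∀ W W', ((W = fixedSpace (vRep n F) (P : Subgroup (SL n F)) ∧ W' = fixedSpace (dRep n F) (P : Subgroup (SL n F))) ∨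
        (W = fix2 (vRep n F) (P : Subgroup (SL n F)) ∧ W' = fix2 (dRep n F) (P : Subgroup (SL n F)))) →
      ∀ x ∈ pairStab W W', ∃ x' ∈ pairStab W W', proj n F x' = α (proj n F x) := by
    intro α hU W W' hW x hx
    obtain ⟨g, σ, hα | ⟨-, hα⟩⟩ := exists_eq_semilin (by omega) α
    · have hθ : ∀ s, proj n F (slConjHom g σ s) = α (proj n F s) := fun s => by rw [hα]; rfl
      have hP : ∀ h ∈ (P : Subgroup (SL n F)), ∃ s ∈ (P : Subgroup (SL n F)), slConjHom g σ s = h := by
        have hmap : ∀ s ∈ (P : Subgroup (SL n F)), slConjHom g σ s ∈ (P : Subgroup (SL n F)) := fun s hs => by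
          obtain ⟨k, hk⟩ := exists_pow_of_mem P hs
          refine mem_sylow_of_map (proj n F) proj_surjective slRep_injective not_dvd_ker
            (fun _ hz => scalar_of_mem_ker hz) ⟨k, by rw [← map_pow, hk, map_one]⟩ ?_
          rw [hθ]
          refine hU.le ⟨_, ?_, rfl⟩
          rw [Sylow.coe_mapSurjective]
          exact ⟨s, hs, rfl⟩
        intro h hh
        obtain ⟨s, hs⟩ := Finite.surjective_of_injective
          (fun a b e => Subtype.ext ((slConj g σ).injective (congrArg Subtype.val e)) :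
            Function.Injective fun s : (P : Subgroup (SL n F)) =>
              (⟨slConjHom g σ s, hmap s s.2⟩ : (P : Subgroup (SL n F)))) ⟨h, hh⟩
        exact ⟨s, s.2, congrArg Subtype.val hs⟩
      have hv := map_fixed (r₁ := vRep n F) (r₂ := vRep n F) (f := semiMap g σ) fun h hh => by
        obtain ⟨s, hs, rfl⟩ := hP h hh
        exact ⟨s, hs, vRep_slConj g σ s⟩
      have hd := map_fixed (r₁ := dRep n F) (r₂ := dRep n F) (f := semiMap (glIota g) σ) fun h hh => by
        obtain ⟨s, hs, rfl⟩ := hP h hh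
        exact ⟨s, hs, fun v => by rw [dRep_apply, slIota_slConj, vRep_slConj]; rfl⟩
      refine ⟨slConjHom g σ x, ⟨?_, ?_⟩, hθ x⟩
      · refine mem_stab_transport (semiMap_injective g σ) ?_ le_rfl hx.1 (vRep_slConj g σ x)
        rcases hW with ⟨rfl, -⟩ | ⟨rfl, -⟩
        exacts [hv.1, hv.2]
      · refine mem_stab_transport (semiMap_injective (glIota g) σ) ?_ le_rfl hx.2
          fun v => by rw [dRep_apply, slIota_slConj, vRep_slConj]; rfl
        rcases hW with ⟨-, rfl⟩ | ⟨-, rfl⟩
        exacts [hd.1, hd.2]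
    · have hθ : ∀ s, proj n F (slConjHom g σ (slIota s)) = α (proj n F s) := fun s => by rw [hα]; rfl
      have hP : ∀ h ∈ (P : Subgroup (SL n F)), ∃ s ∈ (P : Subgroup (SL n F)), slConjHom g σ (slIota s) = h := by
        have hmap : ∀ s ∈ (P : Subgroup (SL n F)), slConjHom g σ (slIota s) ∈ (P : Subgroup (SL n F)) :=
          fun s hs => by
          obtain ⟨k, hk⟩ := exists_pow_of_mem P hs
          refine mem_sylow_of_map (proj n F) proj_surjective slRep_injective not_dvd_ker
            (fun _ hz => scalar_of_mem_ker hz) ⟨k, by rw [← map_pow, ← map_pow, hk, map_one, map_one]⟩ ?_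
          rw [hθ]
          refine hU.le ⟨_, ?_, rfl⟩
          rw [Sylow.coe_mapSurjective]
          exact ⟨s, hs, rfl⟩
        intro h hh
        obtain ⟨s, hs⟩ := Finite.surjective_of_injective
          (fun a b e => Subtype.ext (slIotaEquiv.injective ((slConj g σ).injective (congrArg Subtype.val e))) :
            Function.Injective fun s : (P : Subgroup (SL n F)) =>
              (⟨slConjHom g σ (slIota s), hmap s s.2⟩ : (P : Subgroup (SL n F)))) ⟨h, hh⟩
        exact ⟨s, s.2, congrArg Subtype.val hs⟩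
      have ev : ∀ s v, vRep n F (slConjHom g σ (slIota s)) (semiMap g σ v) = semiMap g σ (dRep n F s v) :=
        fun s v => vRep_slConj g σ _ v
      have ed : ∀ s v, dRep n F (slConjHom g σ (slIota s)) (semiMap (glIota g) σ v) =
          semiMap (glIota g) σ (vRep n F s v) := fun s v => by
        rw [dRep_apply, slIota_slConj, slIota_slIota, vRep_slConj]
      have hv := map_fixed (r₁ := dRep n F) (r₂ := vRep n F) (f := semiMap g σ) fun h hh => by
        obtain ⟨s, hs, rfl⟩ := hP h hh
        exact ⟨s, hs, ev s⟩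
      have hd := map_fixed (r₁ := vRep n F) (r₂ := dRep n F) (f := semiMap (glIota g) σ) fun h hh => by
        obtain ⟨s, hs, rfl⟩ := hP h hh
        exact ⟨s, hs, ed s⟩
      have hfW : (∀ v ∈ W', semiMap g σ v ∈ W) ∧ ∀ v ∈ W, semiMap (glIota g) σ v ∈ W' := by
        rcases hW with ⟨rfl, rfl⟩ | ⟨rfl, rfl⟩
        exacts [⟨hv.1, hd.1⟩, ⟨hv.2, hd.2⟩]
      have c1 : Nat.card W' ≤ Nat.card W := Nat.card_le_card_of_injective
        (fun v : W' => (⟨semiMap g σ v, hfW.1 v v.2⟩ : W))
        fun a b e => Subtype.ext (semiMap_injective g σ (congrArg Subtype.val e))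
      have c2 : Nat.card W ≤ Nat.card W' := Nat.card_le_card_of_injective
        (fun v : W => (⟨semiMap (glIota g) σ v, hfW.2 v v.2⟩ : W'))
        fun a b e => Subtype.ext (semiMap_injective (glIota g) σ (congrArg Subtype.val e))
      exact ⟨slConjHom g σ (slIota x), ⟨mem_stab_transport (semiMap_injective g σ) hfW.1 c2 hx.2 (ev x),
        mem_stab_transport (semiMap_injective (glIota g) σ) hfW.2 c1 hx.1 (ed x)⟩, hθ x⟩
  constructor <;> intro α _ hU <;> refine Subgroup.eq_of_le_of_card_ge ?_ (le_of_eq (Nat.card_congr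
    (Subgroup.equivMapOfInjective _ α.toMonoidHom α.injective).toEquiv))
  · rintro _ ⟨_, ⟨x, hx, rfl⟩, rfl⟩
    exact main α hU _ _ (Or.inl ⟨rfl, rfl⟩) x hx
  · rintro _ ⟨_, ⟨x, hx, rfl⟩, rfl⟩
    exact main α hU _ _ (Or.inr ⟨rfl, rfl⟩) x hx

theorem split_PSL {n : ℕ} {F : Type*} [Field F] [Fintype F] {p : ℕ} [Fact p.Prime] [CharP F p] (hn : 4 ≤ n) :
    Split p (PSL n F) := by
  haveI := simple_PSL (n := n) (F := F) (fun h => by omega) (by omega)
  haveI : Nonempty (Fin n) := ⟨⟨0, by omega⟩⟩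
  have h2 : 2 ≤ n := by omega
  obtain ⟨P⟩ : Nonempty (Sylow p (SL n F)) := inferInstance
  obtain ⟨e, he0, he⟩ := exists_vec_fixed P
  obtain ⟨a, ha0, ha⟩ := exists_dual_fixed h2 P
  have ha' : ∀ k ∈ dualSylow P, vRep n F k a = a := fun k hk => by
    have h1 := ha _ ((mem_dualSylow P).1 hk)
    rwa [dRep_apply, slIota_slIota] at h1
  have he' : ∀ k ∈ dualSylow P, dRep n F k e = e := fun k hk => by
    rw [dRep_apply]; exact he _ ((mem_dualSylow P).1 hk)
  have hae := dot_fixed_pair h2 P he0 he ha0 ha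
  have heH : Submodule.span F {e} ≤ ann a := Submodule.span_le.2 (Set.singleton_subset_iff.2 (mem_ann.2 hae))
  obtain ⟨S1, hS1⟩ : ∃ S1, S1 = pairStab (fixedSpace (vRep n F) (P : Subgroup (SL n F)))
      (fixedSpace (dRep n F) (P : Subgroup (SL n F))) := ⟨_, rfl⟩
  obtain ⟨S2, hS2⟩ : ∃ S2, S2 = pairStab (fix2 (vRep n F) (P : Subgroup (SL n F)))
      (fix2 (dRep n F) (P : Subgroup (SL n F))) := ⟨_, rfl⟩
  have hfe := fixed_eq h2 P he0 he
  have hfa : fixedSpace (dRep n F) (P : Subgroup (SL n F)) = Submodule.span F {a} := by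
    rw [fixedSpace_dual, fixed_eq h2 (dualSylow P) ha0 ha']
  have hP1 : (P : Subgroup (SL n F)) ≤ S1 := by
    rw [hS1, pairStab, hfe, hfa]
    exact le_inf (le_stab_point he) (le_stab_point (ρ := dRep n F) ha)
  have hP2 : (P : Subgroup (SL n F)) ≤ S2 := by
    rw [hS2, pairStab, fix2_dual]
    refine le_inf (le_stab_fix2 h2 P) fun g hg w => ?_
    have h1 := le_stab_fix2 h2 (dualSylow P) ((mem_dualSylow P).2 (by rwa [slIota_slIota]) : slIota g ∈ dualSylow P) w
    exact h1
  have hne1 : S1.map (proj n F) ≠ ⊤ := fun h => map_stab_ne_top'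
    (stab_ne_top h2 he0 ha0 hae (Submodule.mem_span_singleton_self e) heH)
    (top_le_iff.1 (h ▸ Subgroup.map_mono (by rw [hS1, pairStab, hfe]; exact inf_le_left)))
  have hne2 : S2.map (proj n F) ≠ ⊤ := fun h => map_stab_ne_top'
    (stab_ne_top h2 he0 ha0 hae (fixed_le_fix2 _ _ he) (fix2_le_ann h2 P (by omega) he0 he ha))
    (top_le_iff.1 (h ▸ Subgroup.map_mono (by rw [hS2, pairStab]; exact inf_le_left)))
  refine ⟨P.mapSurjective (proj_surjective (n := n) (F := F)), normalizer_ne_top h2 P he0 he ha0 ha,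
    {S1.map (proj n F), S2.map (proj n F)}, ?_, ?_⟩
  · have hinv := inv_pairStab P hn
    rw [← hS1, ← hS2] at hinv
    rintro Y (rfl | rfl)
    · exact ⟨by rw [Sylow.coe_mapSurjective]; exact Subgroup.map_mono hP1, hne1, hinv.1⟩
    · exact ⟨by rw [Sylow.coe_mapSurjective]; exact Subgroup.map_mono hP2, hne2, hinv.2⟩
  · rw [sSup_pair]
    obtain ⟨M, hM⟩ : ∃ M, M = (S1.map (proj n F) ⊔ S2.map (proj n F)).comap (proj n F) := ⟨_, rfl⟩
    have hM1 : S1 ≤ M := hM ▸ Subgroup.map_le_iff_le_comap.1 le_sup_left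
    have hM2 : S2 ≤ M := hM ▸ Subgroup.map_le_iff_le_comap.1 le_sup_right
    rcases top_or_invariant h2 P (hP1.trans hM1) he0 he ha with h | ⟨W, heW, hW, hWs⟩
    · rw [eq_top_iff, ← h, hM]
      exact Subgroup.map_comap_le _ _
    exfalso
    obtain ⟨u, hu, hue⟩ := exists_fix2 h2 P he0 he
    have huH : a ⬝ᵥ u = 0 := mem_ann.1 (fix2_le_ann h2 P (by omega) he0 he ha hu)
    -- move the point along the second layer
    obtain ⟨ψ, hψ, hψu⟩ := exists_dot_sep (v := e) (W := Submodule.span F {u}) fun h => hue (by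
      obtain ⟨c, hc⟩ := Submodule.mem_span_singleton.1 h
      refine Submodule.mem_span_singleton.2 ⟨c⁻¹, ?_⟩
      rw [← hc, inv_smul_smul₀ fun h0 => he0 (by rw [← hc, h0, zero_smul])])
    have hψu' : ψ ⬝ᵥ u = 0 := hψu u (Submodule.mem_span_singleton_self u)
    have ht : tvSL u ψ hψu' ∈ S2 := by
      rw [hS2]
      constructor
      · have h1 : tvSL u ψ hψu' ∈ stab (vRep n F) (Submodule.span F
            (fix2 (vRep n F) (P : Subgroup (SL n F)) : Set (Fin n → F))) := mem_stab_of_forall fun s hs => by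
          rw [vRep_tv, Submodule.span_eq]
          exact Submodule.add_mem _ hs (Submodule.smul_mem _ _ hu)
        rwa [Submodule.span_eq] at h1
      · have h1 : tvSL u ψ hψu' ∈ stab (dRep n F) (Submodule.span F
            (fix2 (dRep n F) (P : Subgroup (SL n F)) : Set (Fin n → F))) := mem_stab_of_forall fun s hs => by
          rw [dRep_tv, fix2_perp h2 P hn hu hs, neg_zero, zero_smul, add_zero, Submodule.span_eq]
          exact hs
        rwa [Submodule.span_eq] at h1
    have huW : u ∈ W := by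
      have h1 := Submodule.sub_mem _ ((hWs (hM2 ht) e).2 heW) heW
      rwa [vRep_tv, hψ, one_smul, add_sub_cancel_left] at h1
    -- the invariant space is the hyperplane
    have hHW : ann a ≤ W := by
      obtain ⟨φ, hφ, hφe⟩ := exists_dot_sep (v := u) (W := Submodule.span F {e}) hue
      have key : ∀ x, a ⬝ᵥ x = 0 → φ ⬝ᵥ x = 0 → x ∈ W := by
        intro x hax hφx
        have ht : tvSL x φ hφx ∈ S1 := by
          rw [hS1, pairStab, hfe, hfa]
          refine ⟨mem_stab_point ?_, mem_stab_point ?_⟩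
          · rw [vRep_tv, hφe e (Submodule.mem_span_singleton_self e), zero_smul, add_zero]
            exact Submodule.mem_span_singleton_self e
          · rw [dRep_tv, dotProduct_comm x a, hax, neg_zero, zero_smul, add_zero]
            exact Submodule.mem_span_singleton_self a
        have h1 := Submodule.sub_mem _ ((hWs (hM1 ht) u).2 huW) huW
        rwa [vRep_tv, hφ, one_smul, add_sub_cancel_left] at h1
      intro x hx
      have h1 := key (x - (φ ⬝ᵥ x) • u) (by rw [dotProduct_sub, dotProduct_smul, mem_ann.1 hx, huH, smul_zero, sub_zero])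
        (by rw [dotProduct_sub, dotProduct_smul, hφ, smul_eq_mul, mul_one, sub_self])
      have h2 := W.add_mem h1 (W.smul_mem (φ ⬝ᵥ x) huW)
      rwa [sub_add_cancel] at h2
    -- move the hyperplane along the second layer of functionals
    obtain ⟨b, hb, hba⟩ := exists_fix2 h2 (dualSylow P) ha0 ha'
    rw [← fix2_dual] at hb
    obtain ⟨z, hz, hzb⟩ := exists_dot_sep (v := a) (W := Submodule.span F {b}) fun h => hba (by
      obtain ⟨c, hc⟩ := Submodule.mem_span_singleton.1 h
      refine Submodule.mem_span_singleton.2 ⟨c⁻¹, ?_⟩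
      rw [← hc, inv_smul_smul₀ fun h0 => ha0 (by rw [← hc, h0, zero_smul])])
    have hbz : b ⬝ᵥ z = 0 := by rw [dotProduct_comm]; exact hzb b (Submodule.mem_span_singleton_self b)
    have hs : tvSL z b hbz ∈ S2 := by
      rw [hS2]
      constructor
      · have h1 : tvSL z b hbz ∈ stab (vRep n F) (Submodule.span F
            (fix2 (vRep n F) (P : Subgroup (SL n F)) : Set (Fin n → F))) := mem_stab_of_forall fun s hs => by
          rw [vRep_tv, dotProduct_comm, fix2_perp h2 P hn hs hb, zero_smul, add_zero, Submodule.span_eq]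
          exact hs
        rwa [Submodule.span_eq] at h1
      · have h1 : tvSL z b hbz ∈ stab (dRep n F) (Submodule.span F
            (fix2 (dRep n F) (P : Subgroup (SL n F)) : Set (Fin n → F))) := mem_stab_of_forall fun s hs => by
          rw [dRep_tv, Submodule.span_eq]
          exact Submodule.add_mem _ hs (Submodule.smul_mem _ _ hb)
        rwa [Submodule.span_eq] at h1
    obtain ⟨x, hxb, hxa⟩ := exists_dot_sep (v := b) (W := Submodule.span F {a}) hba
    have hax : a ⬝ᵥ x = 0 := by rw [dotProduct_comm]; exact hxa a (Submodule.mem_span_singleton_self a)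
    have h1 := mem_ann.1 (hW ((hWs (hM2 hs) x).2 (hHW (mem_ann.2 hax))))
    rw [vRep_tv, dotProduct_add, hax, zero_add, dotProduct_comm b x, hxb, one_smul, dotProduct_comm, hz] at h1
    exact one_ne_zero h1

end CfsgLib.HallGen.PMinimal.Linear
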