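import Cfsg.Agent.Lib.HallGen.PMinimal.Basic
import Mathlib.GroupTheory.GroupAction.ConjAct

/-!
A minimal group normalising a group with parabolic subgroups.
-/

set_option autoImplicit false

namespace CfsgLib.HallGen.PMinimal

universe u

variable {X : Type u} [Group X] [Finite X] {p : ℕ} [Fact p.Prime]

/-- The action of the overgroup on subgroups of a normal subgroup. -/
theorem map_conjNormal (K : Subgroup X) [K.Normal] (y : X) (Y : Subgroup K) :
    (Y.map (MulAut.conjNormal y : MulAut K).toMonoidHom).map K.subtype =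
      (Y.map K.subtype).map (MulAut.conj y).toMonoidHom := by
  rw [Subgroup.map_map, Subgroup.map_map]
  rfl

variable (K : Subgroup X) [K.Normal]

omit [Finite X] [Fact p.Prime] in
/-- The Sylow subgroup is the intersection. -/
theorem inf_eq_map (U : Sylow p K) (P : Sylow p X) (h : (U : Subgroup K).map K.subtype ≤ P) :
    (P : Subgroup X) ⊓ K = (U : Subgroup K).map K.subtype := by
  have hp : IsPGroup p ↥((P : Subgroup X).subgroupOf K) :=
    P.isPGroup'.comap_of_injective K.subtype K.subtype_injective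
  have h1 : (P : Subgroup X).subgroupOf K = U :=
    U.is_maximal' hp (Subgroup.map_le_iff_le_comap.1 h)
  rw [← h1, Subgroup.subgroupOf_map_subtype]

omit [Finite X] [Fact p.Prime] in
theorem le_normalizer (U : Sylow p K) (P : Sylow p X) (h : (U : Subgroup K).map K.subtype ≤ P) :
    (P : Subgroup X) ≤ Subgroup.normalizer (((U : Subgroup K).map K.subtype : Subgroup X) : Set X) := by
  intro y hy
  rw [← inf_eq_map K U P h]
  refine Subgroup.mem_normalizer_iff.2 fun x => ?_
  rw [Subgroup.mem_inf, Subgroup.mem_inf, Subgroup.mul_mem_cancel_right _ (inv_mem hy),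
    Subgroup.mul_mem_cancel_left _ hy]
  exact and_congr_right fun _ => ⟨fun hx => Subgroup.Normal.conj_mem inferInstance x hx y, fun hx => by
    simpa [mul_assoc] using Subgroup.Normal.conj_mem (inferInstance : K.Normal) _ hx y⁻¹⟩

omit [Finite X] [Fact p.Prime] in
theorem subgroupOf_normalizer (S : Subgroup K) :
    (Subgroup.normalizer ((S.map K.subtype : Subgroup X) : Set X)).subgroupOf K =
      Subgroup.normalizer (S : Set K) := by
  ext k
  rw [Subgroup.mem_subgroupOf, Subgroup.mem_normalizer_iff, Subgroup.mem_normalizer_iff]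
  constructor
  · intro h x
    rw [← Subgroup.mem_map_iff_mem K.subtype_injective, h, ← Subgroup.mem_map_iff_mem K.subtype_injective (x := k * x * k⁻¹)]
    rfl
  · intro h x
    constructor
    · rintro ⟨a, ha, rfl⟩
      exact ⟨k * a * k⁻¹, (h a).1 ha, rfl⟩
    · rintro ⟨a, ha, e⟩
      refine ⟨k⁻¹ * a * k, (h _).2 (by simpa [mul_assoc] using ha), ?_⟩
      simp only [Subgroup.subtype_apply, Subgroup.coe_mul, Subgroup.coe_inv] at e ⊢
      rw [e]; group

/-- The unique maximal subgroup over a Sylow subgroup, seen from the socle. -/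
theorem exists_max (hX : Cfsg.IsPMinimal p X) (U : Sylow p K)
    (hN : Subgroup.normalizer ((U : Subgroup K) : Set K) ≠ ⊤) :
    ∃ (P : Sylow p X) (M : Subgroup X), (U : Subgroup K).map K.subtype ≤ P ∧ IsCoatom M ∧
      Subgroup.normalizer (((U : Subgroup K).map K.subtype : Subgroup X) : Set X) ≤ M ∧ ¬ K ≤ M ∧
      ∀ Y : Subgroup K, (U : Subgroup K) ≤ Y → Y ≠ ⊤ →
        (∀ y ∈ (P : Subgroup X), Y.map (MulAut.conjNormal y : MulAut K).toMonoidHom = Y) → Y ≤ M.subgroupOf K := by
  obtain ⟨P, hP⟩ := (U.isPGroup'.map K.subtype).exists_le_sylow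
  obtain ⟨-, M, ⟨hM, hPM⟩, huniq⟩ := hX P
  have hover : ∀ H : Subgroup X, H ≠ ⊤ → (P : Subgroup X) ≤ H → H ≤ M := by
    intro H hH hPH
    rcases eq_top_or_exists_le_coatom H with h | ⟨M', hM', hle⟩
    · exact absurd h hH
    · exact huniq M' ⟨hM', hPH.trans hle⟩ ▸ hle
  have hNne : Subgroup.normalizer (((U : Subgroup K).map K.subtype : Subgroup X) : Set X) ≠ ⊤ := fun h => hN (by
    rw [← subgroupOf_normalizer, h, Subgroup.subgroupOf, Subgroup.comap_top])
  have hNM := hover _ hNne (le_normalizer K U P hP)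
  have hKM : ¬ K ≤ M := fun h => hM.1 (top_le_iff.1 ((Sylow.normalizer_sup_eq_top U).ge.trans (sup_le hNM h)))
  refine ⟨P, M, hP, hM, hNM, hKM, fun Y hUY hY hinv => ?_⟩
  have hnorm : (P : Subgroup X) ≤ Subgroup.normalizer ((Y.map K.subtype : Subgroup X) : Set X) := by
    intro y hy
    refine Subgroup.mem_normalizer_iff.2 fun x => ?_
    have h1 : (Y.map K.subtype).map (MulAut.conj y).toMonoidHom = Y.map K.subtype := by
      rw [← map_conjNormal, hinv y hy]
    constructor
    · intro hx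
      exact h1.le ⟨x, hx, rfl⟩
    · intro hx
      obtain ⟨z, hz, e⟩ := h1.ge hx
      rwa [← (MulAut.conj y).injective e]
  have hne : Y.map K.subtype ⊔ (P : Subgroup X) ≠ ⊤ := by
    intro h
    refine hY (eq_top_iff.2 fun k _ => ?_)
    have hk : (k : X) ∈ (↑(Y.map K.subtype ⊔ (P : Subgroup X)) : Set X) := h ▸ Subgroup.mem_top _
    rw [Subgroup.coe_mul_of_right_le_normalizer_left _ _ hnorm] at hk
    obtain ⟨a, ⟨a', ha', rfl⟩, b, hb, e⟩ := hk
    have hbK : b ∈ K := by
      rw [show b = ((a' : X))⁻¹ * k from eq_inv_mul_of_mul_eq e]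
      exact mul_mem (inv_mem a'.2) k.2
    obtain ⟨b', hb', rfl⟩ := (inf_eq_map K U P hP).le ⟨hb, hbK⟩
    rw [show k = a' * b' from Subtype.ext e.symm]
    exact mul_mem ha' (hUY hb')
  exact fun k hk => hover _ hne le_sup_right (le_sup_left (b := (P : Subgroup X)) ⟨k, hk, rfl⟩)

omit [Fact p.Prime] in
/-- The automorphisms induced by a `p`-subgroup have `p`-power order. -/
theorem exists_pow_conjNormal {P : Sylow p X} {y : X} (hy : y ∈ (P : Subgroup X)) :
    ∃ k : ℕ, (MulAut.conjNormal y : MulAut K) ^ p ^ k = 1 := by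
  obtain ⟨k, hk⟩ := P.isPGroup' ⟨y, hy⟩
  exact ⟨k, by rw [← map_pow, show y ^ p ^ k = 1 from congrArg Subtype.val hk, map_one]⟩

theorem map_eq_of_mem {U : Sylow p K} {P : Sylow p X} (h : (U : Subgroup K).map K.subtype ≤ P) {y : X}
    (hy : y ∈ (P : Subgroup X)) :
    (U : Subgroup K).map (MulAut.conjNormal y : MulAut K).toMonoidHom = U := by
  refine Subgroup.map_injective K.subtype_injective ?_
  rw [map_conjNormal]
  ext x
  constructor
  · rintro ⟨z, hz, rfl⟩
    exact (Subgroup.mem_normalizer_iff.1 (le_normalizer K U P h hy) z).1 hz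
  · intro hx
    refine ⟨y⁻¹ * x * y, (Subgroup.mem_normalizer_iff.1 (le_normalizer K U P h hy) _).2 ?_, by
      show y * (y⁻¹ * x * y) * y⁻¹ = x; group⟩
    simpa [mul_assoc] using hx

/-- Invariant generating overgroups are impossible. -/
theorem Split.false (h : Split p K) (hX : Cfsg.IsPMinimal p X) : False := by
  obtain ⟨U, hN, 𝒴, h1, h2⟩ := h
  obtain ⟨P, M, hP, -, -, hKM, hY⟩ := exists_max K hX U hN
  refine hKM (Subgroup.subgroupOf_eq_top.1 (top_le_iff.1 (h2 ▸ sSup_le fun Y hY' => ?_)))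
  obtain ⟨hUY, hne, hinv⟩ := h1 Y hY'
  exact hY Y hUY hne fun y hy => hinv _ (exists_pow_conjNormal K hy) (map_eq_of_mem K hP hy)

/-- If the intersection is the normaliser, the normaliser is maximal. -/
theorem isCoatom_of_le {U : Sylow p K} {M : Subgroup X} (hM : IsCoatom M)
    (hNM : Subgroup.normalizer (((U : Subgroup K).map K.subtype : Subgroup X) : Set X) ≤ M)
    (hle : M.subgroupOf K ≤ Subgroup.normalizer ((U : Subgroup K) : Set K)) :
    IsCoatom (Subgroup.normalizer (((U : Subgroup K).map K.subtype : Subgroup X) : Set X)) := by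
  obtain ⟨N, hN⟩ : ∃ N, N = Subgroup.normalizer (((U : Subgroup K).map K.subtype : Subgroup X) : Set X) :=
    ⟨_, rfl⟩
  rw [← hN] at hNM ⊢
  suffices h : M = N from h ▸ hM
  refine le_antisymm (fun m hm => ?_) hNM
  have htop : N ⊔ K = ⊤ := hN ▸ Sylow.normalizer_sup_eq_top U
  have hm' : m ∈ (↑(N ⊔ K) : Set X) := htop ▸ Subgroup.mem_top m
  rw [Subgroup.mul_normal] at hm'
  obtain ⟨n, hn, k, hk, rfl⟩ := hm'
  have hkM : k ∈ M := (Subgroup.mul_mem_cancel_left _ (hNM hn)).1 hm
  refine mul_mem hn ?_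
  have := hle (show (⟨k, hk⟩ : K) ∈ M.subgroupOf K from hkM)
  rw [← subgroupOf_normalizer, ← hN] at this
  exact this

/-- Rank one. -/
theorem RankOne.isCoatom (h : RankOne p K) (hX : Cfsg.IsPMinimal p X) (U : Sylow p K) :
    IsCoatom (Subgroup.normalizer (((U : Subgroup K).map K.subtype : Subgroup X) : Set X)) := by
  have hU := h.forall_sylow U
  obtain ⟨P, M, -, hM, hNM, hKM, -⟩ := exists_max K hX U hU.1
  refine isCoatom_of_le K hM hNM ?_
  have hle : Subgroup.normalizer ((U : Subgroup K) : Set K) ≤ M.subgroupOf K := by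
    rw [← subgroupOf_normalizer]
    exact Subgroup.comap_mono hNM
  rcases hU.le_iff.1 hle with h1 | h1
  · exact absurd (Subgroup.subgroupOf_eq_top.1 h1) hKM
  · exact h1.le

omit [Finite X] [K.Normal] [Fact p.Prime] in
theorem perm_of_le {Y₁ Y₂ Z : Subgroup K} {α : MulAut K} [Finite K]
    (hpair : ∀ Y : Subgroup K, Z ≤ Y → Y ≠ ⊤ → Y ≤ Y₁ ∨ Y ≤ Y₂) (hne : Y₁ ≠ ⊤)
    (hZ : Z ≤ Y₁.map α.toMonoidHom) (hout : ¬ Y₁.map α.toMonoidHom ≤ Y₂) :
    Y₁.map α.toMonoidHom = Y₁ := by
  have h1 : Y₁.map α.toMonoidHom ≠ ⊤ := fun e => hne ((map_eq_top_iff α).1 e)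
  refine Subgroup.eq_of_le_of_card_ge ((hpair _ hZ h1).resolve_right hout) ?_
  exact le_of_eq (Nat.card_congr (Y₁.equivMapOfInjective α.toMonoidHom α.injective).toEquiv)

/-- Rank two: the normaliser is maximal and the group is not the socle. -/
theorem RankTwo.isCoatom (h : RankTwo p K) (hX : Cfsg.IsPMinimal p X) (U : Sylow p K) :
    IsCoatom (Subgroup.normalizer (((U : Subgroup K).map K.subtype : Subgroup X) : Set X)) ∧ K ≠ ⊤ := by
  obtain ⟨P₁, P₂, hP₁, hP₂, hsup, hinf, hpair⟩ := h.forall_sylow U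
  obtain ⟨Z, hZ⟩ : ∃ Z, Z = Subgroup.normalizer ((U : Subgroup K) : Set K) := ⟨_, rfl⟩
  rw [← hZ] at hinf hpair
  have hUZ : (U : Subgroup K) ≤ Z := hZ ▸ Subgroup.le_normalizer
  obtain ⟨P, M, hP, hM, hNM, hKM, hY⟩ := exists_max K hX U (fun e => hP₁ (top_le_iff.1 (by
    rw [← e, ← hZ, ← hinf]; exact inf_le_left)))
  have hZM : Z ≤ M.subgroupOf K := by
    rw [hZ, ← subgroupOf_normalizer]
    exact Subgroup.comap_mono hNM
  have hne : M.subgroupOf K ≠ ⊤ := fun e => hKM (Subgroup.subgroupOf_eq_top.1 e)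
  have hnot : ∀ i : Subgroup K, i = P₁ ∨ i = P₂ →
      (∀ y ∈ (P : Subgroup X), i.map (MulAut.conjNormal y : MulAut K).toMonoidHom = i) → i ≤ M.subgroupOf K := by
    intro i hi hinv
    refine hY i (hUZ.trans ?_) ?_ hinv <;> rcases hi with rfl | rfl
    exacts [hinf ▸ inf_le_left, hinf ▸ inf_le_right, hP₁, hP₂]
  -- the pair cannot be fixed
  have key : ¬ ∀ y ∈ (P : Subgroup X), P₁.map (MulAut.conjNormal y : MulAut K).toMonoidHom = P₁ := by
    intro h1
    refine hne (top_le_iff.1 (hsup ▸ sup_le (hnot _ (Or.inl rfl) h1) (hnot _ (Or.inr rfl) fun y hy => ?_)))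
    refine perm_of_le (K := K) (fun Y hY' hY'' => (hpair Y hY' hY'').symm) hP₂ ?_ fun hle => ?_
    · have hU' := map_eq_of_mem K hP hy
      have : Z.map (MulAut.conjNormal y : MulAut K).toMonoidHom = Z := by
        rw [hZ, ← normalizer_map, hU']
      rw [← this]
      exact Subgroup.map_mono (hinf ▸ inf_le_right)
    · refine hP₁ ?_
      rw [← map_eq_top_iff (MulAut.conjNormal y : MulAut K), eq_top_iff,
        ← Subgroup.map_top_of_surjective (MulAut.conjNormal y : MulAut K).toMonoidHom (MulAut.conjNormal y : MulAut K).surjective, ← hsup, Subgroup.map_sup]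
      exact sup_le le_rfl (hle.trans (h1 y hy).ge)
  refine ⟨isCoatom_of_le K hM hNM ?_, fun hK => key fun y hy => ?_⟩
  · rw [← hZ, ← hinf]
    -- an intersection inside one of the pair only would fix it
    have hfix : ∀ y ∈ (P : Subgroup X), (M.subgroupOf K).map (MulAut.conjNormal y : MulAut K).toMonoidHom =
        M.subgroupOf K := by
      intro y hy
      have hyM : y ∈ M := hNM (le_normalizer K U P hP hy)
      refine Subgroup.eq_of_le_of_card_ge ?_ (le_of_eq
        (Nat.card_congr ((M.subgroupOf K).equivMapOfInjective (MulAut.conjNormal y : MulAut K).toMonoidHom (MulAut.conjNormal y : MulAut K).injective).toEquiv))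
      rintro _ ⟨k, hk, rfl⟩
      exact mul_mem (mul_mem hyM hk) (inv_mem hyM)
    by_contra hnle
    rcases not_and_or.1 (fun h => hnle (le_inf h.1 h.2)) with h1 | h1
    · have h2 := (hpair _ hZM hne).resolve_left h1
      refine key fun y hy => ?_
      have hP₂fix : P₂.map (MulAut.conjNormal y : MulAut K).toMonoidHom = P₂ := by
        refine perm_of_le (K := K) (Z := Z) (fun Y hY' hY'' => (hpair Y hY' hY'').symm) hP₂
          (hZM.trans ((hfix y hy).ge.trans (Subgroup.map_mono h2))) fun hle => h1 ?_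
        exact (hfix y hy).ge.trans ((Subgroup.map_mono h2).trans hle)
      refine perm_of_le (K := K) (Z := Z) hpair hP₁ ?_ fun hle => hP₂ ?_
      · rw [show Z = Z.map (MulAut.conjNormal y : MulAut K).toMonoidHom by
          rw [hZ, ← normalizer_map, map_eq_of_mem K hP hy]]
        exact Subgroup.map_mono (hinf ▸ inf_le_left)
      · rw [← map_eq_top_iff (MulAut.conjNormal y : MulAut K), eq_top_iff,
          ← Subgroup.map_top_of_surjective (MulAut.conjNormal y : MulAut K).toMonoidHom (MulAut.conjNormal y : MulAut K).surjective, ← hsup, Subgroup.map_sup]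
        exact sup_le (hle.trans hP₂fix.ge) le_rfl
    · have h2 := (hpair _ hZM hne).resolve_right h1
      refine key fun y hy => perm_of_le (K := K) (Z := Z) hpair hP₁
        (hZM.trans ((hfix y hy).ge.trans (Subgroup.map_mono h2))) fun hle => h1 ?_
      exact (hfix y hy).ge.trans ((Subgroup.map_mono h2).trans hle)
  · -- in the socle the pair is fixed by the Sylow subgroup
    obtain ⟨u, hu, e⟩ := (inf_eq_map K U P hP).le ⟨hy, hK ▸ Subgroup.mem_top y⟩
    have hu1 : u ∈ P₁ := (hUZ.trans (hinf ▸ inf_le_left)) hu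
    refine Subgroup.eq_of_le_of_card_ge ?_ (le_of_eq
      (Nat.card_congr (P₁.equivMapOfInjective (MulAut.conjNormal y : MulAut K).toMonoidHom (MulAut.conjNormal y : MulAut K).injective).toEquiv))
    rintro _ ⟨k, hk, rfl⟩
    have h4 : (MulAut.conjNormal y : MulAut K) k = u * k * u⁻¹ := Subtype.ext (by
      rw [MulAut.conjNormal_apply, ← e]; rfl)
    show (MulAut.conjNormal y : MulAut K) k ∈ P₁
    rw [h4]
    exact mul_mem (mul_mem hu1 hk) (inv_mem hu1)

/-- Rank two at an odd prime: each of the pair is fixed, which is impossible. -/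
theorem RankTwo.two_eq (h : RankTwo p K) (hX : Cfsg.IsPMinimal p X) : p = 2 := by
  by_contra hp
  obtain ⟨U, P₁, P₂, hP₁, hP₂, hsup, hinf, hpair⟩ := h
  refine Split.false K ⟨U, fun e => hP₁ (top_le_iff.1 (by rw [← e, ← hinf]; exact inf_le_left)),
    {P₁, P₂}, ?_, by rw [sSup_pair, hsup]⟩ hX
  have hflip : ∀ Q R : Subgroup K, Q ≠ ⊤ → R ≠ ⊤ → Q ⊔ R = ⊤ →
      Q ⊓ R = Subgroup.normalizer ((U : Subgroup K) : Set K) →
      (∀ Y, Subgroup.normalizer ((U : Subgroup K) : Set K) ≤ Y → Y ≠ ⊤ → Y ≤ Q ∨ Y ≤ R) →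
      Inv p (U : Subgroup K) Q := by
    intro Q R hQ hR hs hi hp' α ⟨k, hk⟩ hU
    have hZ : ∀ β : MulAut K, (U : Subgroup K).map β.toMonoidHom = U → ∀ W,
        Subgroup.normalizer ((U : Subgroup K) : Set K) ≤ W →
          Subgroup.normalizer ((U : Subgroup K) : Set K) ≤ W.map β.toMonoidHom := fun β hβ W hW =>
      le_trans (le_of_eq (by rw [← normalizer_map, hβ])) (Subgroup.map_mono hW)
    by_contra hne
    have h1 : Q.map α.toMonoidHom ≤ R := by
      by_contra h
      exact hne (perm_of_le (K := K) hp' hQ (hZ α hU Q (hi ▸ inf_le_left)) h)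
    have h2 : ¬ R.map α.toMonoidHom ≤ R := fun h => hR (by
      rw [← map_eq_top_iff α, eq_top_iff, ← Subgroup.map_top_of_surjective α.toMonoidHom α.surjective, ← hs, Subgroup.map_sup]
      exact sup_le (h1.trans (Subgroup.eq_of_le_of_card_ge h (le_of_eq
        (Nat.card_congr (R.equivMapOfInjective α.toMonoidHom α.injective).toEquiv))).ge) le_rfl)
    have h3 : R.map α.toMonoidHom ≤ Q :=
      (hp' _ (hZ α hU R (hi ▸ inf_le_right)) fun e => hR ((map_eq_top_iff α).1 e)).resolve_right h2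
    have hc1 := Nat.card_congr (Q.equivMapOfInjective α.toMonoidHom α.injective).toEquiv
    have hc2 := Nat.card_congr (R.equivMapOfInjective α.toMonoidHom α.injective).toEquiv
    have hcard : Nat.card Q = Nat.card R := le_antisymm (hc1 ▸ Subgroup.card_le_of_le h1)
      (hc2 ▸ Subgroup.card_le_of_le h3)
    have e1 : Q.map α.toMonoidHom = R := Subgroup.eq_of_le_of_card_ge h1 (by omega)
    have e2 : R.map α.toMonoidHom = Q := Subgroup.eq_of_le_of_card_ge h3 (by omega)
    have hodd : ∀ n, Odd n → Q.map (α ^ n).toMonoidHom = R := by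
      intro n hn
      obtain ⟨j, rfl⟩ := hn
      induction j with
      | zero => simpa using e1
      | succ j ih =>
        rw [show 2 * (j + 1) + 1 = 1 + 1 + (2 * j + 1) by ring, pow_add, pow_add, pow_one]
        show Q.map ((α.toMonoidHom.comp α.toMonoidHom).comp (α ^ (2 * j + 1)).toMonoidHom) = R
        rw [← Subgroup.map_map, ih, ← Subgroup.map_map, e2, e1]
    have h5 := hodd (p ^ k) (((Fact.out : p.Prime).odd_of_ne_two hp).pow)
    rw [hk, show ((1 : MulAut K).toMonoidHom) = MonoidHom.id K from rfl, Subgroup.map_id] at h5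
    exact hQ (by rw [← hs, h5, sup_idem])
  rintro Y (rfl | rfl)
  · exact ⟨Subgroup.le_normalizer.trans (hinf ▸ inf_le_left), hP₁, hflip _ _ hP₁ hP₂ hsup hinf hpair⟩
  · exact ⟨Subgroup.le_normalizer.trans (hinf ▸ inf_le_right), hP₂, hflip _ _ hP₂ hP₁ (sup_comm Y P₁ ▸ hsup)
      (inf_comm Y P₁ ▸ hinf) fun W h1 h2 => (hpair W h1 h2).symm⟩

end CfsgLib.HallGen.PMinimal
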