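import Cfsg.Agent.Lib.HallGen.PMinimal.FixedMod
import Cfsg.Agent.Lib.HallGen.Overgroup.Classical
import Cfsg.Agent.Lib.Known.AutPOmega.Gamma
import Cfsg.Agent.Lib.Classical.ChevModel.D4
import Cfsg.Agent.Lib.HallGen.PMinimal.Exceptional

/-!
The orthogonal groups are not minimal over a Sylow subgroup in the defining characteristic.
-/

set_option autoImplicit false

namespace CfsgLib.HallGen.PMinimal

open CfsgLib.HallGen.Overgroup CfsgLib.Blocks.DefectLie
open QuadraticMap (polar polarBilin)
open CfsgLib.Classical.Quad CfsgLib.Known.OmegaCriterion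
open CfsgLib.Classical.SylowCharTwo (perp mem_perp even_card_singular)

theorem finrank_pair_le {F : Type*} [Field F] {V : Type*} [AddCommGroup V] [Module F V] (a b : V) :
    Module.finrank F (Submodule.span F ({a, b} : Set V)) ≤ 2 := by
  have h : ({a, b} : Set V) = Set.range ![a, b] := by simp [Matrix.range_cons, Matrix.range_empty, Set.pair_comm]
  rw [h]
  exact (finrank_range_le_card _).trans (Fintype.card_fin 2).le

section Geometry

variable {F : Type*} [Field F] [Finite F] {p : ℕ} [Fact p.Prime] [CharP F p]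
  {V : Type*} [AddCommGroup V] [Module F V] [FiniteDimensional F V] {Q : QuadraticForm F V}
  (hQ : (polarBilin Q).Nondegenerate) (hn : 7 ≤ Module.finrank F V) [Finite (commutator (OQ Q))]

omit [Fact p.Prime] [CharP F p] in
include hn hQ in
theorem htr_quad : ∀ {x v v'}, x ∈ (quadGeom hQ).sing → v ∈ (quadGeom hQ).sing →
    v' ∈ (quadGeom hQ).sing → ¬ (quadGeom hQ).perp x v → ¬ (quadGeom hQ).perp x v' →
      ∃ g ∈ (quadGeom hQ).rootGp x, ∃ c : F, c ≠ 0 ∧ omegaRep Q g v = c • v' := by
  replace hn : 5 ≤ Module.finrank F V := by omega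
  intro x v v' hx hv0 hv0' hv hv'
  change ¬ polar Q x v = 0 at hv
  change ¬ polar Q x v' = 0 at hv'
  obtain ⟨c, hc⟩ : ∃ c, c = polar Q x v / polar Q x v' := ⟨_, rfl⟩
  obtain ⟨k, hk⟩ : ∃ k, k = polar Q x v := ⟨_, rfl⟩
  have hk0 : k ≠ 0 := hk ▸ hv
  obtain ⟨a, ha⟩ : ∃ a, a = k⁻¹ • (v - c • v') := ⟨_, rfl⟩
  have hxa : polar Q x a = 0 := by
    rw [ha, polar_smul_right', QuadraticMap.polar_sub_right, polar_smul_right', hc,
      div_mul_cancel₀ _ hv', sub_self, mul_zero]
  have hv'' : c • v' = v + (-k) • a := by rw [ha, neg_smul, smul_inv_smul₀ hk0]; abel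
  have hva : polar Q v a = k * Q a := by
    have e : Q (c • v') = 0 := by rw [apply_smul, hv0'.2, mul_zero]
    rw [hv'', apply_add, apply_smul, hv0.2, polar_smul_right'] at e
    refine mul_left_cancel₀ hk0 ?_
    linear_combination -e
  have hle : Submodule.span F {x} ≤ (quadGeom hQ).orth {x} :=
    Submodule.span_le.2 fun y hy u hu => by rw [hy, hu]; exact (quadGeom hQ).self hx
  have hz : ∀ z, omegaRep Q (eichΩ hQ hn hx.2 hxa) z =
      z + (polar Q z a - Q a * polar Q z x) • x + (-polar Q z x) • a := eich_apply hQ hx.2 hxa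
  refine ⟨eichΩ hQ hn hx.2 hxa, mem_flagFix _ hle (fun w hw => ?_) (fun w hw => ?_) (fun w => ?_), c,
    fun e => hv (by rw [e, eq_comm, div_eq_zero_iff] at hc; exact hc.resolve_right hv'), ?_⟩
  · obtain ⟨s, rfl⟩ := Submodule.mem_span_singleton.1 hw
    rw [hz, polar_smul_left', polar_smul_left', hxa,
      show polar Q x x = 0 from (quadGeom hQ).self hx]; simp
  · rw [hz, show polar Q w x = 0 from (quadGeom hQ).symm (hw x rfl), mul_zero, sub_zero, neg_zero,
      zero_smul, add_zero, add_sub_cancel_left]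
    exact Submodule.smul_mem _ _ (Submodule.mem_span_singleton_self x)
  · rw [hz, add_assoc, add_sub_cancel_left]
    exact Submodule.add_mem _ (Submodule.smul_mem _ _ (hle (Submodule.mem_span_singleton_self x)))
      (Submodule.smul_mem _ _ fun u hu => by rw [hu]; exact hxa)
  · rw [hz, hv'', QuadraticMap.polar_comm (⇑Q) v x, ← hk, hva, mul_comm k, sub_self, zero_smul,
      add_zero]

include hn hQ in
theorem sep_quad : Sep (quadGeom hQ) := by
  intro T u v hT hsing hperp huT hv0 hvW
  have hn5 : 5 ≤ Module.finrank F V := by omega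
  set S := insert u T
  set W := Submodule.span F S
  have huS : u ∈ S := Set.mem_insert u T
  have huW : u ∈ W := Submodule.subset_span huS
  have hu : Q u = 0 := (hsing u huS).2
  have hle : W ≤ (quadGeom hQ).orth S := fun y hy b hb =>
    (quadGeom hQ).symm ((quadGeom hQ).span_le_orth hperp hy fun z hz => hperp z hz b hb)
  have hOu : ∀ z ∈ (quadGeom hQ).orth S, polar Q z u = 0 := fun z hz => (quadGeom hQ).symm (hz u huS)
  -- the Eichler element of `u` and a vector orthogonal to the flag
  have key : ∀ a, (∀ w ∈ W, polar Q w a = 0) → ∀ (hua : polar Q u a = 0),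
      eichΩ hQ hn5 hu hua ∈ flagFix (omegaRep Q) W ((quadGeom hQ).orth S) := by
    intro a haW hua
    have hz : ∀ z, omegaRep Q (eichΩ hQ hn5 hu hua) z =
        z + (polar Q z a - Q a * polar Q z u) • u + (-polar Q z u) • a := eich_apply hQ hu hua
    have haO : a ∈ (quadGeom hQ).orth S := fun s hs => haW s (Submodule.subset_span hs)
    refine mem_flagFix _ hle (fun w hw => ?_) (fun w hw => ?_) fun w => ?_
    · rw [hz, haW w hw, hOu w (hle hw)]; simp
    · rw [hz, hOu w hw, mul_zero, sub_zero, neg_zero, zero_smul, add_zero, add_sub_cancel_left]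
      exact Submodule.smul_mem _ _ huW
    · rw [hz, add_assoc, add_sub_cancel_left]
      exact Submodule.add_mem _ (Submodule.smul_mem _ _ (hle huW)) (Submodule.smul_mem _ _ haO)
  by_cases huv : polar Q v u = 0
  · obtain ⟨a, hva, haW⟩ := exists_sep_polar hQ hvW
    have hua : polar Q u a = 0 := haW u huW
    refine ⟨_, key a haW hua, fun h => huT ?_⟩
    have hz : omegaRep Q (eichΩ hQ hn5 hu hua) v = _ := eich_apply hQ hu hua v
    rw [hz, huv, hva, mul_zero, sub_zero, one_smul, neg_zero, zero_smul, add_zero, add_sub_cancel_left] at h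
    exact h
  · obtain ⟨a, ha, haW⟩ : ∃ a ∈ perp Q W, a ∉ W := by
      by_contra hc
      push Not at hc
      have h1 := Submodule.finrank_mono (show perp Q W ≤ W from hc)
      have h2 : Module.finrank F (perp Q W) = Module.finrank F V - Module.finrank F W :=
        LinearMap.BilinForm.finrank_orthogonal hQ W
      have h3 : Module.finrank F W ≤ 2 := by
        rcases hT.eq_empty_or_singleton with rfl | ⟨e, rfl⟩
        · exact (Submodule.finrank_mono (Submodule.span_mono (show S ⊆ {u, u} by simp [S]))).trans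
            (finrank_pair_le u u)
        · exact finrank_pair_le u e
      omega
    have hua : polar Q u a = 0 := mem_perp.1 ha u huW
    refine ⟨_, key a (mem_perp.1 ha) hua, fun h => haW ?_⟩
    have hz : omegaRep Q (eichΩ hQ hn5 hu hua) v = _ := eich_apply hQ hu hua v
    rw [hz, add_assoc, add_sub_cancel_left] at h
    have h1 : (-polar Q v u) • a ∈ W := by
      have h2 := W.sub_mem (Submodule.span_mono (Set.subset_insert u T) h)
        (W.smul_mem (polar Q v a - Q a * polar Q v u) huW)
      rwa [add_sub_cancel_left] at h2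
    have h2 := W.smul_mem (-polar Q v u)⁻¹ h1
    rwa [inv_smul_smul₀ (neg_ne_zero.2 huv)] at h2

include hn hQ in
theorem irred_quad : Irred (quadGeom hQ) := by
  intro e he y hy0 hey hy
  have hn5 : 5 ≤ Module.finrank F V := by omega
  obtain ⟨z', hyz, hze⟩ := exists_sep_polar hQ hy
  have hez : polar Q e z' = 0 := hze e (Submodule.mem_span_singleton_self e)
  have hey' : polar Q e y = 0 := hey
  obtain ⟨z, hz⟩ : ∃ z, z = z' + (-Q z') • y := ⟨_, rfl⟩
  have hze2 : polar Q e z = 0 := by rw [hz, polar_add_right', polar_smul_right', hez, hey']; ring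
  have hyz2 : polar Q y z = 1 := by rw [hz, polar_add_right', polar_smul_right', hyz, polar_self', hy0.2]; ring
  have hzz : Q z = 0 := by
    rw [hz, apply_add, apply_smul, hy0.2, polar_smul_right', QuadraticMap.polar_comm (⇑Q) z', hyz]; ring
  obtain ⟨a, ha, hQa⟩ : ∃ a ∈ perp Q (Submodule.span F {z, e}), Q a ≠ 0 := by
    by_contra hc
    push Not at hc
    set P := Submodule.span F ({z, e} : Set V)
    have h1 : perp Q P ≤ perp Q (perp Q P) := fun x hx => mem_perp.2 fun w hw => by
      have h2 := hc _ (Submodule.add_mem _ hw hx)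
      rw [apply_add, hc w hw, hc x hx] at h2
      simpa using h2
    rw [perp_perp hQ hn5] at h1
    have h2 := Submodule.finrank_mono h1
    have h3 : Module.finrank F (perp Q P) = Module.finrank F V - Module.finrank F P :=
      LinearMap.BilinForm.finrank_orthogonal hQ P
    have h4 : Module.finrank F P ≤ 2 := by
      exact finrank_pair_le z e
    omega
  have hza : polar Q z a = 0 := mem_perp.1 ha z (Submodule.subset_span (Or.inl rfl))
  have hea : polar Q e a = 0 := mem_perp.1 ha e (Submodule.subset_span (Or.inr rfl))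
  have hg : ∀ x, omegaRep Q (eichΩ hQ hn5 hzz hza) x =
      x + (polar Q x a - Q a * polar Q x z) • z + (-polar Q x z) • a := eich_apply hQ hzz hza
  refine ⟨eichΩ hQ hn5 hzz hza, by rw [hg, hea, hze2]; simp, fun h => hQa ?_⟩
  have h2 : polar Q y (omegaRep Q (eichΩ hQ hn5 hzz hza) y) = 0 := h
  rw [hg, polar_add_right', polar_add_right', polar_smul_right', polar_smul_right', polar_self', hy0.2, hyz2] at h2
  linear_combination -h2

include hn hQ in
theorem fix_quad : ∀ H : Subgroup (commutator (OQ Q)), IsPGroup p H → H ≠ ⊥ →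
    ∃ e ∈ (quadGeom hQ).sing, ∀ g ∈ H, omegaRep Q g e = e := by
  intro H hH hne
  obtain ⟨e, he0, heW, -, heQ⟩ := exists_singular_fixed (p := p) hQ (by omega) hH hne
  exact ⟨e, ⟨he0, heQ⟩, heW⟩

include hn hQ in
theorem line_quad : ∀ e ∈ (quadGeom hQ).sing, ∀ H : Subgroup (commutator (OQ Q)),
    IsPGroup p H → (∀ g ∈ H, omegaRep Q g e = e) →
      ∃ u ∈ (quadGeom hQ).sing, (quadGeom hQ).perp e u ∧ u ∉ Submodule.span F {e} ∧
        ∀ g ∈ H, omegaRep Q g u - u ∈ Submodule.span F {e} := by
  intro e he H hH hfe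
  haveI : Finite V := Module.finite_of_finite F
  obtain ⟨f, hf, hef⟩ := exists_partner_of_singular hQ he.2 he.1
  have hfe1 : polar Q f e = 1 := by rw [QuadraticMap.polar_comm]; exact hef
  have hee : polar Q e e = 0 := (quadGeom hQ).self he
  obtain ⟨U, hU⟩ : ∃ U, U = Submodule.span F {e} := ⟨_, rfl⟩
  rw [← hU]
  have heU : e ∈ U := hU ▸ Submodule.mem_span_singleton_self e
  have hUstab : H ≤ stab (omegaRep Q) U := hU ▸ le_stab_point hfe
  have hUf : ∀ x ∈ U, polar Q f x = 0 → x = 0 := by
    intro x hx h0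
    rw [hU] at hx
    obtain ⟨c, rfl⟩ := Submodule.mem_span_singleton.1 hx
    rw [polar_smul_right', hfe1, mul_one] at h0
    rw [h0, zero_smul]
  have hperp : ∀ g ∈ H, ∀ x, polar Q e x = 0 → polar Q e (omegaRep Q g x) = 0 := fun g hg x hx => by
    rw [← hx]
    conv_lhs => rw [← hfe g hg]
    exact OQ.map_polar (g : OQ Q) e x
  set P := Submodule.span F ({e, f} : Set V)
  have hP2 : Module.finrank F P ≤ 2 := by
    exact finrank_pair_le e f
  by_cases h2 : (2 : F) = 0
  · -- the singular vectors orthogonal to a hyperbolic pair are even in number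
    obtain rfl : p = 2 := by
      have h3 : p ∣ 2 := (CharP.cast_eq_zero_iff F p 2).1 (by exact_mod_cast h2)
      exact (Nat.prime_dvd_prime_iff_eq Fact.out Nat.prime_two).1 h3
    haveI : CharP F 2 := inferInstance
    obtain ⟨S, hS⟩ : ∃ S : Set V, S = {x | polar Q e x = 0 ∧ Q x = 0} := ⟨_, rfl⟩
    have hTS : ∀ h : {x : V | x ∈ perp Q P ∧ Q x = 0}, (h : V) ∈ S := fun h =>
      hS ▸ ⟨mem_perp.1 h.2.1 e (Submodule.subset_span (Or.inl rfl)), h.2.2⟩
    have hbij : Function.Bijective (fun h : {x : V | x ∈ perp Q P ∧ Q x = 0} =>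
        (⟨Submodule.Quotient.mk (h : V), h, hTS h, rfl⟩ : ↥((Submodule.Quotient.mk : V → V ⧸ U) '' S))) := by
      constructor
      · intro a b e'
        have h1 := (Submodule.Quotient.eq U).1 (congrArg Subtype.val e')
        refine Subtype.ext (sub_eq_zero.1 (hUf _ h1 ?_))
        rw [QuadraticMap.polar_sub_right, mem_perp.1 a.2.1 f (Submodule.subset_span (Or.inr rfl)),
          mem_perp.1 b.2.1 f (Submodule.subset_span (Or.inr rfl)), sub_zero]
      · rintro ⟨_, x, hx, rfl⟩
        rw [hS] at hx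
        obtain ⟨h, hh⟩ : ∃ h, h = x + (-polar Q f x) • e := ⟨_, rfl⟩
        have hhQ : Q h = 0 := by
          rw [hh, apply_add, apply_smul, hx.2, he.2, polar_smul_right', QuadraticMap.polar_comm (⇑Q) x e, hx.1]
          ring
        have hhP : h ∈ perp Q P := by
          refine mem_perp.2 fun w hw => ?_
          obtain ⟨s, t, rfl⟩ := Submodule.mem_span_pair.1 hw
          rw [polar_add_left', polar_smul_left', polar_smul_left', hh, polar_add_right', polar_add_right',
            polar_smul_right', polar_smul_right', hx.1, hee, hfe1]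
          ring
        refine ⟨⟨h, hhP, hhQ⟩, Subtype.ext ((Submodule.Quotient.eq U).2 ?_)⟩
        show h - x ∈ U
        rw [hh, add_sub_cancel_left]
        exact U.smul_mem _ heU
    obtain ⟨u, hu, huU, hfu⟩ := exists_fixed_mod_set (p := 2) hH hUstab S
      (hS ▸ ⟨QuadraticMap.polar_zero_right _ _, QuadraticMap.map_zero Q⟩)
      (fun g hg x hx => by
        rw [hS] at hx ⊢
        exact ⟨hperp g hg x hx.1, (OQ.map_apply (g : OQ Q) x).trans hx.2⟩)
      (by
        rw [← Nat.card_congr (Equiv.ofBijective _ hbij)]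
        refine even_iff_two_dvd.1 (even_card_singular hQ ?_)
        have h3 : Module.finrank F (perp Q P) = Module.finrank F V - Module.finrank F P :=
          LinearMap.BilinForm.finrank_orthogonal hQ P
        omega)
    rw [hS] at hu
    exact ⟨u, ⟨fun h0 => huU (h0 ▸ U.zero_mem), hu.2⟩, hu.1, huU, hfu⟩
  · let W3 : Submodule F V :=
      { carrier := {v | polar Q e v = 0 ∧ ∀ g ∈ H, omegaRep Q g v - v ∈ U}
        zero_mem' := ⟨QuadraticMap.polar_zero_right _ _, fun g _ => by rw [map_zero, sub_zero]; exact U.zero_mem⟩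
        add_mem' := fun {a b} ha hb => ⟨by rw [polar_add_right', ha.1, hb.1, add_zero], fun g hg => by
          rw [map_add, add_sub_add_comm]; exact U.add_mem (ha.2 g hg) (hb.2 g hg)⟩
        smul_mem' := fun c a ha => ⟨by rw [polar_smul_right', ha.1, mul_zero], fun g hg => by
          rw [map_smul, ← smul_sub]; exact U.smul_mem c (ha.2 g hg)⟩ }
    have heW3 : e ∈ W3 := ⟨hee, fun k hk => by rw [hfe k hk, sub_self]; exact U.zero_mem⟩
    have hW3 : ∀ g ∈ H, ∀ v ∈ W3, omegaRep Q g v ∈ W3 := by
      intro g hg v hv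
      have hd : omegaRep Q g v - v ∈ U := hv.2 g hg
      rw [hU] at hd
      obtain ⟨c, hc⟩ := Submodule.mem_span_singleton.1 hd
      have h3 := W3.add_mem (W3.smul_mem c heW3) hv
      rwa [hc, sub_add_cancel] at h3
    by_cases hX : perp Q W3 ≤ U
    · obtain ⟨u, hu0, hu, huP, -⟩ := exists_singular_perp hQ P (by omega)
      have hue : polar Q e u = 0 := huP e (Submodule.subset_span (Or.inl rfl))
      refine ⟨u, ⟨hu0, hu⟩, hue, fun h => hu0 (hUf u h (huP f (Submodule.subset_span (Or.inr rfl)))), ?_⟩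
      have hall : u ∈ W3 := by
        by_contra h
        obtain ⟨a, hua, haW⟩ := exists_sep_polar hQ h
        have ha : a ∈ U := hX (mem_perp.2 haW)
        rw [hU] at ha
        obtain ⟨c, rfl⟩ := Submodule.mem_span_singleton.1 ha
        rw [polar_smul_right', QuadraticMap.polar_comm, hue, mul_zero] at hua
        exact zero_ne_one hua
      exact hall.2
    · have hXinv : ∀ g ∈ H, ∀ x ∈ perp Q W3, omegaRep Q g x ∈ perp Q W3 := by
        intro g hg x hx
        refine mem_perp.2 fun w hw => ?_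
        rw [← mem_perp.1 hx _ (hW3 g⁻¹ (inv_mem hg) w hw)]
        conv_lhs => rw [← apply_inv_apply (ρ := omegaRep Q) g w]
        exact OQ.map_polar (g : OQ Q) _ x
      obtain ⟨u, hu, huU, hfu⟩ := exists_fixed_mod (p := p) hH hUstab hXinv hX
      have hue : polar Q e u = 0 := mem_perp.1 hu e heW3
      have huu : polar Q u u = 0 := mem_perp.1 hu u ⟨hue, hfu⟩
      rw [polar_self'] at huu
      exact ⟨u, ⟨fun h0 => huU (h0 ▸ U.zero_mem), (mul_eq_zero.1 huu).resolve_left h2⟩, hue, huU, hfu⟩

end Geometry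

section Groups

open CfsgLib.Known.AutPOmega

variable {F : Type*} [Field F] [Finite F] {p : ℕ} [Fact p.Prime] [CharP F p]

/-- The groups without triality. -/
theorem split_POm {V : Type*} [AddCommGroup V] [Module F V] [FiniteDimensional F V] {Q : QuadraticForm F V}
    (D : Big Q) (hT : NoTriality Q) [Finite (Om Q)] [IsSimpleGroup (POm Q)] : Split p (POm Q) := by
  haveI : Finite V := Module.finite_of_finite F
  haveI : Nontrivial V := Module.nontrivial_of_finrank_pos (R := F) (by have := D.seven; omega)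
  haveI : Finite (POm Q) := Quotient.finite _
  have hsc : ∀ z ∈ (pr Q).ker, ∃ a : F, ∀ v, omegaRep Q z v = a • v := fun z hz => by
    obtain ⟨c, -, hc⟩ := (center_Omega_iff D.nondeg D.five).1 (show z ∈ Subgroup.center (Om Q) by
      rwa [pr, QuotientGroup.ker_mk'] at hz)
    exact ⟨c, hc⟩
  refine split_of_geom (quadGeom D.nondeg) (pr Q) pr_surjective omegaRep_injective ?_ hsc (fun α => ?_)
    (fix_quad D.nondeg D.seven) (htr_quad D.nondeg D.seven) (sep_quad D.nondeg D.seven)
    (irred_quad D.nondeg D.seven) ?_ (line_quad D.nondeg D.seven)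
  · rw [pr, QuotientGroup.ker_mk']
    refine not_dvd_card_center (omegaRep Q) omegaRep_injective fun z hz => ?_
    obtain ⟨c, -, hc⟩ := (center_Omega_iff D.nondeg D.five).1 hz
    exact ⟨c, hc⟩
  · obtain ⟨S, rfl⟩ := exists_semi D hT α
    refine ⟨S.G.toAddMonoidHom, S.G.injective, fun c v => ⟨S.θ c, S.semilin c v⟩, fun x hx => ?_, fun g =>
      ⟨commRestrict _ S.conjO g, (S.aut_pr g).symm, fun v => ?_⟩⟩
    · refine ⟨fun h => hx.1 (S.G.injective (by rw [map_zero]; exact h)), ?_⟩
      show Q (S.G x) = 0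
      rw [S.quad, hx.2, map_zero, mul_zero]
    · exact (S.ac_aut g (S.G v)).trans (congrArg (fun w => S.G (ac g w)) (S.G.symm_apply_apply v))
  · obtain ⟨v, hv0, hv⟩ := exists_singular D.nondeg (by have := D.seven; omega)
    exact ⟨v, hv0, hv⟩

/-- The groups of the matrix forms. -/
theorem split_POmega {ι : Type} [Fintype ι] [DecidableEq ι] (Q : QuadraticForm F (ι → F)) (D : Big Q)
    (hT : NoTriality Q) : Split p (Cfsg.POmega F (⇑Q)) := by
  haveI : Finite (OQ Q) := Finite.of_equiv _ (oEquiv Q).toEquiv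
  haveI : Finite (POm Q) := Quotient.finite _
  haveI : Finite (Cfsg.POmega F (⇑Q)) := Finite.of_equiv _ (pOmegaEquiv Q).symm.toEquiv
  haveI : IsSimpleGroup (Cfsg.POmega F (⇑Q)) := isSimpleGroup_POmega D.nondeg (by
    have := D.seven
    rwa [Module.finrank_pi] at this)
  haveI : IsSimpleGroup (POm Q) := (pOmegaEquiv Q).symm.isSimpleGroup
  exact (split_POm D hT).of_equiv (pOmegaEquiv Q).symm

theorem split_POmega_odd {K : Type} [Field K] [Fintype K] [CharP K p] {m : ℕ} (hm : 3 ≤ m)
    (h2 : (2 : K) ≠ 0) : Split p (Cfsg.POmega K (Cfsg.quadFormOdd m K)) := by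
  obtain ⟨D, hT⟩ := big_qOdd (F := K) h2 hm
  rw [← coe_qOdd]
  exact split_POmega _ D hT

theorem split_POmega_plus {K : Type} [Field K] [Fintype K] [CharP K p] {m : ℕ} (hm : 4 ≤ m) :
    Split p (Cfsg.POmega K (Cfsg.quadFormPlus m K)) := by
  rcases eq_or_lt_of_le hm with rfl | h
  · obtain ⟨e⟩ := CfsgLib.Classical.ChevModel.D4.nonempty_equiv K
    haveI := (CfsgLib.Lie.Chev.chevRel CfsgLib.Lie.Chev.certD4 K).Finite_of_field
    exact (split_D4 (F := K) (p := p)).of_equiv e
  · obtain ⟨D, hT⟩ := big_qPlus (F := K) (m := m) h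
    rw [← coe_qPlus]
    exact split_POmega _ D hT

theorem split_POmega_minus {K : Type} [Field K] [Fintype K] [CharP K p] {m : ℕ}
    (hm : 4 ≤ m) {a b : K}
    (hab : ∀ z₁ z₂ : K, z₁ ^ 2 + a * z₁ * z₂ + b * z₂ ^ 2 = 0 → z₁ = 0 ∧ z₂ = 0) :
    Split p (Cfsg.POmega K (Cfsg.quadFormMinus (m - 1) K a b)) := by
  obtain ⟨D, hT⟩ := big_qMinus (F := K) (m := m - 1) (by omega) hab
  rw [← coe_qMinus]
  exact split_POmega _ D hT

end Groups

end CfsgLib.HallGen.PMinimal
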