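import Cfsg.Agent.Lib.HallGen.PMinimal.Basic
import Cfsg.Agent.Lib.HallGen.Overgroup.SmallA6

/-!
The alternating group of degree six at the prime two.
-/

set_option autoImplicit false

namespace CfsgLib.HallGen.PMinimal.A6

open Equiv

/-- A four cycle times a transposition, and a product of two transpositions. -/
def gens : List (Perm (Fin 6)) :=
  [swap 0 2 * swap 2 1 * swap 1 3 * swap 4 5, swap 0 1 * swap 4 5]

/-- The elements of the Sylow subgroup. -/
def elts : List (Perm (Fin 6)) :=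
  let a := swap (0 : Fin 6) 2 * swap 2 1 * swap 1 3 * swap 4 5
  let b := swap (0 : Fin 6) 1 * swap 4 5
  [1, b, a, a * b, a * a, a * a * b, a * a * a, a * a * a * b]

/-- The same elements as tables. -/
def tbl (i : Fin 8) (x : Fin 6) : Fin 6 :=
  (([[0, 1, 2, 3, 4, 5], [1, 0, 2, 3, 5, 4], [2, 3, 1, 0, 5, 4], [3, 2, 1, 0, 4, 5],
    [1, 0, 3, 2, 4, 5], [0, 1, 3, 2, 5, 4], [3, 2, 0, 1, 5, 4], [2, 3, 0, 1, 4, 5]] : List (List (Fin 6))).getD
      i.val []).getD x.val 0

theorem tbl_eq : ∀ (i : Fin 8) (x : Fin 6), elts.getD i.val 1 x = tbl i x := by decide +kernel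

/-- Fixing the last pair. -/
def inOne (g : Fin 6 → Fin 6) : Bool :=
  decide (4 ≤ (g 4).val) && decide (4 ≤ (g 5).val)

/-- The fixed-point-free involution. -/
def tw (x : Fin 6) : Fin 6 := [1, 0, 3, 2, 5, 4].getD x.val 0

/-- Permuting the three pairs. -/
def inTwo (g : Fin 6 → Fin 6) : Bool :=
  (List.finRange 6).all fun x => g (tw x) == tw (g x)

/-- Five, respectively three, iterations give the identity, one does not. -/
def ordFive (f : Fin 6 → Fin 6) : Bool :=
  ((List.finRange 6).all fun x => f (f (f (f (f x)))) == x) && ((List.finRange 6).any fun x => f x != x)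

/-- Three iterations give the identity, one does not. -/
def ordThree (f : Fin 6 → Fin 6) : Bool :=
  ((List.finRange 6).all fun x => f (f (f x)) == x) && ((List.finRange 6).any fun x => f x != x)

/-- Pairs of table indices producing an element of order five. -/
def pairsFive : List (Fin 8 × Fin 8) := [(0, 1), (2, 3), (4, 5), (6, 7), (0, 4)]

/-- Pairs of table indices producing an element of order three. -/
def pairsThree : List (Fin 8 × Fin 8) := [(0, 0), (2, 2), (4, 4), (1, 2), (1, 6), (1, 1), (5, 5), (0, 4)]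

/-- The condition on an element. -/
def good (g : Fin 6 → Fin 6) : Bool :=
  inOne g || inTwo g ||
    ((pairsFive.any fun q => ordFive fun x => g (tbl q.1 (g (tbl q.2 x)))) &&
      pairsThree.any fun q => ordThree fun x => g (tbl q.1 (g (tbl q.2 x))))

/-- A map from its values. -/
def tup (a b c d e f : Fin 6) (x : Fin 6) : Fin 6 := [a, b, c, d, e, f].getD x.val 0

/-- The checks over all injective maps. -/
def allGood : Bool :=
  (List.finRange 6).all fun a => (List.finRange 6).all fun b => b == a ||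
    (List.finRange 6).all fun c => c == a || c == b ||
      (List.finRange 6).all fun d => d == a || d == b || d == c ||
        (List.finRange 6).all fun e => e == a || e == b || e == c || e == d ||
          (List.finRange 6).all fun f => f == a || f == b || f == c || f == d || f == e ||
            good (tup a b c d e f)

set_option maxHeartbeats 4000000 in
theorem allGood_ok : allGood = true := by decide +kernel

theorem good_all (g : Perm (Fin 6)) : good g = true := by
  have h := allGood_ok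
  simp only [allGood, List.all_eq_true, List.mem_finRange, forall_const, Bool.or_eq_true, beq_iff_eq,
    EmbeddingLike.apply_eq_iff_eq] at h
  have h' := h (g 0) (g 1)
  simp only [EmbeddingLike.apply_eq_iff_eq, show ((1 : Fin 6) = 0) = False from eq_false (by decide), false_or] at h'
  have h1 := h' (g 2)
  simp only [EmbeddingLike.apply_eq_iff_eq, show ((2 : Fin 6) = 0) = False from eq_false (by decide),
    show ((2 : Fin 6) = 1) = False from eq_false (by decide), false_or] at h1
  have h2 := h1 (g 3)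
  simp only [EmbeddingLike.apply_eq_iff_eq, show ((3 : Fin 6) = 0) = False from eq_false (by decide),
    show ((3 : Fin 6) = 1) = False from eq_false (by decide), show ((3 : Fin 6) = 2) = False from eq_false (by decide),
    false_or] at h2
  have h3 := h2 (g 4)
  simp only [EmbeddingLike.apply_eq_iff_eq, Fin.reduceEq, false_or] at h3
  have h4 := h3 (g 5)
  simp only [EmbeddingLike.apply_eq_iff_eq, Fin.reduceEq, false_or] at h4
  have e : tup (g 0) (g 1) (g 2) (g 3) (g 4) (g 5) = g := funext fun x => by fin_cases x <;> rfl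
  rwa [e] at h4

/-- Elements of either subgroup normalising the Sylow subgroup lie in it. -/
def goodNorm (g : Perm (Fin 6)) : Bool :=
  (inOne g && inTwo g) || !(inOne g || inTwo g) ||
    gens.any fun a => !(inOne ⇑(g * a * g⁻¹ : Perm (Fin 6)) && inTwo ⇑(g * a * g⁻¹ : Perm (Fin 6)))

set_option maxHeartbeats 4000000 in
theorem goodNorm_all : ∀ g : Perm (Fin 6), goodNorm g = true := by decide +kernel

/-- Membership of the Sylow subgroup, up to a transposition. -/
def goodCap (g : Perm (Fin 6)) : Bool :=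
  !(inOne g && inTwo g) || elts.contains g || elts.contains (g * swap 4 5)

set_option maxHeartbeats 4000000 in
theorem goodCap_all : ∀ g : Perm (Fin 6), goodCap g = true := by decide +kernel

theorem elts_spec : ((elts.all fun u => inOne u && inTwo u && decide (Equiv.Perm.sign u = 1)) &&
    decide elts.Nodup && decide (elts.length = 8) && (gens.all fun u => elts.contains u)) = true := by
  decide +kernel

theorem inOne_iff {g : Perm (Fin 6)} : inOne g = true ↔ ∀ x : Fin 6, 4 ≤ x.val → 4 ≤ (g x).val := by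
  simp only [inOne, Bool.and_eq_true, decide_eq_true_iff]
  constructor
  · intro h x hx
    rcases (show x = 4 ∨ x = 5 by omega) with rfl | rfl
    exacts [h.1, h.2]
  · exact fun h => ⟨h 4 le_rfl, h 5 (by decide)⟩

theorem inTwo_iff {g : Perm (Fin 6)} : inTwo g = true ↔ ∀ x : Fin 6, g (tw x) = tw (g x) := by
  simp [inTwo]

/-- Fixing the last pair, as a subgroup. -/
def grpOne : Subgroup (Perm (Fin 6)) where
  carrier := {g | inOne g = true}
  one_mem' := inOne_iff.2 fun _ h => h
  mul_mem' ha hb := inOne_iff.2 fun x hx => inOne_iff.1 ha _ (inOne_iff.1 hb x hx)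
  inv_mem' {g} hg := inOne_iff.2 fun x hx => by
    have h := inOne_iff.1 hg
    have h4 := h 4 le_rfl
    have h5 := h 5 (by decide)
    have hne : g 4 ≠ g 5 := fun e => absurd (g.injective e) (by decide)
    have hx' : x = g 4 ∨ x = g 5 := by
      rw [Fin.ext_iff, Fin.ext_iff]
      rw [Ne, Fin.ext_iff] at hne
      omega
    rcases hx' with rfl | rfl
    · rw [show g⁻¹ (g _) = _ from g.symm_apply_apply _]
      exact le_rfl
    · rw [show g⁻¹ (g _) = _ from g.symm_apply_apply _]
      decide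

/-- Permuting the three pairs, as a subgroup. -/
def grpTwo : Subgroup (Perm (Fin 6)) where
  carrier := {g | inTwo g = true}
  one_mem' := inTwo_iff.2 fun _ => rfl
  mul_mem' {a b} ha hb := inTwo_iff.2 fun x => by
    rw [Perm.mul_apply, Perm.mul_apply, inTwo_iff.1 hb, inTwo_iff.1 ha]
  inv_mem' {g} hg := inTwo_iff.2 fun x => by
    apply g.injective
    rw [inTwo_iff.1 hg]
    simp

theorem mem_grpOne {g : Perm (Fin 6)} : g ∈ grpOne ↔ inOne g = true := Iff.rfl

theorem mem_grpTwo {g : Perm (Fin 6)} : g ∈ grpTwo ↔ inTwo g = true := Iff.rfl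

theorem rankTwo_A6 [Fact (Nat.Prime 2)] : RankTwo 2 ↥(alternatingGroup (Fin 6)) := by
  haveI : IsSimpleGroup ↥(alternatingGroup (Fin 6)) := alternatingGroup.isSimpleGroup (by simp)
  have hG : Nat.card ↥(alternatingGroup (Fin 6)) = 360 := by
    rw [nat_card_alternatingGroup, Nat.card_fin]
    norm_num [Nat.factorial]
  have hspec := elts_spec
  simp only [Bool.and_eq_true, List.all_eq_true, decide_eq_true_iff, List.contains_iff] at hspec
  obtain ⟨⟨⟨helts, hnd⟩, hlen⟩, hgens⟩ := hspec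
  obtain ⟨Q₁, hQ₁⟩ : ∃ Q, Q = grpOne.subgroupOf (alternatingGroup (Fin 6)) := ⟨_, rfl⟩
  obtain ⟨Q₂, hQ₂⟩ : ∃ Q, Q = grpTwo.subgroupOf (alternatingGroup (Fin 6)) := ⟨_, rfl⟩
  have hm₁ : ∀ g : ↥(alternatingGroup (Fin 6)), g ∈ Q₁ ↔ inOne (g : Perm (Fin 6)) = true := fun g => by
    rw [hQ₁]; rfl
  have hm₂ : ∀ g : ↥(alternatingGroup (Fin 6)), g ∈ Q₂ ↔ inTwo (g : Perm (Fin 6)) = true := fun g => by
    rw [hQ₂]; rfl
  have heA : ∀ u ∈ elts, u ∈ alternatingGroup (Fin 6) := fun u hu => Perm.mem_alternatingGroup.2 (helts u hu).2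
  have hset : ((Q₁ ⊓ Q₂).map (alternatingGroup (Fin 6)).subtype : Set (Perm (Fin 6))) = elts.toFinset := by
    ext g
    rw [List.coe_toFinset]
    constructor
    · rintro ⟨⟨g, hgA⟩, ⟨h1, h2⟩, rfl⟩
      have h := goodCap_all g
      simp only [goodCap, Bool.or_eq_true, Bool.not_eq_true', List.contains_iff] at h
      rcases h with (h | h) | h
      · rw [(hm₁ _).1 h1, (hm₂ _).1 h2] at h
        simp at h
      · exact h
      · exfalso
        have h3 := (helts _ h).2
        rw [map_mul, Perm.mem_alternatingGroup.1 hgA, Perm.sign_swap (by decide), one_mul] at h3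
        exact absurd h3 (by decide)
    · intro hg
      exact ⟨⟨g, heA g hg⟩, ⟨(hm₁ _).2 (helts g hg).1.1, (hm₂ _).2 (helts g hg).1.2⟩, rfl⟩
  have hcard : Nat.card ↥(Q₁ ⊓ Q₂) = 2 ^ 3 := by
    rw [← Subgroup.card_map_of_injective (alternatingGroup (Fin 6)).subtype_injective]
    refine (Nat.card_coe_set_eq _).trans ?_
    rw [hset, Set.ncard_coe_finset, List.toFinset_card_of_nodup hnd, hlen]
    norm_num
  have hidx : ¬ 2 ∣ (Q₁ ⊓ Q₂).index := by
    have h := (Q₁ ⊓ Q₂).card_mul_index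
    rw [hcard, hG] at h
    omega
  have hmemU : ∀ i : Fin 8, ∃ u ∈ Q₁ ⊓ Q₂, ∀ x : Fin 6, (u : Perm (Fin 6)) x = tbl i x := by
    intro i
    have hi : i.val < elts.length := hlen.symm ▸ i.isLt
    have hmem : elts.getD i.val 1 ∈ elts := by
      rw [List.getD_eq_getElem _ _ hi]
      exact List.getElem_mem hi
    exact ⟨⟨_, heA _ hmem⟩, ⟨(hm₁ _).2 (helts _ hmem).1.1, (hm₂ _).2 (helts _ hmem).1.2⟩, tbl_eq i⟩
  have hpair : ∀ Y : Subgroup ↥(alternatingGroup (Fin 6)), Q₁ ⊓ Q₂ ≤ Y → Y ≠ ⊤ → Y ≤ Q₁ ∨ Y ≤ Q₂ := by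
    intro Y hY hne
    by_contra hc
    rw [not_or] at hc
    obtain ⟨a, ha, ha'⟩ := SetLike.not_le_iff_exists.1 hc.1
    obtain ⟨b, hb, hb'⟩ := SetLike.not_le_iff_exists.1 hc.2
    obtain ⟨y, hy, hy1, hy2⟩ : ∃ y ∈ Y, y ∉ Q₁ ∧ y ∉ Q₂ := by
      by_cases h1 : a ∈ Q₂
      · by_cases h2 : b ∈ Q₁
        · exact ⟨a * b, mul_mem ha hb, fun h => ha' ((Subgroup.mul_mem_cancel_right _ h2).1 h),
            fun h => hb' ((Subgroup.mul_mem_cancel_left _ h1).1 h)⟩
        · exact ⟨b, hb, h2, hb'⟩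
      · exact ⟨a, ha, ha', h1⟩
    have h := good_all (y : Perm (Fin 6))
    rw [hm₁] at hy1
    rw [hm₂] at hy2
    simp only [good, hy1, hy2, Bool.false_or, Bool.and_eq_true, List.any_eq_true] at h
    obtain ⟨⟨q, -, h5⟩, ⟨r, -, h3⟩⟩ := h
    have hword : ∀ q : Fin 8 × Fin 8, ∃ z ∈ Y, ∀ x : Fin 6,
        (z : Perm (Fin 6)) x = (y : Perm (Fin 6)) (tbl q.1 ((y : Perm (Fin 6)) (tbl q.2 x))) := by
      intro q
      obtain ⟨u, hu, hu'⟩ := hmemU q.1
      obtain ⟨v, hv, hv'⟩ := hmemU q.2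
      exact ⟨y * (u * (y * v)), mul_mem hy (mul_mem (hY hu) (mul_mem hy (hY hv))), fun x => by
        rw [← hv', ← hu']; rfl⟩
    obtain ⟨z, hz, hz'⟩ := hword q
    obtain ⟨w, hw, hw'⟩ := hword r
    simp only [ordFive, ← hz', Bool.and_eq_true, List.all_eq_true, List.any_eq_true, List.mem_finRange,
      forall_const, true_and, beq_iff_eq, bne_iff_ne] at h5
    simp only [ordThree, ← hw', Bool.and_eq_true, List.all_eq_true, List.any_eq_true, List.mem_finRange,
      forall_const, true_and, beq_iff_eq, bne_iff_ne] at h3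
    haveI : Fact (Nat.Prime 5) := ⟨by norm_num⟩
    haveI : Fact (Nat.Prime 3) := ⟨Nat.prime_three⟩
    have ho5 : orderOf z = 5 := orderOf_eq_prime (Subtype.ext (Equiv.ext h5.1)) fun e => by
      obtain ⟨x, hx⟩ := h5.2
      rw [e] at hx
      exact hx rfl
    have ho3 : orderOf w = 3 := orderOf_eq_prime (Subtype.ext (Equiv.ext h3.1)) fun e => by
      obtain ⟨x, hx⟩ := h3.2
      rw [e] at hx
      exact hx rfl
    have d5 : 5 ∣ Nat.card Y := ho5 ▸ Subgroup.orderOf_dvd_natCard Y hz
    have d3 : 3 ∣ Nat.card Y := ho3 ▸ Subgroup.orderOf_dvd_natCard Y hw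
    have d8 : 8 ∣ Nat.card Y := by
      have := Subgroup.card_dvd_of_le hY
      rwa [hcard] at this
    have d120 : 120 ∣ Nat.card Y :=
      Nat.Coprime.mul_dvd_of_dvd_of_dvd (by norm_num : Nat.Coprime 24 5)
        (Nat.Coprime.mul_dvd_of_dvd_of_dvd (by norm_num : Nat.Coprime 8 3) d8 d3) d5
    obtain ⟨k, hk⟩ := d120
    have hmul := Y.card_mul_index
    rw [hk, hG] at hmul
    have hk3 : k * Y.index = 3 := by
      rw [mul_assoc] at hmul
      omega
    have hd : Y.index ∣ 3 := ⟨k, by rw [← hk3, mul_comm]⟩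
    rcases (Nat.dvd_prime Nat.prime_three).1 hd with h | h
    · exact hne (Subgroup.index_eq_one.1 h)
    · have hf := CfsgLib.HallGen.Overgroup.card_dvd_factorial_index hne
      rw [hG, h] at hf
      norm_num [Nat.factorial] at hf
  have w₁ : ∃ g, g ∈ Q₁ ∧ g ∉ Q₂ := ⟨⟨swap 0 1 * swap 1 2, Perm.mem_alternatingGroup.2 (by decide +kernel)⟩,
    (hm₁ _).2 (by decide +kernel), fun h => absurd ((hm₂ _).1 h) (by decide +kernel)⟩
  have w₂ : ∃ g, g ∈ Q₂ ∧ g ∉ Q₁ := ⟨⟨swap 0 2 * swap 2 4 * (swap 1 3 * swap 3 5), Perm.mem_alternatingGroup.2 (by decide +kernel)⟩,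
    (hm₂ _).2 (by decide +kernel), fun h => absurd ((hm₁ _).1 h) (by decide +kernel)⟩
  obtain ⟨g₁, hg₁, hg₁'⟩ := w₁
  obtain ⟨g₂, hg₂, hg₂'⟩ := w₂
  have hne₁ : Q₁ ≠ ⊤ := fun h => hg₂' (h ▸ Subgroup.mem_top _)
  have hne₂ : Q₂ ≠ ⊤ := fun h => hg₁' (h ▸ Subgroup.mem_top _)
  refine ⟨(IsPGroup.of_card hcard).toSylow hidx, Q₁, Q₂, hne₁, hne₂, ?_, ?_, fun Y hY => hpair Y (le_trans Subgroup.le_normalizer hY)⟩
  · by_contra h
    rcases hpair _ (inf_le_left.trans le_sup_left) h with h1 | h1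
    · exact hg₂' (h1 (Subgroup.mem_sup_right hg₂))
    · exact hg₁' (h1 (Subgroup.mem_sup_left hg₁))
  · refine le_antisymm Subgroup.le_normalizer fun g hg => ?_
    change g ∈ Subgroup.normalizer ((Q₁ ⊓ Q₂ : Subgroup ↥(alternatingGroup (Fin 6))) : Set ↥(alternatingGroup (Fin 6))) at hg
    have hNne : Subgroup.normalizer ((Q₁ ⊓ Q₂ : Subgroup ↥(alternatingGroup (Fin 6))) : Set ↥(alternatingGroup (Fin 6))) ≠ ⊤ := by
      intro h
      haveI hN : (Q₁ ⊓ Q₂).Normal := Subgroup.normalizer_eq_top_iff.1 h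
      rcases hN.eq_bot_or_eq_top with h1 | h1
      · rw [h1, Subgroup.card_bot] at hcard
        norm_num at hcard
      · exact hne₁ (top_le_iff.1 (h1 ▸ inf_le_left))
    have hor : inOne (g : Perm (Fin 6)) = true ∨ inTwo (g : Perm (Fin 6)) = true :=
      (hpair _ Subgroup.le_normalizer hNne).imp (fun h => (hm₁ _).1 (h hg)) fun h => (hm₂ _).1 (h hg)
    have h := goodNorm_all (g : Perm (Fin 6))
    simp only [goodNorm, Bool.or_eq_true, Bool.and_eq_true, Bool.not_eq_true', List.any_eq_true] at h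
    rcases h with (h | h) | ⟨a, ha, h⟩
    · exact ⟨(hm₁ _).2 h.1, (hm₂ _).2 h.2⟩
    · rcases hor with h' | h' <;> simp [h'] at h
    · exfalso
      have haU : (⟨a, heA _ (hgens a ha)⟩ : ↥(alternatingGroup (Fin 6))) ∈ Q₁ ⊓ Q₂ :=
        ⟨(hm₁ _).2 (helts _ (hgens a ha)).1.1, (hm₂ _).2 (helts _ (hgens a ha)).1.2⟩
      obtain ⟨h1, h2⟩ := (Subgroup.mem_normalizer_iff.1 hg _).1 haU
      replace h1 := (hm₁ _).1 h1
      replace h2 := (hm₂ _).1 h2
      simp only [Subgroup.coe_mul, Subgroup.coe_inv] at h1 h2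
      rw [h1, h2] at h
      simp at h

end CfsgLib.HallGen.PMinimal.A6
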