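import Cfsg.Agent.Lib.HallGen.PMinimal.Basic
import Cfsg.Agent.Lib.HallGen.Overgroup.SmallA6

/-!
The normaliser of a Sylow three-subgroup in the simple group of order 504 is maximal.
-/

set_option autoImplicit false

namespace CfsgLib.HallGen.PMinimal

open CfsgLib.HallGen.Overgroup

theorem rankOne_card_504 {G : Type*} [Group G] [Finite G] [IsSimpleGroup G] (hG : Nat.card G = 504)
    [Fact (Nat.Prime 3)] {x : G} (h9 : x ^ 9 = 1) (h3 : x ^ 3 ≠ 1) : RankOne 3 G := by
  obtain ⟨U⟩ : Nonempty (Sylow 3 G) := inferInstance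
  obtain ⟨N, hN⟩ : ∃ N, N = Subgroup.normalizer ((U : Subgroup G) : Set G) := ⟨_, rfl⟩
  have hbig : ∀ M : Subgroup G, M ≠ ⊤ → 9 ≤ M.index := by
    intro M hM
    let f := MulAction.toPermHom G (G ⧸ M)
    have hker : f.ker = ⊥ := by
      refine (f.normal_ker.eq_bot_or_eq_top).resolve_right fun h => hM ?_
      rw [← Subgroup.normalCore_eq_ker] at h
      exact top_le_iff.1 (h ▸ M.normalCore_le)
    have hinj : Function.Injective f := (MonoidHom.ker_eq_bot_iff f).1 hker
    rw [Subgroup.index_eq_card]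
    exact nine_le_card (f x) (by rw [← map_pow, h9, map_one]) fun h => h3 (hinj (by rw [map_pow, h, map_one]))
  have hcs : Nat.card (Sylow 3 G) = N.index := by rw [hN]; exact U.card_eq_index_normalizer
  have hne : N ≠ ⊤ := by
    intro h
    refine card_sylow_ne_one (G := G) (q := 3) (by rw [hG]; norm_num) (fun k hk => ?_) ?_
    · have h2 : 2 ∣ 3 ^ k := hk ▸ hG ▸ (by norm_num)
      exact absurd (Nat.prime_two.dvd_of_dvd_pow h2) (by norm_num)
    · rw [hcs, h, Subgroup.index_top]
  have hidx : N.index = 28 := by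
    have hd : N.index ∣ 56 := by
      rw [← hcs]
      exact card_sylow_dvd (p := 3) (a := 2) (k := 56) (by rw [hG]; norm_num) (by norm_num)
    have hm : N.index % 3 = 1 := by
      rw [← hcs]
      exact card_sylow_modEq_one 3 G
    have h9' := hbig N hne
    have : N.index ∈ Nat.divisors 56 := Nat.mem_divisors.2 ⟨hd, by norm_num⟩
    rw [show Nat.divisors 56 = {1, 2, 4, 7, 8, 14, 28, 56} from by decide] at this
    simp only [Finset.mem_insert, Finset.mem_singleton] at this
    omega
  refine ⟨U, ?_⟩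
  rw [← hN]
  refine ⟨hne, fun M hM => ?_⟩
  by_contra hMne
  have h9' := hbig M hMne
  have hd := Subgroup.index_dvd_of_le hM.le
  have hlt := Subgroup.index_strictAnti hM
  rw [hidx] at hd hlt
  have h14 : M.index = 14 := by
    have : M.index ∈ Nat.divisors 28 := Nat.mem_divisors.2 ⟨hd, by norm_num⟩
    rw [show Nat.divisors 28 = {1, 2, 4, 7, 14, 28} from by decide] at this
    simp only [Finset.mem_insert, Finset.mem_singleton] at this
    omega
  have h2 : (N.subgroupOf M).index = 2 := by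
    have h := Subgroup.relIndex_mul_index hM.le
    rw [hidx, h14] at h
    rw [← Subgroup.relIndex]
    omega
  haveI : (N.subgroupOf M).Normal := Subgroup.normal_of_index_eq_two h2
  obtain ⟨m, hm, hmN⟩ := SetLike.exists_of_lt hM
  refine hmN ?_
  rw [hN]
  refine Sylow.smul_eq_iff_mem_normalizer.1 (Sylow.ext ?_)
  have hconj : ∀ u ∈ (U : Subgroup G), m * u * m⁻¹ ∈ N := by
    intro u hu
    have huN : u ∈ N := hN ▸ Subgroup.le_normalizer hu
    exact Subgroup.Normal.conj_mem (inferInstance : (N.subgroupOf M).Normal) ⟨u, hM.le huN⟩ huN ⟨m, hm⟩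
  have hle : ((m • U : Sylow 3 G) : Subgroup G) ≤ N := by
    rintro _ ⟨u, hu, rfl⟩
    exact hconj u hu
  have hp : IsPGroup 3 ↥(((m • U : Sylow 3 G) : Subgroup G) ⊔ (U : Subgroup G)) :=
    (m • U).isPGroup'.to_sup_of_normal_right' U.isPGroup' (hN ▸ hle)
  exact le_antisymm (le_sup_left.trans (U.is_maximal' hp le_sup_right).le)
    (le_sup_right.trans ((m • U).is_maximal' hp le_sup_left).le)

/-- An element of order nine. -/
theorem exists_nine {F : Type} [Field F] [Fintype F] (hF : Fintype.card F = 8) :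
    ∃ x : Matrix.ProjectiveSpecialLinearGroup (Fin 2) F, x ^ 9 = 1 ∧ x ^ 3 ≠ 1 := by
  haveI : CharP F 2 := by
    obtain ⟨n, hp, hn⟩ := FiniteField.card F (ringChar F)
    have h : ringChar F = 2 := by
      have h1 : ringChar F ∣ 2 ^ 3 := by norm_num; rw [← hF, hn]; exact dvd_pow_self _ n.2.ne'
      exact (Nat.prime_dvd_prime_iff_eq hp Nat.prime_two).1 (hp.dvd_of_dvd_pow h1)
    rw [← h]; infer_instance
  have h2 : (2 : F) = 0 := CharTwo.two_eq_zero
  obtain ⟨t, ht⟩ : ∃ t : F, t ^ 3 + t + 1 = 0 := by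
    classical
    obtain ⟨a, ha⟩ : ∃ a : F, a ∉ ({0, 1} : Finset F) := by
      by_contra hc
      push Not at hc
      have := (Finset.card_le_card (fun a _ => hc a : (Finset.univ : Finset F) ⊆ {0, 1})).trans Finset.card_le_two
      rw [Finset.card_univ, hF] at this
      omega
    simp only [Finset.mem_insert, Finset.mem_singleton, not_or] at ha
    have h7 := FiniteField.pow_card_sub_one_eq_one a ha.1
    rw [hF] at h7
    have e : (a - 1) * ((a ^ 3 + a + 1) * (a ^ 3 + a ^ 2 + 1)) = 0 := by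
      linear_combination h7 + (a ^ 4 - a ^ 3) * h2
    rcases mul_eq_zero.1 e with e | e
    · exact absurd (sub_eq_zero.1 e) ha.2
    rcases mul_eq_zero.1 e with e | e
    · exact ⟨a, e⟩
    · refine ⟨a⁻¹, ?_⟩
      field_simp [ha.1]
      linear_combination e
  let x : Matrix.SpecialLinearGroup (Fin 2) F := ⟨!![0, 1; 1, t], by
    rw [Matrix.det_fin_two_of]; linear_combination -h2⟩
  let Y : Matrix (Fin 2) (Fin 2) F := !![t, t ^ 2 + 1; t ^ 2 + 1, t + 1]
  have hx3 : (x.1) ^ 3 = Y := by
    show (!![0, 1; 1, t] : Matrix (Fin 2) (Fin 2) F) ^ 3 = _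
    rw [pow_three]
    ext i j
    fin_cases i <;> fin_cases j <;> simp [Y, Matrix.mul_apply, Fin.sum_univ_two] <;>
      first | ring1 | linear_combination ht - h2
  have hYY : Y * Y = Y + 1 := by
    ext i j
    fin_cases i <;> fin_cases j <;> simp [Y, Matrix.mul_apply, Fin.sum_univ_two]
    · linear_combination t * ht + (t ^ 2 - t) * h2
    · linear_combination (t ^ 3 + t) * h2
    · linear_combination (t ^ 3 + t) * h2
    · linear_combination t * ht + t ^ 2 * h2
  have hY3 : Y ^ 3 = 1 := by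
    rw [pow_three, hYY, mul_add, hYY, mul_one, add_comm Y 1, add_assoc, CharTwo.add_self_eq_zero,
      add_zero]
  have hx9 : x ^ 9 = 1 := Subtype.ext (by
    rw [Matrix.SpecialLinearGroup.coe_pow, show 9 = 3 * 3 from rfl, pow_mul, hx3, hY3]; rfl)
  refine ⟨(x : Matrix.ProjectiveSpecialLinearGroup (Fin 2) F), ?_, fun h => ?_⟩
  · rw [← QuotientGroup.mk_pow, hx9]; rfl
  · rw [← QuotientGroup.mk_pow, QuotientGroup.eq_one_iff] at h
    obtain ⟨r, -, hr⟩ := Matrix.SpecialLinearGroup.mem_center_iff.1 h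
    have h1 := congrFun (congrFun hr 0) 1
    rw [Matrix.SpecialLinearGroup.coe_pow, hx3] at h1
    simp [Y] at h1
    have ht1 : t = 1 := by
      have h0 : (t - 1) ^ 2 = 0 := by linear_combination -h1 - t * h2
      exact sub_eq_zero.1 (pow_eq_zero_iff'.1 h0).1
    rw [ht1] at ht
    exact one_ne_zero (α := F) (by linear_combination ht - h2)

end CfsgLib.HallGen.PMinimal
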