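import Cfsg.Agent.Lib.HallGen.PMinimal.Unitary
import Cfsg.Agent.Lib.Classical.Unitary.Two

/-!
`PSU(3, 3)` at the prime two: the stabiliser of a nonsingular point and of an orthonormal frame.
-/

set_option autoImplicit false

namespace CfsgLib.HallGen.PMinimal.UThree

open Matrix
open CfsgLib.HallGen.Overgroup CfsgLib.Blocks.DefectLie
open CfsgLib.Classical.Herm

variable {F : Type*} [Field F] [Fintype F]

/-- The coordinate vectors. -/
def ax (i : Fin 3) : Fin 3 → F := Pi.single i 1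

omit [Fintype F] in
theorem mem_span_ax {i : Fin 3} {v : Fin 3 → F} :
    v ∈ Submodule.span F {ax i} ↔ ∀ j, j ≠ i → v j = 0 := by
  rw [Submodule.mem_span_singleton]
  constructor
  · rintro ⟨c, rfl⟩ j hj
    simp [ax, hj]
  · intro h
    refine ⟨v i, funext fun j => ?_⟩
    rcases eq_or_ne j i with rfl | hj
    · simp [ax]
    · simp [ax, hj, h j hj]

omit [Fintype F] in
theorem ax_eigen {i j : Fin 3} {v : Fin 3 → F} (hv : v ∈ Submodule.span F {ax i}) (hj : v j ≠ 0) : j = i := by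
  by_contra h
  exact hj (mem_span_ax.1 hv j h)

variable {q : ℕ}

theorem hermStd_ax (hF : Fintype.card F = q ^ 2) (u : Fin 3 → F) (i : Fin 3) :
    hermStd 3 hF u (ax i) = u i ^ q := by
  rw [hermStd_apply]
  simp [Cfsg.hermForm, ax, Pi.single_apply]

theorem hermStd_three (hF : Fintype.card F = q ^ 2) (u v : Fin 3 → F) :
    hermStd 3 hF u v = v 0 * u 0 ^ q + v 1 * u 1 ^ q + v 2 * u 2 ^ q := by
  rw [hermStd_apply, Cfsg.hermForm, Fin.sum_univ_three]

theorem exists_of_matrix (hF : Fintype.card F = q ^ 2) (A : Matrix (Fin 3) (Fin 3) F) (hd : A.det = 1)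
    (hA : ∀ u v, Cfsg.hermForm 3 F q (A *ᵥ u) (A *ᵥ v) = Cfsg.hermForm 3 F q u v) :
    ∃ g : HSU (hermStd 3 hF), ∀ v, suRep (hermStd 3 hF) g v = A *ᵥ v :=
  ⟨suEquiv 3 hF ⟨⟨A, hd⟩, fun u v => hA u v⟩, fun v => suEquiv_apply hF _ v⟩

/-- The facts on the scalars. -/
theorem field_facts (h9 : Fintype.card F = 9) :
    (3 : F) = 0 ∧ (2 : F) ≠ 0 ∧ (∀ a : F, a ^ 9 = a) ∧ ∃ z : F, z * z = -1 := by
  haveI : Fact (Nat.Prime 3) := ⟨Nat.prime_three⟩
  haveI : CharP F 3 := charP_of_card_eq_prime_pow (show Fintype.card F = 3 ^ 2 from h9)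
  refine ⟨CharP.cast_eq_zero F 3, fun h => ?_, fun a => h9 ▸ FiniteField.pow_card a, ?_⟩
  · have := (CharP.cast_eq_zero_iff F 3 2).1 h
    omega
  · obtain ⟨z, hz⟩ := FiniteField.isSquare_neg_one_iff.2 (by rw [h9]; decide : Fintype.card F % 4 ≠ 3)
    exact ⟨z, hz.symm⟩

section Model

variable (hF : Fintype.card F = 3 ^ 2)

/-- The stabiliser of the last axis. -/
noncomputable def ptSub : Subgroup (HSU (hermStd 3 hF)) :=
  stab (suRep (hermStd 3 hF)) (Submodule.span F {ax 2})

theorem mem_ptSub {g : HSU (hermStd 3 hF)} :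
    g ∈ ptSub hF ↔ suRep (hermStd 3 hF) g (ax 2) ∈ Submodule.span F {ax 2} := by
  constructor
  · exact fun h => (h (ax 2)).2 (Submodule.mem_span_singleton_self _)
  · haveI : Finite (Fin 3 → F) := Module.finite_of_finite F
    exact mem_stab_point

/-- Permuting the axes. -/
def Frame (g : HSU (hermStd 3 hF)) : Prop :=
  ∀ i, ∃ j, suRep (hermStd 3 hF) g (ax i) ∈ Submodule.span F {(ax j : Fin 3 → F)}

theorem frame_mul {g h : HSU (hermStd 3 hF)} (hg : Frame hF g) (hh : Frame hF h) : Frame hF (g * h) := by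
  intro i
  obtain ⟨j, hj⟩ := hh i
  obtain ⟨k, hk⟩ := hg j
  obtain ⟨c, hc⟩ := Submodule.mem_span_singleton.1 hj
  refine ⟨k, ?_⟩
  rw [map_mul, LinearEquiv.mul_apply, ← hc, map_smul]
  exact Submodule.smul_mem _ _ hk

/-- The stabiliser of the frame. -/
noncomputable def frSub : Subgroup (HSU (hermStd 3 hF)) where
  carrier := {g | Frame hF g}
  one_mem' i := ⟨i, by rw [map_one]; exact Submodule.mem_span_singleton_self _⟩
  mul_mem' ha hb := frame_mul hF ha hb
  inv_mem' {g} hg := by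
    haveI : Finite (HSU (hermStd 3 hF)) := Finite.of_equiv _ (suEquiv 3 hF).toEquiv
    rw [inv_eq_of_mul_eq_one_right (b := g ^ (orderOf g - 1))
      (by rw [← pow_succ', Nat.sub_add_cancel (orderOf_pos g), pow_orderOf_eq_one])]
    show Frame hF (g ^ (orderOf g - 1))
    induction orderOf g - 1 with
    | zero => exact fun i => ⟨i, by rw [pow_zero, map_one]; exact Submodule.mem_span_singleton_self _⟩
    | succ k ih => rw [pow_succ]; exact frame_mul hF ih hg

theorem mem_frSub {g : HSU (hermStd 3 hF)} : g ∈ frSub hF ↔ Frame hF g := Iff.rfl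

/-- The Sylow subgroup. -/
noncomputable def sylU : Subgroup (HSU (hermStd 3 hF)) := ptSub hF ⊓ frSub hF

/-- The square of an element of the Sylow subgroup fixes every axis. -/
theorem sq_fix {g : HSU (hermStd 3 hF)} (hg : g ∈ sylU hF) (i : Fin 3) :
    suRep (hermStd 3 hF) (g ^ 2) (ax i) ∈ Submodule.span F {(ax i : Fin 3 → F)} := by
  choose π hπ using (mem_frSub hF).1 hg.2
  have h2 := (mem_ptSub hF).1 hg.1
  have hne : ∀ j, suRep (hermStd 3 hF) g (ax j) ≠ 0 := fun j h => by
    have h1 := congrFun ((suRep (hermStd 3 hF) g).injective (h.trans (map_zero _).symm)) j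
    simp [ax] at h1
  have hinj : Function.Injective π := by
    intro a b e
    obtain ⟨c, hc⟩ := Submodule.mem_span_singleton.1 (hπ a)
    obtain ⟨d, hd⟩ := Submodule.mem_span_singleton.1 (hπ b)
    have h1 : d • suRep (hermStd 3 hF) g (ax a) = c • suRep (hermStd 3 hF) g (ax b) := by
      rw [← hc, ← hd, e, smul_comm]
    rw [← map_smul, ← map_smul] at h1
    have h3 := congrFun ((suRep (hermStd 3 hF) g).injective h1) a
    by_contra hab
    simp [ax, hab] at h3
    exact hne b (by rw [← hd, h3, zero_smul])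
  have hπ2 : π 2 = 2 := by
    obtain ⟨j, hj⟩ := Function.ne_iff.1 (hne 2)
    exact (ax_eigen (hπ 2) hj).symm.trans (ax_eigen h2 hj)
  have hpp : π (π i) = i := by
    have key : ∀ a b c : Fin 3, a ≠ b → a ≠ c → b ≠ c → c = 2 → ∀ i : Fin 3, (![a, b, c]) ((![a, b, c]) i) = i := by
      decide
    have hv : ![π 0, π 1, π 2] = π := funext fun i => by fin_cases i <;> rfl
    have := key (π 0) (π 1) (π 2) (fun e => absurd (hinj e) (by decide)) (fun e => absurd (hinj e) (by decide))
      (fun e => absurd (hinj e) (by decide)) hπ2 i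
    rwa [hv] at this
  obtain ⟨c, hc⟩ := Submodule.mem_span_singleton.1 (hπ i)
  rw [pow_two, map_mul, LinearEquiv.mul_apply, ← hc, map_smul]
  refine Submodule.smul_mem _ _ ?_
  have := hπ (π i)
  rwa [hpp] at this

theorem isPGroup_sylU (hfr : ∀ a : F, a ^ 9 = a) : IsPGroup 2 ↥(sylU hF) := by
  rintro ⟨g, hg⟩
  refine ⟨3, Subtype.ext ?_⟩
  show g ^ 2 ^ 3 = 1
  rw [show (2 : ℕ) ^ 3 = 2 * 4 by norm_num, pow_mul]
  apply suRep_injective
  rw [map_one]
  refine LinearEquiv.toLinearMap_injective ((Pi.basisFun F (Fin 3)).ext fun i => ?_)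
  obtain ⟨c, hc⟩ := Submodule.mem_span_singleton.1 (sq_fix hF hg i)
  have hc4 : c ^ 4 = 1 := by
    have h1 : hermStd 3 hF (suRep (hermStd 3 hF) (g ^ 2) (ax i)) (suRep (hermStd 3 hF) (g ^ 2) (ax i)) =
        hermStd 3 hF (ax i) (ax i) := HU.map_eq _ _ _
    rw [← hc, hermStd_ax, hermStd_apply] at h1
    simp [Cfsg.hermForm, ax, Pi.single_apply] at h1
    linear_combination h1
  have hk : ∀ k : ℕ, suRep (hermStd 3 hF) ((g ^ 2) ^ k) (ax i) = c ^ k • ax i := fun k => by
    induction k with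
    | zero => simp
    | succ k ih => rw [pow_succ', map_mul, LinearEquiv.mul_apply, ih, map_smul, ← hc, smul_smul, pow_succ]
  have h1 := hk 4
  rw [hc4, one_smul] at h1
  simpa [ax] using h1

/-- The elements used below. -/
theorem exists_elems (z : F) (hz : z * z = -1) :
    (∃ g : HSU (hermStd 3 hF), ∀ v, suRep (hermStd 3 hF) g v = ![v 1, v 0, -v 2]) ∧
    (∃ g : HSU (hermStd 3 hF), ∀ v, suRep (hermStd 3 hF) g v = ![v 2, v 0, v 1]) ∧
    ∀ a b : F, a ^ 4 = 1 → b ^ 4 = 1 →
      ∃ g : HSU (hermStd 3 hF), ∀ v, suRep (hermStd 3 hF) g v = ![a * v 0, b * v 1, (a * b) ^ 3 * v 2] := by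
  refine ⟨?_, ?_, fun a b ha hb => ?_⟩
  · obtain ⟨g, hg⟩ := exists_of_matrix hF !![0, 1, 0; 1, 0, 0; 0, 0, -1]
      (by simp [Matrix.det_fin_three]) (fun u v => by
        simp [Cfsg.hermForm, Fin.sum_univ_three, Matrix.mulVec, dotProduct]
        ring)
    exact ⟨g, fun v => by rw [hg]; ext i; fin_cases i <;> simp [Matrix.mulVec, dotProduct, Fin.sum_univ_three]⟩
  · obtain ⟨g, hg⟩ := exists_of_matrix hF !![0, 0, 1; 1, 0, 0; 0, 1, 0]
      (by simp [Matrix.det_fin_three]) (fun u v => by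
        simp [Cfsg.hermForm, Fin.sum_univ_three, Matrix.mulVec, dotProduct]
        ring)
    exact ⟨g, fun v => by rw [hg]; ext i; fin_cases i <;> simp [Matrix.mulVec, dotProduct, Fin.sum_univ_three]⟩
  · obtain ⟨g, hg⟩ := exists_of_matrix hF !![a, 0, 0; 0, b, 0; 0, 0, (a * b) ^ 3]
      (by simp [Matrix.det_fin_three]; linear_combination b ^ 4 * ha + hb) (fun u v => by
        simp [Cfsg.hermForm, Fin.sum_univ_three, Matrix.mulVec, dotProduct]
        linear_combination (u 0 * v 0 ^ 3) * ha + (u 1 * v 1 ^ 3) * hb +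
          (u 2 * v 2 ^ 3) * ((a ^ 8 * b ^ 12 + a ^ 4 * b ^ 12 + b ^ 12) * ha + (b ^ 8 + b ^ 4 + 1) * hb))
    exact ⟨g, fun v => by rw [hg]; ext i; fin_cases i <;> simp [Matrix.mulVec, dotProduct, Fin.sum_univ_three]⟩

/-- A monomial map permutes the axes. -/
theorem monomial_mem {g : HSU (hermStd 3 hF)} (π : Fin 3 → Fin 3) (d : Fin 3 → F)
    (hg : ∀ i, suRep (hermStd 3 hF) g (ax i) = d i • (ax (π i) : Fin 3 → F)) :
    g ∈ frSub hF ∧ (π 2 = 2 → g ∈ sylU hF) := by
  have h : g ∈ frSub hF := (mem_frSub hF).2 fun i => ⟨π i, by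
    rw [hg]; exact Submodule.smul_mem _ _ (Submodule.mem_span_singleton_self _)⟩
  refine ⟨h, fun h2 => ⟨(mem_ptSub hF).2 ?_, h⟩⟩
  rw [hg, h2]
  exact Submodule.smul_mem _ _ (Submodule.mem_span_singleton_self _)

theorem swap_mem {g : HSU (hermStd 3 hF)} (hg : ∀ v, suRep (hermStd 3 hF) g v = ![v 1, v 0, -v 2]) :
    g ∈ sylU hF :=
  (monomial_mem hF ![1, 0, 2] ![1, 1, -1] fun i => by
    rw [hg]; ext j; fin_cases i <;> fin_cases j <;> simp [ax]).2 rfl

theorem cycle_mem {g : HSU (hermStd 3 hF)} (hg : ∀ v, suRep (hermStd 3 hF) g v = ![v 2, v 0, v 1]) :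
    g ∈ frSub hF :=
  (monomial_mem hF ![1, 2, 0] (fun _ => 1) fun i => by
    rw [hg]; ext j; fin_cases i <;> fin_cases j <;> simp [ax]).1

theorem diag_mem {g : HSU (hermStd 3 hF)} {a b c : F}
    (hg : ∀ v, suRep (hermStd 3 hF) g v = ![a * v 0, b * v 1, c * v 2]) : g ∈ sylU hF :=
  (monomial_mem hF id ![a, b, c] fun i => by
    rw [hg]; ext j; fin_cases i <;> fin_cases j <;> simp [ax]).2 rfl

/-- An automorphism is induced by a semilinear map. -/
theorem exists_semilinear (hinjP : Function.Injective (psuProj (n := 3) hF)) (α : MulAut (HSU (hermStd 3 hF))) :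
    ∃ (f : (Fin 3 → F) →+ (Fin 3 → F)) (θ : F ≃+* F), Function.Injective f ∧
      (∀ (c : F) v, f (c • v) = θ c • f v) ∧
      ∀ x v, suRep (hermStd 3 hF) (α x) (f v) = f (suRep (hermStd 3 hF) x v) := by
  let eP := MulEquiv.ofBijective (psuProj (n := 3) hF) ⟨hinjP, psuProj_surjective hF⟩
  obtain ⟨g, hg, θ, hα⟩ := CfsgLib.Known.AutPSU.Trans.exists_eq_uSemi (hF := hF) le_rfl
    (fun _ => by norm_num) (MulAut.congr eP α)
  obtain ⟨G, hG⟩ : ∃ G : Matrix (Fin 3) (Fin 3) F, G = ((g : GL (Fin 3) F) : Matrix (Fin 3) (Fin 3) F) :=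
    ⟨_, rfl⟩
  let f : (Fin 3 → F) →+ (Fin 3 → F) :=
    AddMonoidHom.mk' (fun v => G *ᵥ (θ ∘ v)) fun a b => by
      rw [← Matrix.mulVec_add]
      exact congrArg _ (funext fun i => map_add θ _ _)
  have hinj : Function.Injective f := fun a b e => by
    have h1 := congrArg (fun w => ((g⁻¹ : GL (Fin 3) F) : Matrix (Fin 3) (Fin 3) F) *ᵥ w) e
    simp only [f, AddMonoidHom.mk'_apply, Matrix.mulVec_mulVec, hG, Units.inv_mul, Matrix.one_mulVec] at h1
    exact funext fun i => θ.injective (congrFun h1 i)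
  refine ⟨f, θ, hinj, fun c v => ?_, fun x v => ?_⟩
  · show G *ᵥ (θ ∘ (c • v)) = θ c • (G *ᵥ (θ ∘ v))
    rw [← Matrix.mulVec_smul]
    exact congrArg _ (funext fun i => map_mul θ _ _)
  · have hy : psuProj hF (α x) = psuProj hF (suEquiv 3 hF (CfsgLib.Known.AutPSU.suSemiHom hF
        ⟨g, CfsgLib.Known.AutPSU.GU_le_uGL hF hg⟩ θ ((suEquiv 3 hF).symm x))) := by
      have h1 : MulAut.congr eP α (eP x) = eP (α x) := by simp [MulAut.congr]
      rw [hα] at h1
      refine h1.symm.trans ?_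
      show _ = QuotientGroup.mk' _ _
      rw [MulEquiv.coe_toMonoidHom, MulEquiv.symm_apply_apply]
      exact CfsgLib.Known.AutPSU.uSemi_mk hF _ θ _
    rw [hinjP hy]
    show ((suEquiv 3 hF _ : HU (hermStd 3 hF)) : (Fin 3 → F) ≃ₗ[F] _) (G *ᵥ (θ ∘ v)) = G *ᵥ (θ ∘ _)
    rw [suEquiv_apply, hG]
    conv_rhs => rw [← (suEquiv 3 hF).apply_symm_apply x]
    show (((g : GL (Fin 3) F) : Matrix (Fin 3) (Fin 3) F) * _ * ((g⁻¹ : GL (Fin 3) F) : Matrix (Fin 3) (Fin 3) F)) *ᵥ _ = _
    rw [Matrix.mulVec_mulVec, Matrix.mul_assoc, Units.inv_mul, Matrix.mul_one, ← Matrix.mulVec_mulVec]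
    exact congrArg _ (funext fun i => (RingHom.map_mulVec θ.toRingHom _ v i).symm)

variable (z : F) (hz : z * z = -1) (h2 : (2 : F) ≠ 0)
include hz h2

/-- An axis is fixed by the squares only if it is a coordinate axis; only the last is fixed by all. -/
theorem fixed_line {x : Fin 3 → F} (hx : x ≠ 0)
    (h : ∀ g ∈ sylU hF, suRep (hermStd 3 hF) (g ^ 2) x ∈ Submodule.span F {x}) :
    (∃ i, x ∈ Submodule.span F {(ax i : Fin 3 → F)}) ∧
      ((∀ g ∈ sylU hF, suRep (hermStd 3 hF) g x ∈ Submodule.span F {x}) → x ∈ Submodule.span F {(ax 2 : Fin 3 → F)}) := by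
  have hz4 : z ^ 4 = 1 := by linear_combination (z * z - 1) * hz
  have hone : (1 : F) ≠ -1 := fun e => h2 (by linear_combination e)
  obtain ⟨⟨w, hw⟩, -, hdiag⟩ := exists_elems hF z hz
  have hwU : w ∈ sylU hF := swap_mem hF hw
  have hdU : ∀ a b : F, a ^ 4 = 1 → b ^ 4 = 1 → ∃ g ∈ sylU hF,
      ∀ v, suRep (hermStd 3 hF) g v = ![a * v 0, b * v 1, (a * b) ^ 3 * v 2] := by
    intro a b ha hb
    obtain ⟨g, hg⟩ := hdiag a b ha hb
    exact ⟨g, diag_mem hF hg, hg⟩
  obtain ⟨g₁, hg₁, hg₁'⟩ := hdU z 1 hz4 (one_pow 4)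
  obtain ⟨g₂, hg₂, hg₂'⟩ := hdU 1 z (one_pow 4) hz4
  obtain ⟨c, hc⟩ := Submodule.mem_span_singleton.1 (h g₁ hg₁)
  obtain ⟨d, hd⟩ := Submodule.mem_span_singleton.1 (h g₂ hg₂)
  rw [pow_two, map_mul, LinearEquiv.mul_apply, hg₁', hg₁'] at hc
  rw [pow_two, map_mul, LinearEquiv.mul_apply, hg₂', hg₂'] at hd
  have c0 : x 0 = 0 ∨ c = -1 := by
    have := congrFun hc 0
    simp at this
    exact or_iff_not_imp_left.2 fun h0 => mul_right_cancel₀ h0 (by linear_combination this + x 0 * hz)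
  have c1 : x 1 = 0 ∨ c = 1 := by
    have := congrFun hc 1
    simp at this
    exact or_iff_not_imp_left.2 fun h0 => mul_right_cancel₀ h0 (by linear_combination this)
  have c2 : x 2 = 0 ∨ c = -1 := by
    have := congrFun hc 2
    simp at this
    exact or_iff_not_imp_left.2 fun h0 => mul_right_cancel₀ h0 (by linear_combination this + x 2 * (z ^ 4 - z * z + 1) * hz)
  have d0 : x 0 = 0 ∨ d = 1 := by
    have := congrFun hd 0
    simp at this
    exact or_iff_not_imp_left.2 fun h0 => mul_right_cancel₀ h0 (by linear_combination this)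
  have d1 : x 1 = 0 ∨ d = -1 := by
    have := congrFun hd 1
    simp at this
    exact or_iff_not_imp_left.2 fun h0 => mul_right_cancel₀ h0 (by linear_combination this + x 1 * hz)
  have hax : ∃ i, x ∈ Submodule.span F {(ax i : Fin 3 → F)} := by
    by_cases h1 : x 1 = 0
    · by_cases h0 : x 0 = 0
      · exact ⟨2, mem_span_ax.2 fun j hj => by fin_cases j <;> simp_all⟩
      · refine ⟨0, mem_span_ax.2 fun j hj => ?_⟩
        fin_cases j
        · exact absurd rfl hj
        · exact h1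
        · show x 2 = 0
          by_contra hx2
          obtain ⟨c', hc'⟩ := Submodule.mem_span_singleton.1 (h g₂ hg₂)
          rw [pow_two, map_mul, LinearEquiv.mul_apply, hg₂', hg₂'] at hc'
          have e0 := congrFun hc' 0
          have e2 := congrFun hc' 2
          simp at e0 e2
          have : c' = 1 := mul_right_cancel₀ h0 (by linear_combination e0)
          subst this
          exact hx2 (mul_left_cancel₀ h2 (by linear_combination e2 + x 2 * (z ^ 4 - z * z + 1) * hz))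
    · refine ⟨1, mem_span_ax.2 fun j hj => ?_⟩
      fin_cases j
      · by_contra h0
        exact hone ((d0.resolve_left h0).symm.trans (d1.resolve_left h1))
      · exact absurd rfl hj
      · by_contra h0
        exact hone ((c1.resolve_left h1).symm.trans (c2.resolve_left h0))
  refine ⟨hax, fun hall => ?_⟩
  obtain ⟨i, hi⟩ := hax
  obtain ⟨e, he⟩ := Submodule.mem_span_singleton.1 (hall w hwU)
  rw [hw] at he
  rw [mem_span_ax] at hi ⊢
  intro j hj
  by_contra hxj
  have hji : j = i := Classical.byContradiction fun hne => hxj (hi j hne)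
  subst hji
  have e0 := congrFun he 0
  have e1 := congrFun he 1
  simp at e0 e1
  fin_cases j
  · exact hxj (by have := hi 1 (by decide); simp_all)
  · exact hxj (by have := hi 0 (by decide); simp_all)
  · exact hj rfl

theorem frame_closed (hinjP : Function.Injective (psuProj (n := 3) hF)) (α : MulAut (HSU (hermStd 3 hF)))
    (hU : (sylU hF).map α.toMonoidHom = sylU hF) :
    (ptSub hF).map α.toMonoidHom = ptSub hF ∧ (frSub hF).map α.toMonoidHom = frSub hF := by
  haveI : Finite (HSU (hermStd 3 hF)) := Finite.of_equiv _ (suEquiv 3 hF).toEquiv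
  obtain ⟨f, θ, hinj, hsmul, hcomm⟩ := exists_semilinear hF hinjP α
  have hspan : ∀ {v w : Fin 3 → F}, v ∈ Submodule.span F {w} → f v ∈ Submodule.span F {f w} := fun {v w} hv => by
    obtain ⟨c, rfl⟩ := Submodule.mem_span_singleton.1 hv
    rw [hsmul]
    exact Submodule.smul_mem _ _ (Submodule.mem_span_singleton_self _)
  have hne : ∀ i, f (ax i) ≠ 0 := fun i h => by
    have h1 := congrFun (hinj (h.trans (map_zero f).symm)) i
    simp [ax] at h1
  have hsq : ∀ i, ∀ g ∈ sylU hF, suRep (hermStd 3 hF) (g ^ 2) (f (ax i)) ∈ Submodule.span F {f (ax i)} := by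
    intro i g hg
    obtain ⟨u, hu, rfl⟩ := hU.ge hg
    rw [MulEquiv.coe_toMonoidHom, ← map_pow, hcomm]
    exact hspan (sq_fix hF hu i)
  have hline : ∀ {v w : Fin 3 → F}, v ≠ 0 → v ∈ Submodule.span F {w} → Submodule.span F {v} = Submodule.span F {w} := by
    intro v w hv hvw
    obtain ⟨c, rfl⟩ := Submodule.mem_span_singleton.1 hvw
    exact Submodule.span_singleton_smul_eq (Ne.isUnit fun hc => hv (by rw [hc, zero_smul])) w
  have hpt : Submodule.span F {f (ax 2)} = Submodule.span F {(ax 2 : Fin 3 → F)} :=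
    hline (hne 2) ((fixed_line hF z hz h2 (hne 2) (hsq 2)).2 fun g hg => by
      obtain ⟨u, hu, rfl⟩ := hU.ge hg
      rw [MulEquiv.coe_toMonoidHom, hcomm]
      exact hspan ((mem_ptSub hF).1 hu.1))
  choose π hπ using fun i => (fixed_line hF z hz h2 (hne i) (hsq i)).1
  have hπl : ∀ i, Submodule.span F {f (ax i)} = Submodule.span F {(ax (π i) : Fin 3 → F)} :=
    fun i => hline (hne i) (hπ i)
  have hπinj : Function.Injective π := by
    intro a b e
    by_contra hab
    have h1 : f (ax a) ∈ Submodule.span F {f (ax b)} := by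
      rw [hπl, ← e, ← hπl]
      exact Submodule.mem_span_singleton_self _
    obtain ⟨c, hc⟩ := Submodule.mem_span_singleton.1 h1
    have h3 : f (θ.symm c • ax b) = f (ax a) := by rw [hsmul, θ.apply_symm_apply, hc]
    have h4 := congrFun (hinj h3) a
    simp [ax, hab] at h4
  refine ⟨Subgroup.eq_of_le_of_card_ge ?_ (Nat.card_congr ((ptSub hF).equivMapOfInjective α.toMonoidHom α.injective).toEquiv).le,
    Subgroup.eq_of_le_of_card_ge ?_ (Nat.card_congr ((frSub hF).equivMapOfInjective α.toMonoidHom α.injective).toEquiv).le⟩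
  · rintro _ ⟨g, hg, rfl⟩
    rw [MulEquiv.coe_toMonoidHom, mem_ptSub]
    have h1 : suRep (hermStd 3 hF) (α g) (f (ax 2)) ∈ Submodule.span F {f (ax 2)} := by
      rw [hcomm]
      exact hspan ((mem_ptSub hF).1 hg)
    obtain ⟨c, hc⟩ := Submodule.mem_span_singleton.1 (hpt.ge (Submodule.mem_span_singleton_self (ax 2)))
    have h5 : suRep (hermStd 3 hF) (α g) (c • f (ax 2)) ∈ Submodule.span F {f (ax 2)} := by
      rw [map_smul]
      exact Submodule.smul_mem _ _ h1
    rw [hc] at h5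
    exact hpt.le h5
  · rintro _ ⟨g, hg, rfl⟩
    rw [MulEquiv.coe_toMonoidHom, mem_frSub]
    intro i
    obtain ⟨i', rfl⟩ := (Finite.injective_iff_surjective.1 hπinj) i
    obtain ⟨j, hj⟩ := (mem_frSub hF).1 hg i'
    refine ⟨π j, ?_⟩
    obtain ⟨c, hc⟩ := Submodule.mem_span_singleton.1 ((hπl i').ge (Submodule.mem_span_singleton_self (ax (π i'))))
    rw [← hπl, ← hc, map_smul, hcomm]
    exact Submodule.smul_mem _ _ (hspan hj)

end Model

theorem split_PSU_three_three (h9 : Fintype.card F = 9) [Fact (Nat.Prime 2)] :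
    Split 2 (Cfsg.PSU 3 F 3) := by
  classical
  have hF : Fintype.card F = 3 ^ 2 := h9
  have hh := hermStd_isHerm (n := 3) hF
  haveI : Finite (HSU (hermStd 3 hF)) := Finite.of_equiv _ (suEquiv 3 hF).toEquiv
  haveI : Finite (Fin 3 → F) := Module.finite_of_finite F
  obtain ⟨h3, h2, hfr, z, hz⟩ := field_facts h9
  have hz4 : z ^ 4 = 1 := by linear_combination (z * z - 1) * hz
  have hcube : ∀ c : F, c ^ 3 = 1 → c = 1 := fun c hc => sub_eq_zero.1 (pow_eq_zero_iff (n := 3) (by norm_num) |>.1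
    (by linear_combination hc + (c - c ^ 2) * h3))
  have hinjP : Function.Injective (psuProj (n := 3) hF) := by
    rw [← MonoidHom.ker_eq_bot_iff, ker_psuProj, Subgroup.eq_bot_iff_forall]
    intro g hg
    obtain ⟨a, ha⟩ := (hh.mem_center_HSU_iff (by rw [finrank_std])).1 hg
    have ha1 : a = 1 := by
      refine hcube a ?_
      obtain ⟨t, rfl⟩ := (suEquiv 3 hF).surjective g
      have hM : ((t : Matrix.SpecialLinearGroup (Fin 3) F) : Matrix (Fin 3) (Fin 3) F) = a • 1 := by
        apply Matrix.toLin'.injective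
        refine LinearMap.ext fun v => ?_
        rw [Matrix.toLin'_apply, Matrix.toLin'_apply, Matrix.smul_mulVec, Matrix.one_mulVec, ← suEquiv_apply hF]
        exact ha v
      have := congrArg Matrix.det hM
      rw [Matrix.SpecialLinearGroup.det_coe, Matrix.det_smul, Matrix.det_one, mul_one, Fintype.card_fin] at this
      exact this.symm
    exact suRep_injective (LinearEquiv.ext fun v => (ha v).trans (by rw [ha1, one_smul, map_one]; rfl))
  let eP := MulEquiv.ofBijective (psuProj (n := 3) hF) ⟨hinjP, psuProj_surjective hF⟩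
  refine Split.of_equiv ?_ eP
  have hG : Nat.card (HSU (hermStd 3 hF)) = 6048 := by
    rw [Nat.card_congr eP.toEquiv]
    have h := CfsgLib.Classical.Herm.card_PSU (F := F) (q := 3) hF 3 (by norm_num)
    norm_num [Finset.prod_range_succ, show Even 2 from even_two, show ¬ Even 1 by decide,
      show Nat.gcd 3 4 = 1 from rfl] at h
    rw [Nat.card_eq_fintype_card]
    omega
  haveI : IsSimpleGroup (Cfsg.PSU 3 F 3) := isSimpleGroup_PSU' hF 3 le_rfl fun _ => by norm_num
  haveI : IsSimpleGroup (HSU (hermStd 3 hF)) := eP.isSimpleGroup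
  obtain ⟨⟨w, hw⟩, ⟨P, hP⟩, hdiag⟩ := exists_elems hF z hz
  have hne1 : z ≠ 1 := fun e => h2 (by rw [e] at hz; linear_combination hz)
  have hz0 : z ≠ 0 := fun e => by rw [e, mul_zero] at hz; exact one_ne_zero (neg_eq_zero.1 hz.symm)
  -- the order of the Sylow subgroup
  have hU : Nat.card ↥(sylU hF) = 2 ^ 5 := by
    obtain ⟨k, hk⟩ := IsPGroup.iff_card.1 (isPGroup_sylU hF hfr)
    have hd := Subgroup.card_subgroup_dvd_card (sylU hF)
    rw [hk, hG, show (6048 : ℕ) = 2 ^ 5 * 189 by norm_num] at hd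
    have hle : k ≤ 5 := (Nat.pow_dvd_pow_iff_le_right (by norm_num : 1 < 2)).1
      ((Nat.Coprime.pow_left k (by norm_num : Nat.Coprime 2 189)).dvd_of_dvd_mul_right hd)
    obtain ⟨r, hr, hr4⟩ : ∃ r : Fin 4 → F, Function.Injective r ∧ ∀ i, r i ^ 4 = 1 := by
      refine ⟨fun i => z ^ i.val, fun i j e => ?_, fun i => by rw [← pow_mul, mul_comm, pow_mul, hz4, one_pow]⟩
      have ho : orderOf z = 2 ^ (1 + 1) := orderOf_eq_prime_pow
        (fun e => h2 (by linear_combination hz - e)) (by norm_num; exact hz4)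
      exact Fin.ext (pow_injOn_Iio_orderOf (by rw [ho]; exact i.2) (by rw [ho]; exact j.2) e)
    choose dg hdg using fun p : Fin 4 × Fin 4 => hdiag (r p.1) (r p.2) (hr4 _) (hr4 _)
    let φ : Option (Fin 4 × Fin 4) → ↥(sylU hF) := fun o => match o with
      | none => ⟨w, swap_mem hF hw⟩
      | some p => ⟨dg p, diag_mem hF (hdg p)⟩
    have hr0 : ∀ i, r i ≠ 0 := fun i e => by have := hr4 i; rw [e] at this; simp at this
    have hinjφ : Function.Injective φ := by
      intro o o' e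
      have key : ∀ i : Fin 3, suRep (hermStd 3 hF) (φ o).1 (ax i) i = suRep (hermStd 3 hF) (φ o').1 (ax i) i :=
        fun i => by rw [e]
      have k0 := key 0
      have k1 := key 1
      rcases o with _ | ⟨a, b⟩ <;> rcases o' with _ | ⟨a', b'⟩ <;> simp [φ, hw, hdg, ax] at k0 k1 ⊢
      · exact absurd k0.symm (hr0 a')
      · exact absurd k0 (hr0 a)
      · exact ⟨hr k0, hr k1⟩
    have h17 := Nat.card_le_card_of_injective φ hinjφ
    rw [hk] at h17
    simp at h17
    rw [hk]
    interval_cases k <;> simp_all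
  have hidx : ¬ 2 ∣ (sylU hF).index := by
    have h := (sylU hF).card_mul_index
    rw [hU, hG] at h
    omega
  -- transvections
  obtain ⟨c, hc0, hc⟩ := hh.exists_skew
  rw [powHom_apply] at hc
  have hc2 : c * c = -1 := mul_left_cancel₀ hc0 (by linear_combination hc)
  have hPfr : P ∈ frSub hF := cycle_mem hF hP
  have hPpt : P ∉ ptSub hF := fun h => by
    have := mem_span_ax.1 ((mem_ptSub hF).1 h) 0 (by decide)
    rw [hP] at this
    simp [ax] at this
  have hM : ptSub hF ⊔ frSub hF = ⊤ := by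
    obtain ⟨M, hM⟩ : ∃ M, M = ptSub hF ⊔ frSub hF := ⟨_, rfl⟩
    rw [← hM]
    have hpt : ptSub hF ≤ M := hM ▸ le_sup_left
    have hfrM : frSub hF ≤ M := hM ▸ le_sup_right
    have hPi : ∀ v, suRep (hermStd 3 hF) P⁻¹ v = ![v 1, v 2, v 0] := fun v => by
      apply (suRep (hermStd 3 hF) P).injective
      rw [apply_inv_apply, hP]
      ext i; fin_cases i <;> simp
    have hstab : ∀ g : HSU (hermStd 3 hF), (∃ i, suRep (hermStd 3 hF) g (ax i) = ax i) → g ∈ M := by
      rintro g ⟨i, hi⟩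
      have hmove : ∀ h : HSU (hermStd 3 hF), h ∈ M → suRep (hermStd 3 hF) h (ax i) = ax 2 → g ∈ M := by
        intro h hh' h1
        have h3 : h * g * h⁻¹ ∈ M := hpt ((mem_ptSub hF).2 (by
          rw [map_mul, map_mul, LinearEquiv.mul_apply, LinearEquiv.mul_apply, ← h1,
            show suRep (hermStd 3 hF) h⁻¹ (suRep (hermStd 3 hF) h (ax i)) = ax i from by
              rw [← LinearEquiv.mul_apply, ← map_mul, inv_mul_cancel, map_one]; rfl, hi]
          exact Submodule.mem_span_singleton_self _))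
        have := mul_mem (mul_mem (inv_mem hh') h3) hh'
        simpa [mul_assoc] using this
      fin_cases i
      · refine hmove (P * P) (hfrM (mul_mem hPfr hPfr)) ?_
        rw [map_mul, LinearEquiv.mul_apply, hP, hP]
        ext j; fin_cases j <;> simp [ax]
      · refine hmove P (hfrM hPfr) ?_
        rw [hP]
        ext j; fin_cases j <;> simp [ax]
      · exact hmove 1 (one_mem M) (by rw [map_one]; rfl)
    have hzero : ∀ (u : Fin 3 → F) (hu : hermStd 3 hF u u = 0) (d : F) (hd : d + powHom hF d = 0),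
        (∃ i, u i = 0) → (⟨hh.tr hu hd, hh.det_tr hu hd⟩ : HSU (hermStd 3 hF)) ∈ M := by
      rintro u hu d hd ⟨i, hi⟩
      exact hstab _ ⟨i, hh.tr_fix hu hd (by rw [hermStd_ax, hi]; simp)⟩
    refine eq_top_iff.2 fun g _ => ?_
    suffices h : hh.trGroup ≤ M.map (HSU (hermStd 3 hF)).subtype by
      obtain ⟨g', hg', e⟩ := h ((hh.trGroup_eq (by rw [finrank_std]; omega)
        (fun _ => by rw [card_fixed_powHom hF]; norm_num)).ge g.2)
      exact (Subtype.ext e : g' = g) ▸ hg'
    rw [IsHerm.trGroup, Subgroup.closure_le]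
    rintro _ ⟨x, hx, d, hd, rfl⟩
    refine ⟨⟨_, hh.det_tr hx hd⟩, ?_, rfl⟩
    by_cases hex : ∃ i, x i = 0
    · exact hzero x hx d hd hex
    push Not at hex
    obtain ⟨t, ht⟩ : ∃ t, t = -(x 0 * (1 + c)) / (c * x 1) := ⟨_, rfl⟩
    have hx4 : ∀ i, x i ^ 4 = 1 ∨ x i ^ 4 = -1 := fun i => sq_eq_one_iff.1 (by
      have h1 : x i * (x i ^ 8 - 1) = 0 := by linear_combination hfr (x i)
      rw [← pow_mul]
      exact sub_eq_zero.1 ((mul_eq_zero.1 h1).resolve_left (hex i)))
    have hnorm : x 0 ^ 4 = x 1 ^ 4 := by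
      have h1 := hx
      rw [hermStd_three] at h1
      rcases hx4 0 with a | a <;> rcases hx4 1 with b | b <;> rcases hx4 2 with e | e <;>
        first
          | exact a.trans b.symm
          | exfalso; exact one_ne_zero (α := F) (by linear_combination h1 - a - b - e)
          | exfalso; exact one_ne_zero (α := F) (by linear_combination -h1 + a + b + e)
    have hcx : c * x 1 ≠ 0 := mul_ne_zero hc0 (hex 1)
    have ht4 : t ^ 4 = -1 := by
      rw [ht, div_pow, div_eq_iff (pow_ne_zero _ hcx)]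
      linear_combination (1 + c) ^ 4 * hnorm + x 1 ^ 4 * (c * c + 4 * c + 5 + (c * c - 1)) * hc2 +
        x 1 ^ 4 * (-1) * h3
    have hzz : hermStd 3 hF ![1, t ^ 3, 0] ![1, t ^ 3, 0] = 0 := by
      rw [hermStd_three]
      simp
      linear_combination (t ^ 8 - t ^ 4 + 1) * ht4
    have hcc : c + powHom hF c = 0 := by rw [powHom_apply]; linear_combination c * hc2
    obtain ⟨tz, htz⟩ : ∃ tz, tz = (⟨hh.tr hzz hcc, hh.det_tr hzz hcc⟩ : HSU (hermStd 3 hF)) := ⟨_, rfl⟩
    have htzM : tz ∈ M := htz ▸ hzero _ hzz c hcc ⟨2, by simp⟩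
    have hconj : tz * ⟨hh.tr hx hd, hh.det_tr hx hd⟩ * tz⁻¹ ∈ M := by
      have e := hh.conj_tr hx hd (hh.tr hzz hcc)
      have := hzero _ ((HU.map_eq (hh.tr hzz hcc) x x).trans hx) d hd ⟨0, by
        rw [hh.tr_apply, hermStd_three]
        simp
        have ht9 : (t ^ 3) ^ 3 = t := by rw [← pow_mul]; exact hfr t
        rw [ht9]
        have : t * (c * x 1) = -(x 0 * (1 + c)) := by rw [ht, div_mul_cancel₀ _ hcx]
        linear_combination this⟩
      have e' : tz * ⟨hh.tr hx hd, hh.det_tr hx hd⟩ * tz⁻¹ = ⟨_, hh.det_tr ((HU.map_eq (hh.tr hzz hcc) x x).trans hx) hd⟩ :=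
        Subtype.ext (by rw [htz]; exact e)
      rw [e']
      exact this
    have := mul_mem (mul_mem (inv_mem htzM) hconj) htzM
    simpa [mul_assoc] using this
  have hfne : frSub hF ≠ ⊤ := by
    intro h
    have hgam : hermStd 3 hF ![1, 1 + z, 0] ![1, 1 + z, 0] = 0 := by
      rw [hermStd_three]
      simp
      linear_combination (z * z + 4 * z + 5) * hz + (-1 : F) * h3
    have hzs : z + powHom hF z = 0 := by rw [powHom_apply]; linear_combination z * hz
    obtain ⟨j, hj⟩ := (mem_frSub hF).1 (h ▸ Subgroup.mem_top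
      (⟨hh.tr hgam hzs, hh.det_tr hgam hzs⟩ : HSU (hermStd 3 hF))) 0
    have e : suRep (hermStd 3 hF) ⟨hh.tr hgam hzs, hh.det_tr hgam hzs⟩ (ax 0) = ![1 + z, z * (1 + z), 0] := by
      show ((hh.tr hgam hzs : HU (hermStd 3 hF)) : (Fin 3 → F) ≃ₗ[F] (Fin 3 → F)) (ax 0) = _
      rw [hh.tr_apply, hermStd_ax]
      ext i; fin_cases i <;> simp [ax]
    rw [e] at hj
    have hn0 : (1 : F) + z ≠ 0 := fun e => h2 (by linear_combination hz + (1 - z) * e)
    have a := ax_eigen hj (j := 0) (by simpa using hn0)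
    have b := ax_eigen hj (j := 1) (by simp [hz0, hn0])
    exact absurd (a.trans b.symm) (by decide)
  have hpne : ptSub hF ≠ ⊤ := fun h => hPpt (h ▸ Subgroup.mem_top P)
  refine ⟨(IsPGroup.of_card hU).toSylow hidx, ?_, {ptSub hF, frSub hF}, ?_, by rw [sSup_pair, hM]⟩
  · show Subgroup.normalizer (sylU hF : Set (HSU (hermStd 3 hF))) ≠ ⊤
    intro h
    haveI hN : (sylU hF).Normal := Subgroup.normalizer_eq_top_iff.1 h
    rcases hN.eq_bot_or_eq_top with h1 | h1
    · rw [h1, Subgroup.card_bot] at hU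
      norm_num at hU
    · exact hpne (top_le_iff.1 (h1 ▸ inf_le_left))
  · rintro Y (rfl | rfl)
    · exact ⟨inf_le_left, hpne, fun α _ hα => (frame_closed hF z hz h2 hinjP α hα).1⟩
    · exact ⟨inf_le_right, hfne, fun α _ hα => (frame_closed hF z hz h2 hinjP α hα).2⟩

end CfsgLib.HallGen.PMinimal.UThree
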