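import Cfsg.Agent.Lib.HallGen.PMinimal.Basic
import Cfsg.Agent.Lib.Lie.Suzuki.Borel

/-!
The Borel subgroup of a Suzuki group is maximal.
-/

set_option autoImplicit false

namespace CfsgLib.HallGen.PMinimal

open CfsgLib.Lie.Suzuki

theorem rankOne_Sz {F : Type} [Field F] [Fintype F] [CharP F 2] {m : ℕ} (hm : 1 ≤ m)
    (hF : Fintype.card F = 2 ^ (2 * m + 1)) [Finite (Cfsg.Sz F m)] [Fact (Nat.Prime 2)] :
    RankOne 2 (Cfsg.Sz F m) := by
  haveI := isSimple hF hm
  refine ⟨sylU hF hm, ?_⟩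
  rw [coe_sylU, normalizer_unip hF hm]
  refine ⟨fun h => ?_, fun M hM => ?_⟩
  · have h1 : wS hF ∈ borel F m := h ▸ Subgroup.mem_top _
    have h2 : wS hF • pt F m none = pt F m none := h1
    rw [wS_none, EmbeddingLike.apply_eq_iff_eq] at h2
    exact Option.some_ne_none _ h2
  · obtain ⟨m₀, hm₀, hmove⟩ := SetLike.exists_of_lt hM
    have hmove' : m₀ • pt F m none ≠ pt F m none := hmove
    have hU : unip hF ≤ M := (unip_le_borel hF).trans hM.le
    have hzero : ∃ g ∈ M, g • pt F m none = pt F m (some ((0 : F), (0 : F))) := by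
      obtain ⟨_ | ⟨a, b⟩, ho⟩ := (pt F m).surjective (m₀ • pt F m none)
      · exact absurd ho.symm hmove'
      · refine ⟨(uS hF a b)⁻¹ * m₀, mul_mem (inv_mem (hU (uS_mem hF a b))) hm₀, ?_⟩
        rw [mul_smul, ← ho, inv_smul_eq_iff, uS_zero]
    refine eq_top_iff.2 fun x _ => ?_
    obtain ⟨g, hg, e⟩ : ∃ g ∈ M, g • pt F m none = x • pt F m none := by
      obtain ⟨_ | ⟨a, b⟩, ho⟩ := (pt F m).surjective (x • pt F m none)
      · exact ⟨1, one_mem M, by rw [one_smul, ← ho]⟩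
      · obtain ⟨g, hg, e⟩ := hzero
        exact ⟨uS hF a b * g, mul_mem (hU (uS_mem hF a b)) hg, by rw [mul_smul, e, uS_zero, ho]⟩
    have h1 : g⁻¹ * x ∈ borel F m := by
      show (g⁻¹ * x) • pt F m none = pt F m none
      rw [mul_smul, ← e, inv_smul_smul]
    rw [show x = g * (g⁻¹ * x) by group]
    exact mul_mem hg (hM.le h1)

end CfsgLib.HallGen.PMinimal
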