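import Cfsg.Agent.Lib.HallGen.PMinimal.FixedMod
import Cfsg.Agent.Lib.HallGen.Overgroup.Classical
import Cfsg.Agent.Lib.Known.PSpSemi.Card

/-!
The symplectic groups are not minimal over a Sylow subgroup in the defining characteristic.
-/

set_option autoImplicit false

namespace CfsgLib.HallGen.PMinimal

open CfsgLib.HallGen.Overgroup CfsgLib.Blocks.DefectLie
open CfsgLib.Classical.Symp
open LinearMap (BilinForm)

section Geometry

variable {F : Type*} [Field F] [Finite F]
  {V : Type*} [AddCommGroup V] [Module F V] [FiniteDimensional F V]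
  {B : BilinForm F V} (hA : B.IsAlt) (hB : B.Nondegenerate) [Finite (Sp B)]

theorem htr_symp : ∀ {x v v'}, x ∈ (sympGeom hA hB).sing → v ∈ (sympGeom hA hB).sing →
    v' ∈ (sympGeom hA hB).sing → ¬ (sympGeom hA hB).perp x v → ¬ (sympGeom hA hB).perp x v' →
      ∃ g ∈ (sympGeom hA hB).rootGp x, ∃ c : F, c ≠ 0 ∧ (Sp B).subtype g v = c • v' := by
  intro x v v' _ _ _ hv hv'
  change ¬ B x v = 0 at hv
  change ¬ B x v' = 0 at hv'
  have hvx : B v x ≠ 0 := by rw [swap hA]; exact neg_ne_zero.2 hv
  obtain ⟨c, hc⟩ : ∃ c, c = B x v / B x v' := ⟨_, rfl⟩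
  obtain ⟨a, ha⟩ : ∃ a, a = (B v x)⁻¹ • (c • v' - v) := ⟨_, rfl⟩
  have hxa : B x a = 0 := by
    rw [ha, map_smul, map_sub, map_smul, smul_eq_mul, smul_eq_mul, hc, div_mul_cancel₀ _ hv',
      sub_self, mul_zero]
  have hax : B a x = 0 := by rw [swap hA, hxa, neg_zero]
  obtain ⟨γ, hγ⟩ : ∃ γ, γ = -(1 + B v a / B v x) := ⟨_, rfl⟩
  refine ⟨tr hA x γ * (tr hA (x + a) 1 * tr hA a (-1)), mul_mem ?_ ?_, c,
    fun h => hv (by rw [h, eq_comm, div_eq_zero_iff] at hc; exact hc.resolve_right hv'), ?_⟩
  · refine mem_flagFix _ ?_ (fun w hw => ?_) (fun w hw => ?_) fun w => ?_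
    · exact Submodule.span_le.2 fun y hy u hu => by rw [hy, hu]; exact hA x
    · obtain ⟨s, rfl⟩ := Submodule.mem_span_singleton.1 hw
      exact tr_fix hA _ (by rw [map_smul, LinearMap.smul_apply, hA x, smul_zero])
    · rw [Subgroup.subtype_apply, tr_fix hA _ (by rw [swap hA, show B x w = 0 from hw x rfl, neg_zero]),
        sub_self]
      exact Submodule.zero_mem _
    · rw [Subgroup.subtype_apply, tr_apply, add_sub_cancel_left]
      exact Submodule.smul_mem _ _ fun u hu => by rw [hu]; exact hA x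
  · have hO : ∀ {u : V}, u ∈ (sympGeom hA hB).orth {x} → B u x = 0 := fun {u} hu => by
      rw [swap hA, show B x u = 0 from hu x rfl, neg_zero]
    refine mem_flagFix _ ?_ (fun w hw => ?_) (fun w hw => ?_) fun w => ?_
    · exact Submodule.span_le.2 fun y hy u hu => by rw [hy, hu]; exact hA x
    · obtain ⟨s, rfl⟩ := Submodule.mem_span_singleton.1 hw
      rw [map_mul, LinearEquiv.mul_apply]
      show (tr hA (x + a) 1 : V ≃ₗ[F] V) ((tr hA a (-1) : V ≃ₗ[F] V) (s • x)) = s • x
      rw [tr_fix hA _ (show B (s • x) a = 0 by rw [map_smul, LinearMap.smul_apply, hxa, smul_zero]),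
        tr_fix hA]
      rw [map_smul, LinearMap.smul_apply, map_add, hA x, hxa, add_zero, smul_zero]
    · rw [map_mul, LinearEquiv.mul_apply]
      simp only [Subgroup.subtype_apply, tr_apply, map_add, map_smul, LinearMap.add_apply,
        LinearMap.smul_apply, smul_eq_mul, hA a, hax, hO hw]
      convert (Submodule.span F {x}).smul_mem (B w a) (Submodule.mem_span_singleton_self x) using 1
      module
    · rw [map_mul, LinearEquiv.mul_apply]
      simp only [Subgroup.subtype_apply, tr_apply]
      rw [show ∀ s t : F, w + s • a + t • (x + a) - w = s • a + t • (x + a) from fun s t => by abel]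
      have h1 : a ∈ (sympGeom hA hB).orth {x} := fun u hu => by rw [hu]; exact hxa
      have h2 : x ∈ (sympGeom hA hB).orth {x} := fun u hu => by rw [hu]; exact hA x
      exact Submodule.add_mem _ (Submodule.smul_mem _ _ h1) (Submodule.smul_mem _ _ (Submodule.add_mem _ h2 h1))
  · simp only [map_mul, LinearEquiv.mul_apply, Subgroup.subtype_apply, tr_apply, map_add, map_smul,
      LinearMap.add_apply, LinearMap.smul_apply, smul_eq_mul, hA a, hax, hxa, hA x]
    rw [show c • v' = v + B v x • a by rw [ha, smul_inv_smul₀ hvx]; abel]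
    rw [hγ]
    match_scalars <;> field_simp <;> ring

theorem sep_symp : Sep (sympGeom hA hB) := by
  intro T u v _ _ hperp huT hv0 hvW
  set S := insert u T
  set W := Submodule.span F S
  have huS : u ∈ S := Set.mem_insert u T
  have hle : W ≤ (sympGeom hA hB).orth S := fun y hy a ha =>
    (sympGeom hA hB).symm ((sympGeom hA hB).span_le_orth hperp hy fun z hz => hperp z hz a ha)
  have huW : u ∈ W := Submodule.subset_span huS
  have hOu : ∀ w ∈ (sympGeom hA hB).orth S, B w u = 0 := fun w hw => by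
    rw [swap hA, show B u w = 0 from hw u huS, neg_zero]
  by_cases huv : B v u = 0
  · obtain ⟨a, hva, hWa⟩ := CfsgLib.Classical.Bilin.exists_sep hB hvW
    have hua : B u a = 0 := hWa u huW
    have hau : B a u = 0 := by rw [swap hA, hua, neg_zero]
    have haO : a ∈ (sympGeom hA hB).orth S := fun s hs => hWa s (Submodule.subset_span hs)
    have hg : ∀ x, (tr hA (u + a) 1 * tr hA a (-1) : Sp B).1 x = x + B x u • (u + a) + B x a • u := by
      intro x
      rw [Subgroup.coe_mul, LinearEquiv.mul_apply]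
      simp only [tr_apply, map_add, map_smul, LinearMap.add_apply, LinearMap.smul_apply, smul_eq_mul,
        hA a, hau]
      match_scalars <;> ring
    refine ⟨tr hA (u + a) 1 * tr hA a (-1), mem_flagFix _ hle (fun w hw => ?_) (fun w hw => ?_) (fun w => ?_),
      fun h => huT ?_⟩
    · rw [Subgroup.subtype_apply, hg, hWa w hw, hOu w (hle hw)]; simp
    · rw [Subgroup.subtype_apply, hg, hOu w hw, zero_smul, add_zero, add_sub_cancel_left]
      exact Submodule.smul_mem _ _ huW
    · rw [Subgroup.subtype_apply, hg, add_assoc, add_sub_cancel_left]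
      exact Submodule.add_mem _ (Submodule.smul_mem _ _ (Submodule.add_mem _ (hle huW) haO))
        (Submodule.smul_mem _ _ (hle huW))
    · rw [Subgroup.subtype_apply, hg, huv, hva, zero_smul, one_smul, add_zero, add_sub_cancel_left] at h
      exact h
  · refine ⟨tr hA u 1, mem_flagFix _ hle (fun w hw => ?_) (fun w hw => ?_) (fun w => ?_), fun h => huT ?_⟩
    · exact tr_fix hA _ (hOu w (hle hw))
    · rw [Subgroup.subtype_apply, tr_fix hA _ (hOu w hw), sub_self]
      exact Submodule.zero_mem _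
    · rw [Subgroup.subtype_apply, tr_apply, add_sub_cancel_left]
      exact Submodule.smul_mem _ _ (hle huW)
    · rw [Subgroup.subtype_apply, tr_apply, add_sub_cancel_left, one_mul] at h
      have := Submodule.smul_mem _ (B v u)⁻¹ h
      rwa [inv_smul_smul₀ huv] at this

theorem irred_symp : Irred (sympGeom hA hB) := by
  intro e he y _ hey hy
  obtain ⟨z, hyz, hz⟩ := CfsgLib.Classical.Bilin.exists_sep hB hy
  have hez : B e z = 0 := hz e (Submodule.mem_span_singleton_self e)
  refine ⟨tr hA z 1, tr_fix hA _ hez, fun h => ?_⟩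
  have h' : B y ((tr hA z 1 : V ≃ₗ[F] V) y) = 0 := h
  rw [tr_apply, map_add, map_smul, hA y, hyz] at h'
  simp at h'

variable {p : ℕ} [Fact p.Prime] [CharP F p]

theorem line_symp (hn : 3 ≤ Module.finrank F V) : ∀ e ∈ (sympGeom hA hB).sing, ∀ H : Subgroup (Sp B),
    IsPGroup p H → (∀ g ∈ H, (Sp B).subtype g e = e) →
      ∃ u ∈ (sympGeom hA hB).sing, (sympGeom hA hB).perp e u ∧ u ∉ Submodule.span F {e} ∧
        ∀ g ∈ H, (Sp B).subtype g u - u ∈ Submodule.span F {e} := by
  intro e he H hH hfe
  haveI : Finite V := Module.finite_of_finite F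
  obtain ⟨u, hu, hue, hfu⟩ := exists_fixed_mod (p := p) hH (le_stab_point hfe) (O := LinearMap.ker (B e))
    (fun g hg x hx => by
      rw [LinearMap.mem_ker] at hx ⊢
      conv_lhs => rw [← hfe g hg]
      exact (g.2 e x).trans hx) (fun h => by
      have h1 := Submodule.finrank_mono h
      have h2 := LinearMap.finrank_range_add_finrank_ker (B e)
      have h3 := (LinearMap.range (B e)).finrank_le
      rw [Module.finrank_self] at h3
      rw [finrank_span_singleton (show e ≠ 0 from he)] at h1
      omega)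
  exact ⟨u, fun h => hue (h ▸ Submodule.zero_mem _), hu, hue, hfu⟩

end Geometry

/-- The symplectic groups. -/
theorem split_PSp {p : ℕ} [Fact p.Prime] {K : Type*} [Field K] [Fintype K] [CharP K p] {m : ℕ}
    (hm : 2 ≤ m) (h2 : m = 2 → (2 : K) ≠ 0) : Split p (Cfsg.PSp m K) := by
  haveI : Nonempty (Fin m) := ⟨⟨0, by omega⟩⟩
  haveI : IsSimpleGroup (Cfsg.PSp m K) := by
    apply isSimpleGroup_psp (by omega : 1 ≤ m)
    rcases Nat.lt_or_ge m 3 with h | h
    · exact Or.inl ⟨hm, h2 (by omega)⟩
    · exact Or.inr (Or.inl h)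
  haveI : Finite (Sp (sympBil m K)) := Finite.of_equiv _ (symplecticEquiv m K).toEquiv
  haveI : Finite (Fin m ⊕ Fin m → K) := Module.finite_of_finite K
  let π : Sp (sympBil m K) →* Cfsg.PSp m K := (QuotientGroup.mk' _).comp (symplecticEquiv m K).symm.toMonoidHom
  have hker : π.ker = Subgroup.center (Sp (sympBil m K)) := by
    ext g
    show QuotientGroup.mk' _ ((symplecticEquiv m K).symm g) = 1 ↔ _
    rw [QuotientGroup.mk'_apply, QuotientGroup.eq_one_iff, Subgroup.mem_center_iff, Subgroup.mem_center_iff]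
    constructor
    · intro h y
      have := congrArg (symplecticEquiv m K) (h ((symplecticEquiv m K).symm y))
      rwa [map_mul, map_mul, MulEquiv.apply_symm_apply, MulEquiv.apply_symm_apply] at this
    · intro h y
      apply (symplecticEquiv m K).injective
      rw [map_mul, map_mul, MulEquiv.apply_symm_apply, h]
  have hA := sympBil_isAlt m K
  have hB := sympBil_nondegenerate m K
  have hsc : ∀ z ∈ π.ker, ∃ a : K, ∀ v, (Sp (sympBil m K)).subtype z v = a • v := fun z hz =>
    (mem_center_iff_smul hA hB).1 (hker ▸ hz)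
  haveI : Nontrivial (Fin m ⊕ Fin m → K) := nontrivial_sympSpace (by omega)
  refine split_of_geom (sympGeom hA hB) π ((QuotientGroup.mk'_surjective _).comp (symplecticEquiv m K).symm.surjective)
    (Subgroup.subtype_injective _)
    (hker ▸ not_dvd_card_center (Sp (sympBil m K)).subtype (Subgroup.subtype_injective _) fun z hz =>
      (mem_center_iff_smul hA hB).1 hz)
    hsc (fun α => ?_) (fun H hH _ => ?_) (htr_symp hA hB) (sep_symp hA hB) (irred_symp hA hB)
    (exists_ne 0) (line_symp hA hB (by rw [finrank_sympSpace]; omega))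
  · obtain ⟨g, σ, rfl⟩ := CfsgLib.Known.PSpSemi.exists_eq_pSemi hm h2 α
    obtain ⟨G, hG⟩ : ∃ G : Matrix (Fin m ⊕ Fin m) (Fin m ⊕ Fin m) K, G = ((g : GL (Fin m ⊕ Fin m) K) : Matrix (Fin m ⊕ Fin m) (Fin m ⊕ Fin m) K) := ⟨_, rfl⟩
    let f : (Fin m ⊕ Fin m → K) →+ (Fin m ⊕ Fin m → K) :=
      AddMonoidHom.mk' (fun v => G.mulVec (σ ∘ v)) fun a b => by
        rw [← Matrix.mulVec_add]
        exact congrArg _ (funext fun i => map_add σ _ _)
    have hinj : Function.Injective f := fun a b e => by
      have h1 := congrArg (fun w => Matrix.mulVec (((g : GL (Fin m ⊕ Fin m) K)⁻¹ : GL (Fin m ⊕ Fin m) K) : Matrix (Fin m ⊕ Fin m) (Fin m ⊕ Fin m) K) w) e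
      simp only [f, AddMonoidHom.mk'_apply, Matrix.mulVec_mulVec, hG, Units.inv_mul, Matrix.one_mulVec] at h1
      exact funext fun i => σ.injective (congrFun h1 i)
    refine ⟨f, hinj, fun c v => ⟨σ c, ?_⟩, fun x hx h => hx (hinj (by rw [h, map_zero])), fun x => ?_⟩
    · show G.mulVec (σ ∘ (c • v)) = σ c • G.mulVec (σ ∘ v)
      rw [← Matrix.mulVec_smul]
      exact congrArg _ (funext fun i => map_mul σ _ _)
    · refine ⟨symplecticEquiv m K (CfsgLib.Known.PSpSemi.spSemiHom g σ ((symplecticEquiv m K).symm x)),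
        ?_, fun v => ?_⟩
      · show QuotientGroup.mk' _ _ = _
        rw [MulEquiv.coe_toMonoidHom, MulEquiv.symm_apply_apply]
        exact (CfsgLib.Known.PSpSemi.pSemi_pr g σ _).symm
      · show (symplecticEquiv m K _ : (Fin m ⊕ Fin m → K) ≃ₗ[K] _) (G.mulVec (σ ∘ v)) = G.mulVec (σ ∘ _)
        rw [symplecticEquiv_apply, CfsgLib.Known.PSpSemi.coe_spSemiHom, CfsgLib.Known.PSpSemi.sMat, hG,
          Matrix.mulVec_mulVec, Matrix.mul_assoc, Units.inv_mul, Matrix.mul_one, ← Matrix.mulVec_mulVec,
          Subgroup.subtype_apply, ← symplecticEquiv_symm_mulVec]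
        exact congrArg _ (funext fun i => (RingHom.map_mulVec σ.toRingHom _ v i).symm)
  · obtain ⟨e, -, he0, he⟩ := exists_fixed_of_invariant (Sp (sympBil m K)).subtype hH
      (⊤ : Submodule K (Fin m ⊕ Fin m → K)) top_ne_bot fun _ _ _ _ => Submodule.mem_top
    exact ⟨e, he0, he⟩

end CfsgLib.HallGen.PMinimal
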