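import Cfsg.Agent.Lib.HallGen.SylowAut.Symp

/-!
The symplectic group of degree four in characteristic two has trivial centre.
-/

set_option autoImplicit false

namespace CfsgLib.HallGen.PMinimal

open Matrix CfsgLib.Classical CfsgLib.Known.PSpSemi

local notation "Bf" => Symp.sympBil

theorem center_Sp_two {F : Type*} [Field F] [Fintype F] [CharP F 2] :
    Subgroup.center (Matrix.symplecticGroup (Fin 2) F) = ⊥ := by
  refine eq_bot_iff.2 fun z hz => ?_
  obtain ⟨c, hc⟩ := (mem_center_iff (by omega) z).1 hz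
  have h1 := sp_form z (eJ (0 : Fin 2)) (eI 0)
  simp only [hc, smul_mulVec, one_mulVec, map_smul, LinearMap.smul_apply, smul_eq_mul] at h1
  rw [show Bf 2 F (eJ (0 : Fin 2)) (eI 0) = 1 from form_eJ0_eI0 (by omega), mul_one, ← sq] at h1
  rw [Subgroup.mem_bot]
  refine Subtype.ext ?_
  rw [hc, CharTwo.sq_injective (h1.trans (one_pow 2).symm), one_smul]
  rfl

end CfsgLib.HallGen.PMinimal
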