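import Cfsg.Agent.Lib.HallGen.PMinimal.Basic
import Cfsg.Agent.Lib.HallGen.Overgroup.TitsTwo

/-!
The two parabolic subgroups of the Tits group are invariant and generate.
-/

set_option autoImplicit false

namespace CfsgLib.HallGen.PMinimal

open Cfsg.Lie
open CfsgLib.Lie.Chev CfsgLib.Lie.TitsEval CfsgLib.Lie.Chev.TwGroups CfsgLib.Lie.Tits
open scoped Pointwise

attribute [local irreducible] chevF4 ChevalleyDatum.group

theorem tits_words : (eqW [17, 2, 17, 2, 17, 2, 17, 2, 17, 2] [] && !par [17, 2] &&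
    decide (simpleCls 0 = [0]) && !Nat.beq (tr 1 0) 0 && (par [2] == false)) = true := by decide +kernel

section Model

variable {G : Type*} [Group G] (M : CfsgLib.Lie.Tits.Model G) (χ : G →* Multiplicative (ZMod 2))

/-- Two cells. -/
def twoCells (s : ℕ) : Set G :=
  {g | g ∈ M.Bsub ∨ ∃ b ∈ M.Bsub, ∃ b' ∈ M.Bsub, g = b * M.ev [16 + s] * b'}

theorem twoCells_mul {s : ℕ} (hs : s < 2) {g h : G} (hg : g ∈ twoCells M s) (hh : h ∈ twoCells M s) :
    g * h ∈ twoCells M s := by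
  have key : ∀ b ∈ M.Bsub, M.ev [16 + s] * b * M.ev [16 + s] ∈ twoCells M s := by
    intro b hb
    have hn := inv_eq_of_mul_eq_one_right (M.nW_sq hs)
    rcases M.Bsub_split hs hb with hr | ⟨r, hr, x, hx, rfl⟩
    · refine Or.inl ?_
      have h1 := M.nW_conj_rad hs hr
      rwa [hn] at h1
    · obtain ⟨y, hy, z, hz, e⟩ := M.rk_spec hs hx
      have h1 := M.nW_conj_rad hs hr
      refine Or.inr ⟨_, mul_mem h1 (M.mem_Bsub_of_lt (CfsgLib.Lie.Tits.Model.simpleCls_lt hs y hy)), _,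
        M.mem_Bsub_of_lt (CfsgLib.Lie.Tits.Model.simpleCls_lt hs z hz), ?_⟩
      calc M.ev [16 + s] * (r * M.ev [x]) * M.ev [16 + s]
          = M.ev [16 + s] * r * (M.ev [16 + s])⁻¹ * (M.ev [16 + s] * M.ev [x] * M.ev [16 + s]) := by group
        _ = _ := by rw [e]; group
  rcases hg with hg | ⟨b, hb, b', hb', rfl⟩ <;> rcases hh with hh | ⟨c, hc, c', hc', rfl⟩
  · exact Or.inl (mul_mem hg hh)
  · exact Or.inr ⟨g * c, mul_mem hg hc, c', hc', by group⟩
  · exact Or.inr ⟨b, hb, b' * h, mul_mem hb' hh, by group⟩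
  · rcases key _ (mul_mem hb' hc) with h | ⟨d, hd, d', hd', e⟩
    · refine Or.inl ?_
      rw [show b * M.ev [16 + s] * b' * (c * M.ev [16 + s] * c') =
        b * (M.ev [16 + s] * (b' * c) * M.ev [16 + s]) * c' by group]
      exact mul_mem (mul_mem hb h) hc'
    · refine Or.inr ⟨b * d, mul_mem hb hd, d' * c', mul_mem hd' hc', ?_⟩
      calc b * M.ev [16 + s] * b' * (c * M.ev [16 + s] * c')
          = b * (M.ev [16 + s] * (b' * c) * M.ev [16 + s]) * c' := by group
        _ = _ := by rw [e]; group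

/-- The parabolic subgroup of a node, inside the kernel. -/
def paraSub {s : ℕ} (hs : s < 2) : Subgroup ↥χ.ker where
  carrier := {g | (g : G) ∈ twoCells M s}
  one_mem' := Or.inl (one_mem M.Bsub)
  mul_mem' ha hb := twoCells_mul M hs ha hb
  inv_mem' {a} ha := by
    rcases ha with ha | ⟨b, hb, b', hb', e⟩
    · exact Or.inl (inv_mem ha)
    · refine Or.inr ⟨b'⁻¹, inv_mem hb', b⁻¹, inv_mem hb, ?_⟩
      rw [Subgroup.coe_inv, e, mul_inv_rev, mul_inv_rev, inv_eq_of_mul_eq_one_right (M.nW_sq hs)]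
      group

theorem mem_paraSub {s : ℕ} (hs : s < 2) {g : ↥χ.ker} : g ∈ paraSub M χ hs ↔ (g : G) ∈ twoCells M s := Iff.rfl

variable [Finite G]

theorem paraSub_ne_top {s : ℕ} (hs : s < 2) (hB : Nat.card M.Bsub = 2 ^ 12)
    (hG : Nat.card χ.ker = 17971200) : paraSub M χ hs ≠ ⊤ := by
  intro h
  haveI : Fintype G := Fintype.ofFinite G
  have hinj : (Set.univ : Set ↥χ.ker).ncard ≤ (twoCells M s).ncard :=
    Set.ncard_le_ncard_of_injOn (fun g => (g : G)) (fun g _ => (mem_paraSub M χ hs).1 (h ▸ Subgroup.mem_top g))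
      (fun a _ b _ e => Subtype.ext e) (Set.toFinite _)
  rw [Set.ncard_univ, hG] at hinj
  have hsub : twoCells M s ⊆ (M.Bsub : Set G) ∪
      (fun x : G × G => x.1 * M.ev [16 + s] * x.2) '' ((M.Bsub : Set G) ×ˢ (M.Bsub : Set G)) := by
    rintro g (hg | ⟨b, hb, b', hb', rfl⟩)
    · exact Or.inl hg
    · exact Or.inr ⟨(b, b'), ⟨hb, hb'⟩, rfl⟩
  have h2 := ((Set.ncard_le_ncard hsub (Set.toFinite _)).trans (Set.ncard_union_le _ _)).trans
    (Nat.add_le_add_left (Set.ncard_image_le (Set.toFinite _)) _)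
  rw [Set.ncard_prod, show (M.Bsub : Set G).ncard = 2 ^ 12 from (Nat.card_coe_set_eq _).symm.trans hB] at h2
  omega

variable (hχ : ∀ w, χ (M.ev w) = Multiplicative.ofAdd (b2z (par w)))
include hχ

omit [Finite G] in
theorem nW_mem {s : ℕ} (hs : s < 2) :
    (⟨M.ev [16 + s], MonoidHom.mem_ker.2 (M.nW_even χ hχ hs)⟩ : ↥χ.ker) ∈ paraSub M χ hs :=
  Or.inr ⟨1, one_mem _, 1, one_mem _, by simp⟩

theorem card_paraSub_zero (hU : Nat.card (M.evenU χ) = 2 ^ 11) :
    Nat.card (paraSub M χ (s := 0) (by norm_num)) ≤ 3 * 2 ^ 11 := by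
  classical
  have hs : (0 : ℕ) < 2 := by norm_num
  obtain ⟨h1, h2⟩ := CfsgLib.Lie.Tits.Model.split_ok hs
  have hw := tits_words
  simp only [Bool.and_eq_true, decide_eq_true_iff] at hw
  obtain ⟨L, hL⟩ : ∃ L : List G, L = 1 :: M.ev [16 + 0] ::
      (simpleCls 0).map fun x => M.ev [x] * M.ev [16 + 0] * M.ev [x] := ⟨_, rfl⟩
  have hcov : ((paraSub M χ hs).map χ.ker.subtype : Set G) ⊆ ⋃ r ∈ L.toFinset, r • (M.evenU χ : Set G) := by
    rintro _ ⟨⟨g, hgk⟩, hg, rfl⟩
    have hgχ : χ g = 1 := hgk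
    simp only [Set.mem_iUnion, List.mem_toFinset, exists_prop, mem_leftCoset_iff, SetLike.mem_coe]
    rcases hg with hgB | ⟨b, hb, b', hb', rfl⟩
    · exact ⟨1, by simp [hL], by simpa using M.mem_evenU χ hgB hgχ⟩
    have hn2 := inv_eq_of_mul_eq_one_right (M.nW_sq hs)
    rcases M.mem_split h1 (M.clos_mono (fun j hj => h2 j (List.mem_range.1 hj)) hb) with hr | ⟨x, hx, r, hr, rfl⟩
    · refine ⟨M.ev [16 + 0], by simp [hL], M.mem_evenU χ ?_ ?_⟩
      · have h4 := M.nW_conj_rad hs hr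
        rw [hn2] at h4
        rw [hn2]
        show M.ev [16 + 0] * (b * M.ev [16 + 0] * b') ∈ M.Bsub
        rw [show M.ev [16 + 0] * (b * M.ev [16 + 0] * b') = M.ev [16 + 0] * b * M.ev [16 + 0] * b' by group]
        exact mul_mem h4 hb'
      · rw [map_mul, map_inv]
        show (χ (M.ev [16 + 0]))⁻¹ * χ (b * M.ev [16 + 0] * b') = 1
        rw [hgχ, M.nW_even χ hχ hs, inv_one, one_mul]
    · refine ⟨_, by simp only [hL, List.mem_cons, List.mem_map]; exact Or.inr (Or.inr ⟨x, hx, rfl⟩),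
        M.mem_evenU χ ?_ ?_⟩
      · have h4 := M.nW_conj_rad hs hr
        rw [hn2] at h4
        have hxB := M.mem_Bsub_of_lt (CfsgLib.Lie.Tits.Model.simpleCls_lt hs x hx)
        show (M.ev [x] * M.ev [16 + 0] * M.ev [x])⁻¹ * (M.ev [x] * r * M.ev [16 + 0] * b') ∈ M.Bsub
        rw [mul_inv_rev, mul_inv_rev, hn2, show (M.ev [x])⁻¹ * (M.ev [16 + 0] * (M.ev [x])⁻¹) *
            (M.ev [x] * r * M.ev [16 + 0] * b') = (M.ev [x])⁻¹ * (M.ev [16 + 0] * r * M.ev [16 + 0]) * b' by group]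
        exact mul_mem (mul_mem (inv_mem hxB) h4) hb'
      · rw [map_mul, map_inv]
        show (χ (M.ev [x] * M.ev [16 + 0] * M.ev [x]))⁻¹ * χ (M.ev [x] * r * M.ev [16 + 0] * b') = 1
        rw [hgχ, map_mul, map_mul, M.nW_even χ hχ hs, mul_one, mul_one, inv_eq_one, ← sq]
        exact (by decide : ∀ a : Multiplicative (ZMod 2), a ^ 2 = 1) _
  have hlen : L.toFinset.card ≤ 3 := by
    refine (List.toFinset_card_le L).trans ?_
    rw [hL, hw.1.1.2]
    simp
  calc Nat.card ↥(paraSub M χ hs) = Set.ncard ((paraSub M χ hs).map χ.ker.subtype : Set G) := by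
        rw [← Subgroup.card_map_of_injective χ.ker.subtype_injective]
        exact Nat.card_coe_set_eq _
    _ ≤ Set.ncard (⋃ r ∈ L.toFinset, r • (M.evenU χ : Set G)) := Set.ncard_le_ncard hcov (Set.toFinite _)
    _ ≤ ∑ r ∈ L.toFinset, Set.ncard (r • (M.evenU χ : Set G)) := Finset.set_ncard_biUnion_le _ _
    _ = L.toFinset.card * Nat.card ↥(M.evenU χ) := by
        rw [Finset.sum_const_nat fun r _ => (Set.ncard_smul_set r _).trans (Nat.card_coe_set_eq _).symm]
        rfl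
    _ ≤ 3 * 2 ^ 11 := by rw [hU]; exact Nat.mul_le_mul_right _ hlen

theorem split_model [IsSimpleGroup ↥χ.ker] (htop : M.Gam = ⊤) (hB : Nat.card M.Bsub = 2 ^ 12)
    (hU : Nat.card (M.evenU χ) = 2 ^ 11) (hG : Nat.card χ.ker = 17971200) (h17 : M.ev [17, 2] ≠ 1) :
    Split 2 ↥χ.ker := by
  haveI : Fact (Nat.Prime 2) := ⟨Nat.prime_two⟩
  haveI : Fact (Nat.Prime 5) := ⟨by norm_num⟩
  obtain ⟨T, hT⟩ : ∃ T : Subgroup ↥χ.ker, T = (M.evenU χ).subgroupOf χ.ker := ⟨_, rfl⟩
  have hcardT : Nat.card T = 2 ^ 11 := by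
    rw [hT]
    exact (Nat.card_congr (Subgroup.subgroupOfEquivOfLe (H := M.evenU χ) (K := χ.ker)
      inf_le_right).toEquiv).trans hU
  have hTi : ¬ 2 ∣ T.index := by
    have h := T.card_mul_index
    rw [hcardT, hG] at h
    omega
  have hw := tits_words
  simp only [Bool.and_eq_true, beq_iff_eq, Bool.not_eq_true'] at hw
  have hTP : ∀ {s : ℕ} (hs : s < 2), T ≤ paraSub M χ hs := fun hs g hg => by
    rw [hT] at hg
    exact Or.inl (Subgroup.mem_inf.1 hg).1
  obtain ⟨n0, hn0⟩ : ∃ n0 : ↥χ.ker, n0 = ⟨M.ev [16], MonoidHom.mem_ker.2 (M.nW_even χ hχ (s := 0) (by norm_num))⟩ :=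
    ⟨_, rfl⟩
  obtain ⟨n1, hn1⟩ : ∃ n1 : ↥χ.ker, n1 = ⟨M.ev [17], MonoidHom.mem_ker.2 (M.nW_even χ hχ (s := 1) (by norm_num))⟩ :=
    ⟨_, rfl⟩
  have hn0P : n0 ∈ paraSub M χ (s := 0) (by norm_num) := hn0 ▸ nW_mem M χ hχ (s := 0) (by norm_num)
  have hn1P : n1 ∈ paraSub M χ (s := 1) (by norm_num) := hn1 ▸ nW_mem M χ hχ (s := 1) (by norm_num)
  -- both Weyl elements generate
  have hboth : ∀ Y : Subgroup ↥χ.ker, T ≤ Y → n0 ∈ Y → n1 ∈ Y → Y = ⊤ := by
    intro Y hY h0 h1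
    have hle : M.evenU χ ≤ Y.map χ.ker.subtype := fun x hx =>
      ⟨⟨x, (Subgroup.mem_inf.1 hx).2⟩, hY (hT ▸ hx), rfl⟩
    have h := M.over_top χ hχ hle (Subgroup.map_subtype_le Y) htop ⟨n0, h0, by rw [hn0]; rfl⟩ ⟨n1, h1, by rw [hn1]; rfl⟩
    refine eq_top_iff.2 fun x _ => ?_
    obtain ⟨y, hy, e⟩ := h x.2
    exact (Subtype.ext e : y = x) ▸ hy
  have hmax : ∀ Y : Subgroup ↥χ.ker, T ≤ Y → Y ≠ ⊤ →
      Y ≤ paraSub M χ (s := 0) (by norm_num) ∨ Y ≤ paraSub M χ (s := 1) (by norm_num) := by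
    intro Y hY hne
    have hle : M.evenU χ ≤ Y.map χ.ker.subtype := fun x hx =>
      ⟨⟨x, (Subgroup.mem_inf.1 hx).2⟩, hY (hT ▸ hx), rfl⟩
    have hne' : ¬ χ.ker ≤ Y.map χ.ker.subtype := fun h => hne (eq_top_iff.2 fun x _ => by
      obtain ⟨y, hy, e⟩ := h x.2
      exact (Subtype.ext e : y = x) ▸ hy)
    obtain ⟨s, hs, hcell⟩ := M.over_cells χ hχ hle (Subgroup.map_subtype_le Y) htop hne'
    interval_cases s
    · exact Or.inl fun g hg => hcell _ ⟨g, hg, rfl⟩
    · exact Or.inr fun g hg => hcell _ ⟨g, hg, rfl⟩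
  have hp2 : χ (M.ev [17, 2]) = 1 := M.χ_even χ hχ hw.1.1.1.2
  have h5 : 5 ∣ Nat.card (paraSub M χ (s := 1) (by norm_num)) := by
    obtain ⟨y, hy⟩ : ∃ y : ↥χ.ker, y = ⟨M.ev [17, 2], MonoidHom.mem_ker.2 hp2⟩ := ⟨_, rfl⟩
    have hyP : y ∈ paraSub M χ (s := 1) (by norm_num) := by
      rw [hy]
      exact Or.inr ⟨1, one_mem _, M.ev [2], M.mem_Bsub_of_lt (by norm_num), by rw [one_mul, ← M.ev_append]; rfl⟩
    have ho : orderOf y = 5 := orderOf_eq_prime (Subtype.ext (by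
      rw [hy]
      show M.ev [17, 2] ^ 5 = 1
      rw [pow_succ, pow_succ, pow_succ, pow_succ, pow_one, ← M.ev_append, ← M.ev_append, ← M.ev_append, ← M.ev_append]
      exact (M.ev_eq hw.1.1.1.1).trans M.ev_nil)) fun h => h17 (by rw [hy] at h; exact congrArg Subtype.val h)
    exact ho ▸ Subgroup.orderOf_dvd_natCard _ hyP
  have h05 : ¬ 5 ∣ Nat.card (paraSub M χ (s := 0) (by norm_num)) := by
    intro hd
    have h1 := card_paraSub_zero M χ hχ hU
    obtain ⟨k, hk⟩ := Subgroup.card_dvd_of_le (hTP (s := 0) (by norm_num))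
    rw [hcardT] at hk
    rw [hk] at hd h1
    rcases (Fact.out : Nat.Prime 5).dvd_mul.1 hd with h | h
    · norm_num at h
    · obtain ⟨j, rfl⟩ := h
      have : 0 < Nat.card (paraSub M χ (s := 0) (by norm_num)) := Nat.card_pos
      omega
  refine ⟨(IsPGroup.of_card hcardT).toSylow hTi, ?_,
    {paraSub M χ (s := 0) (by norm_num), paraSub M χ (s := 1) (by norm_num)}, ?_, ?_⟩
  · show Subgroup.normalizer (T : Set ↥χ.ker) ≠ ⊤
    intro h
    haveI hN : T.Normal := Subgroup.normalizer_eq_top_iff.1 h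
    rcases hN.eq_bot_or_eq_top with h1 | h1
    · rw [h1, Subgroup.card_bot] at hcardT
      norm_num at hcardT
    · rw [h1, Subgroup.card_top, hG] at hcardT
      norm_num at hcardT
  · have hmove : ∀ α : MulAut ↥χ.ker, T.map α.toMonoidHom = T →
        (paraSub M χ (s := 1) (by norm_num)).map α.toMonoidHom = paraSub M χ (s := 1) (by norm_num) := by
      intro α hα
      have hc := Nat.card_congr ((paraSub M χ (s := 1) (by norm_num)).equivMapOfInjective α.toMonoidHom α.injective).toEquiv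
      rcases hmax _ (hα ▸ Subgroup.map_mono (hTP (s := 1) (by norm_num)))
          (fun e => paraSub_ne_top M χ (s := 1) (by norm_num) hB hG ((map_eq_top_iff α).1 e)) with h | h
      · exact absurd ((hc ▸ h5).trans (Subgroup.card_dvd_of_le h)) h05
      · exact Subgroup.eq_of_le_of_card_ge h hc.le
    rintro Y (rfl | rfl)
    · refine ⟨hTP (s := 0) (by norm_num), paraSub_ne_top M χ _ hB hG, fun α _ hα => ?_⟩
      have hc := Nat.card_congr ((paraSub M χ (s := 0) (by norm_num)).equivMapOfInjective α.toMonoidHom α.injective).toEquiv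
      rcases hmax _ (hα ▸ Subgroup.map_mono (hTP (s := 0) (by norm_num)))
          (fun e => paraSub_ne_top M χ (s := 0) (by norm_num) hB hG ((map_eq_top_iff α).1 e)) with h | h
      · exact Subgroup.eq_of_le_of_card_ge h hc.le
      · exfalso
        refine paraSub_ne_top M χ (s := 1) (by norm_num) hB hG (hboth _ (hTP _) ?_ hn1P)
        have h2 : paraSub M χ (s := 0) (by norm_num) ≤ paraSub M χ (s := 1) (by norm_num) :=
          (Subgroup.map_le_map_iff_of_injective α.injective).1 (h.trans (hmove α hα).ge)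
        exact h2 hn0P
    · exact ⟨hTP (s := 1) (by norm_num), paraSub_ne_top M χ _ hB hG, fun α _ hα => hmove α hα⟩
  · rw [sSup_pair]
    exact hboth _ ((hTP (s := 0) (by norm_num)).trans le_sup_left) (Subgroup.mem_sup_left hn0P)
      (Subgroup.mem_sup_right hn1P)

end Model

theorem split_tits_kernel [Finite split0.Gp] : Split 2 ↥split0.χ.ker := by
  obtain ⟨h1, hs, -, h4⟩ := split0.simple card_BG card_Gp core_BG
  rw [split0.derived.1] at h1 hs h4
  haveI := hs
  obtain ⟨M, hM⟩ : ∃ M, M = split0.mG := ⟨_, rfl⟩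
  let χ := split0.χ
  have hχ : ∀ w, χ (M.ev w) = Multiplicative.ofAdd (b2z (par w)) := fun w => by
    rw [hM, split0.χ_ev]
    show (model0.ev w).2 = _
    rw [ev0]
  have hB : Nat.card M.Bsub = 2 ^ 12 := by rw [hM]; exact card_BG
  have hU : Nat.card ↥(M.evenU χ) = 2 ^ 11 := by
    have e2 : (χ.ker.subgroupOf M.Bsub).index = 2 := by
      refine le_antisymm ?_ ?_
      · refine Nat.le_of_dvd two_pos ?_
        have := Subgroup.relIndex_dvd_index_of_normal χ.ker M.Bsub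
        rwa [h1] at this
      · refine (Nat.two_le_iff _).2 ⟨Subgroup.index_ne_zero_of_finite, fun e => ?_⟩
        have hle : M.Bsub ≤ χ.ker := Subgroup.subgroupOf_eq_top.1 (Subgroup.index_eq_one.1 e)
        exact M.χ_odd χ hχ (w := [1]) (by decide +kernel) (hle (M.mem_Bsub_of_lt (by norm_num)))
    have e3 := (χ.ker.subgroupOf M.Bsub).card_mul_index
    rw [hB, e2] at e3
    have e4 : Nat.card ↥(χ.ker.subgroupOf M.Bsub) = Nat.card ↥(M.evenU χ) := by
      rw [← Subgroup.inf_subgroupOf_left, Nat.card_congr (Subgroup.subgroupOfEquivOfLe inf_le_left).toEquiv]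
      rfl
    rw [← e4]
    omega
  refine split_model M χ hχ (hM ▸ split0.mG_top) hB hU h4 fun h17 => ?_
  -- the Weyl element is outside the unipotent group
  have hmem : M.ev [17] ∈ M.Bsub := by
    rw [M.ev_cons] at h17
    rw [eq_inv_of_mul_eq_one_left h17]
    exact inv_mem (M.mem_Bsub_of_lt (by norm_num))
  have ho := over_ok.1
  simp only [List.all_eq_true, List.mem_range, Bool.and_eq_true] at ho
  obtain ⟨⟨⟨-, he⟩, -⟩, -⟩ := ho 1 (by norm_num)
  obtain ⟨ht, -, -⟩ := CfsgLib.Lie.Tits.Model.trans_spec M (s := 1) (i := 0) (by norm_num) (by norm_num)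
  have hne : tr 1 0 ≠ 0 := by
    have hw := tits_words
    simp only [Bool.and_eq_true, Bool.not_eq_true'] at hw
    intro h
    simp [h] at hw
  obtain ⟨i, hi⟩ : ∃ i, tr 1 0 = i + 1 := ⟨tr 1 0 - 1, by omega⟩
  rw [hM] at hmem
  have h6 := split0.Bsub_mem_iff.1 hmem
  refine split0.hN i (by omega) ?_
  rw [split0.mG_val] at h6
  rw [← hi, split0.toModel.ev_eq he]
  exact h6

theorem split_tits {G : Type*} [Group G] [Finite G] (e : G ≃* TitsGroup) : Split 2 G := by
  haveI := finite_Gp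
  haveI : Fact (Nat.Prime 2) := ⟨Nat.prime_two⟩
  let f : ↥split0.χ.ker ≃* TitsGroup :=
    (MulEquiv.subgroupCongr split0.derived.1.symm).trans
      (((commutator split0.Gp).equivMapOfInjective toTw.toMonoidHom toTw.injective).trans
        (MulEquiv.subgroupCongr (map_commutator_equiv toTw)))
  exact split_tits_kernel.of_equiv (f.trans e.symm)

end CfsgLib.HallGen.PMinimal
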