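import Cfsg.Agent.Lib.HallGen.PMinimal.Exceptional
import Cfsg.Agent.Lib.HallGen.Overgroup.Twisted

/-!
Parabolic subgroups of the twisted groups invariant under the automorphisms normalising a Sylow subgroup.
-/

set_option autoImplicit false

namespace CfsgLib.HallGen.PMinimal

open CfsgLib.Lie.Chev CfsgLib.Lie.Chev.TwGroups CfsgLib.Blocks.DefectLie
open Cfsg.Lie (ChevalleyDatum)

section General

variable {D : ChevalleyDatum} {X : Aux} {F : Type*} [Field F] {G : Type*} [Group G] {R : Rel D X F G}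
  (T : TwG R)

/-- The unipotent group is a Sylow subgroup. -/
theorem sylow_U1 [Finite F] [Finite G] {p : ℕ} [Fact p.Prime] [CharP F p] {c d e0 : ℕ}
    (hd : 0 < d) (hcc : T.ClassCard c d) (hc2 : ∃ j, 1 ≤ j ∧ c = p ^ j) {l : List ℤ}
    (hl : ¬ (p : ℤ) ∣ l.headD 0)
    (hcard : (Nat.card ↥T.P1 : ℤ) = (c : ℤ) ^ e0 * (Nat.card ↥(T.P1 ⊓ R.HS) : ℤ) * horner (c : ℤ) l)
    (he0 : half D = d * e0) : IsPGroup p T.U1 ∧ ¬ p ∣ T.U1.index := by
  haveI : Fintype F := Fintype.ofFinite F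
  have hp : p.Prime := Fact.out
  obtain ⟨j, hj, rfl⟩ := hc2
  obtain ⟨e, he, hU⟩ := T.card_U1 hd hcc
  obtain rfl : e0 = e := Nat.eq_of_mul_eq_mul_left hd (he0.symm.trans he)
  have hUc : Nat.card ↥T.U1 = p ^ (j * e0) := by
    rw [show T.U1 = (T.P1 ⊓ R.UP).subgroupOf T.P1 by
        rw [inf_comm, Subgroup.inf_subgroupOf_right]; rfl,
      Nat.card_congr (Subgroup.subgroupOfEquivOfLe inf_le_left).toEquiv, hU, pow_mul]
  refine ⟨IsPGroup.of_card hUc, ?_⟩
  have h1 : (Nat.card ↥T.U1 : ℤ) * (T.U1.index : ℤ) = (Nat.card ↥T.U1 : ℤ) *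
      ((Nat.card ↥(T.P1 ⊓ R.HS) : ℤ) * horner ((p ^ j : ℕ) : ℤ) l) := by
    rw [← Nat.cast_mul, T.U1.card_mul_index, hcard, hUc]
    push_cast
    rw [← pow_mul]
    ring
  have h2 := mul_left_cancel₀ (Int.natCast_ne_zero.2 Nat.card_pos.ne') h1
  intro hdvd
  have h3 : (p : ℤ) ∣ (T.U1.index : ℤ) := by exact_mod_cast hdvd
  rw [h2] at h3
  rcases (Nat.prime_iff_prime_int.1 hp).dvd_or_dvd h3 with h4 | h4
  · have h5 : p ∣ Nat.card ↥(T.P1 ⊓ R.HS) := by exact_mod_cast h4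
    have h6 := (h5.trans (Subgroup.card_dvd_of_le inf_le_right)).trans
      (Subgroup.card_dvd_of_surjective _ R.torusHom_surjective)
    rw [Nat.card_fun, Nat.card_units, Nat.card_eq_fintype_card (α := F)] at h6
    have h7 := hp.dvd_of_dvd_pow h6
    obtain ⟨n, -, hn⟩ := FiniteField.card F p
    have h8 : p ∣ Fintype.card F := hn ▸ dvd_pow_self p n.ne_zero
    have h9 := Nat.dvd_sub h8 h7
    rw [Nat.sub_sub_self Fintype.card_pos] at h9
    exact hp.not_dvd_one h9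
  · rcases l with _ | ⟨a, l⟩
    · simp at hl
    rw [horner] at h4
    refine hl ((Int.dvd_add_left ?_).1 h4)
    exact Dvd.dvd.mul_right (by exact_mod_cast dvd_pow_self p (show j ≠ 0 by omega)) _

/-- A twisted group with one orbit. -/
theorem rankOne_twG [Finite G] {p : ℕ} [Fact p.Prime] (hUp : IsPGroup p T.U1) (hidx : ¬ p ∣ T.U1.index)
    (hk : T.κ = 1) : RankOne p T.P1 := by
  refine rankOne_of_bnPair T.bnPair1 (hUp.toSylow hidx) (normalizer_U1 T) (s := T.sJ ⟨0, by omega⟩) ?_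
  refine Set.eq_singleton_iff_unique_mem.2 ⟨⟨_, rfl⟩, ?_⟩
  rintro _ ⟨k, rfl⟩
  exact congrArg T.sJ (Fin.ext (by omega))

end General

variable {K : Type} [Field K] [Fintype K]

theorem split_twE6 {p q : ℕ} [Fact p.Prime] [CharP K p] (hq : IsPrimePow q) (hK : Fintype.card K = q ^ 2) :
    Split p ↥(Cfsg.Lie.twistedE6 K q) := by
  haveI := (chevRel certE6 K).Finite_of_field
  refine Split.of_equiv ?_ ((MulEquiv.subgroupCongr (twE6_P1 hq hK)).trans
    (Subgroup.subgroupOfEquivOfLe twE6_le))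
  obtain ⟨hU, hi⟩ := sylow_U1 (twE6 hq hK) (p := p) one_pos (classCardE6 hq hK)
    (exists_pow_of_card hq hK two_ne_zero) (l := layerPoly layersTE6) (headD_E6 ▸ not_dvd_one_int)
    ((twE6 hq hK).card_P1_enum (orbListE6 hq hK) rfl wordsTE6_ok enumTE6_ok one_pos (classCardE6 hq hK)
      (show half Cfsg.Lie.chevE6 = 1 * 36 by decide +kernel))
    (show half Cfsg.Lie.chevE6 = 1 * 36 by decide +kernel)
  exact split_twG (twE6 hq hK) hU hi (fun φ hφ k => CfsgLib.Known.TwistAut.E6.VK_fixed hq hK hφ k)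
    (show 2 ≤ 4 by norm_num)

theorem split_twD4 {p q : ℕ} [Fact p.Prime] [CharP K p] (hq : IsPrimePow q) (hK : Fintype.card K = q ^ 3) :
    Split p ↥(Cfsg.Lie.twistedD4 K q) := by
  haveI := (chevRel certD4 K).Finite_of_field
  refine Split.of_equiv ?_ ((MulEquiv.subgroupCongr (twD4_P1 hq hK)).trans
    (Subgroup.subgroupOfEquivOfLe twD4_le))
  obtain ⟨hU, hi⟩ := sylow_U1 (twD4 hq hK) (p := p) one_pos (classCardD4 hq hK)
    (exists_pow_of_card hq hK three_ne_zero) (l := layerPoly layersTD4) (headD_D4 ▸ not_dvd_one_int)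
    ((twD4 hq hK).card_P1_enum (orbListD4 hq hK) rfl wordsTD4_ok enumTD4_ok one_pos (classCardD4 hq hK)
      (show half Cfsg.Lie.chevD4 = 1 * 12 by decide +kernel))
    (show half Cfsg.Lie.chevD4 = 1 * 12 by decide +kernel)
  exact split_twG (twD4 hq hK) hU hi (fun φ hφ k => CfsgLib.Known.TwistAut.D4.VK_fixed hq hK hφ k)
    (show 2 ≤ 2 by norm_num)

theorem split_twF4 {m : ℕ} [Fact (Nat.Prime 2)] (hK : Fintype.card K = 2 ^ (2 * m + 1)) :
    Split 2 ↥(Cfsg.Lie.twistedF4 K (2 ^ m)) := by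
  haveI := charF4 hK
  haveI := (chevRel certF4 K).Finite_of_field
  refine Split.of_equiv ?_ ((MulEquiv.subgroupCongr (twF4_P1 hK)).trans
    (Subgroup.subgroupOfEquivOfLe twF4_le))
  obtain ⟨hU, hi⟩ := sylow_U1 (twF4 hK) (p := 2) two_pos (classCardF4 hK) ⟨2 * m + 1, by omega, rfl⟩
    (l := layerPoly layersTF4) (headD_F4 ▸ not_dvd_one_int)
    ((twF4 hK).card_P1_enum (orbListF4 hK) rfl wordsTF4_ok enumTF4_ok two_pos (classCardF4 hK)
      (show half Cfsg.Lie.chevF4 = 2 * 12 by decide +kernel))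
    (show half Cfsg.Lie.chevF4 = 2 * 12 by decide +kernel)
  exact split_twG (twF4 hK) hU hi (fun φ hφ k => CfsgLib.Known.TwistAut.F4.VK_fixed hK hφ k)
    (show 2 ≤ 2 by norm_num)

theorem rankOne_Ree {m : ℕ} [Fact (Nat.Prime 3)] (hK : Fintype.card K = 3 ^ (2 * m + 1)) :
    RankOne 3 ↥(Cfsg.Lie.twistedG2 K (3 ^ m)) := by
  haveI := charG2 hK
  haveI := (chevRel certG2 K).Finite_of_field
  refine RankOne.of_equiv ?_ ((MulEquiv.subgroupCongr (twG2_P1 hK)).trans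
    (Subgroup.subgroupOfEquivOfLe twG2_le))
  obtain ⟨hU, hi⟩ := sylow_U1 (twG2 hK) (p := 3) two_pos (classCardG2 hK) ⟨2 * m + 1, by omega, rfl⟩
    (l := layerPoly layersTG2) (headD_G2 ▸ not_dvd_one_int)
    ((twG2 hK).card_P1_enum (orbListG2 hK) rfl wordsTG2_ok enumTG2_ok two_pos (classCardG2 hK)
      (show half Cfsg.Lie.chevG2 = 2 * 3 by decide +kernel))
    (show half Cfsg.Lie.chevG2 = 2 * 3 by decide +kernel)
  exact rankOne_twG (twG2 hK) hU hi rfl

end CfsgLib.HallGen.PMinimal
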