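import Cfsg.Agent.Lib.HallGen.PMinimal.FixedMod
import Cfsg.Agent.Lib.HallGen.Overgroup.Classical
import Cfsg.Agent.Lib.Known.AutPSU.TransMain

/-!
The unitary groups: rank one in dimension three, not minimal over a Sylow subgroup otherwise.
-/

set_option autoImplicit false

namespace CfsgLib.HallGen.PMinimal

open CfsgLib.HallGen.Overgroup CfsgLib.Blocks.DefectLie
open CfsgLib.Classical.Herm

section Geometry

variable {F : Type*} [Field F] [Finite F] {p : ℕ} [Fact p.Prime] [CharP F p]
  {V : Type*} [AddCommGroup V] [Module F V] [FiniteDimensional F V] [Nontrivial V]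
  {σ : F →+* F} {B : V →ₛₗ[σ] V →ₗ[F] F} (h : IsHerm B) [Finite (HSU B)]

omit [Fact p.Prime] [CharP F p] [Nontrivial V] [Finite (HSU B)] in
include h in
/-- Separation from a subspace in the first variable. -/
theorem herm_sep {W : Submodule F V} {v : V} (hv : v ∉ W) :
    ∃ a, B a v = 1 ∧ ∀ w ∈ W, B a w = 0 := by
  haveI : Finite V := Module.finite_of_finite F
  haveI : Finite (Module.Dual F V) := Module.finite_of_finite F
  obtain ⟨φ, hφv, hφW⟩ := Submodule.exists_le_ker_of_notMem hv
  have hinj : Function.Injective fun a => B a := fun a b e => sub_eq_zero.1 (h.nondeg _ fun y => by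
    have e' : B a y = B b y := LinearMap.congr_fun e y
    rw [map_sub, LinearMap.sub_apply, e', sub_self])
  obtain ⟨a, ha⟩ := (hinj.bijective_of_nat_card_le (le_of_eq (by
    rw [Module.natCard_eq_pow_finrank (K := F) (V := V),
      Module.natCard_eq_pow_finrank (K := F) (V := Module.Dual F V),
      Subspace.dual_finrank_eq]))).2 ((φ v)⁻¹ • φ)
  have ha' : ∀ w, B a w = (φ v)⁻¹ * φ w := fun w => LinearMap.congr_fun ha w
  exact ⟨a, by rw [ha', inv_mul_cancel₀ hφv], fun w hw => by
    rw [ha', LinearMap.mem_ker.1 (hφW hw), mul_zero]⟩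

include p in
/-- A transvection lies in the stabiliser of the flag of a totally isotropic set containing its centre. -/
theorem herm_tr_mem {S : Set V} (hperp : ∀ a ∈ S, ∀ b ∈ S, (hermGeom h).perp a b) {u : V} (hu : u ∈ S)
    (huu : B u u = 0) {θ : F} (hθ : θ + σ θ = 0) :
    ∃ g ∈ flagFix (suRep B) (Submodule.span F S) ((hermGeom h).orth S),
      ∀ x, suRep B g x = x + (θ * B u x) • u := by
  have hle : Submodule.span F S ≤ (hermGeom h).orth S := fun y hy a ha =>
    (hermGeom h).symm ((hermGeom h).span_le_orth hperp hy fun z hz => hperp z hz a ha)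
  have hO : ∀ z ∈ (hermGeom h).orth S, B u z = 0 := fun z hz => hz u hu
  have g1 : ∀ z ∈ Submodule.span F S, (h.tr huu hθ : V ≃ₗ[F] V) z = z := fun z hz =>
    h.tr_fix _ hθ (hO z (hle hz))
  have g2 : ∀ z ∈ (hermGeom h).orth S, (h.tr huu hθ : V ≃ₗ[F] V) z - z ∈ Submodule.span F S :=
    fun z hz => by rw [h.tr_fix _ hθ (hO z hz), sub_self]; exact Submodule.zero_mem _
  have g3 : ∀ z, (h.tr huu hθ : V ≃ₗ[F] V) z - z ∈ (hermGeom h).orth S := fun z => by
    rw [h.tr_apply, add_sub_cancel_left]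
    exact Submodule.smul_mem _ _ (hle (Submodule.subset_span hu))
  have hg : h.tr huu hθ ∈ HSU B := det_eq_one_of_flag p _ (fun z hz => sub_eq_zero.2 (g1 z hz)) g2 g3
  exact ⟨⟨_, hg⟩, mem_flagFix _ hle g1 g2 g3, fun x => h.tr_apply huu hθ x⟩

include p in
theorem fix_herm : ∀ H : Subgroup (HSU B), IsPGroup p H → H ≠ ⊥ →
    ∃ e ∈ (hermGeom h).sing, ∀ g ∈ H, suRep B g e = e := by
  intro H hH hne
  have hinv : ∀ g ∈ H, ∀ y ∈ h.orth (fixedSpace (suRep B) H), suRep B g y ∈ h.orth (fixedSpace (suRep B) H) :=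
    fun g hg y hy => h.mem_orth.2 fun u hu => by
      rw [← h.mem_orth.1 hy u hu]
      conv_lhs => rw [← hu g hg]
      exact (g : HU B).2 u y
  obtain ⟨e, he, he0, heW⟩ := exists_fixed_of_invariant (suRep B) hH _
    (fun hO => fixedSpace_ne_top (suRep B) suRep_injective hne (orth_orth h _ hO)) hinv
  exact ⟨e, ⟨he0, h.mem_orth.1 he e heW⟩, heW⟩

include p in
theorem htr_herm : ∀ {x v v'}, x ∈ (hermGeom h).sing → v ∈ (hermGeom h).sing →
    v' ∈ (hermGeom h).sing → ¬ (hermGeom h).perp x v → ¬ (hermGeom h).perp x v' →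
      ∃ g ∈ (hermGeom h).rootGp x, ∃ c : F, c ≠ 0 ∧ suRep B g v = c • v' := by
  intro x v v' hx hv0 hv0' hv hv'
  change ¬ B x v = 0 at hv
  change ¬ B x v' = 0 at hv'
  obtain ⟨c, hc⟩ : ∃ c, c = B x v / B x v' := ⟨_, rfl⟩
  obtain ⟨k, hk⟩ : ∃ k, k = B x v := ⟨_, rfl⟩
  have hk0 : k ≠ 0 := hk ▸ hv
  obtain ⟨w, hw⟩ : ∃ w, w = k⁻¹ • (c • v' - v) := ⟨_, rfl⟩
  have hxw : B x w = 0 := by
    rw [hw, smul_right, map_sub, smul_right, hc, div_mul_cancel₀ _ hv', sub_self, mul_zero]
  have hwx : B w x = 0 := h.eq_zero_symm hxw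
  have hxx : B x x = 0 := hx.2
  have hv'' : c • v' = v + k • w := by rw [hw, smul_inv_smul₀ hk0]; abel
  obtain ⟨t, ht⟩ : ∃ t, t = B w v / k := ⟨_, rfl⟩
  have ht2 : t + σ t = -B w w := by
    have e : B (c • v') (c • v') = 0 := by rw [smul_left, smul_right, hv0'.2]; ring
    rw [hv'', map_add, LinearMap.map_add, LinearMap.add_apply, LinearMap.add_apply, hv0.2,
      smul_left, smul_left, smul_right, smul_right] at e
    have hs : σ k ≠ 0 := by simpa using hk0
    rw [ht, map_div₀, h.symm]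
    field_simp
    linear_combination e
  have hpres : ∀ y z, B (eichMap B x w t y) (eichMap B x w t z) = B y z := by
    intro y z
    simp only [eichMap_apply, map_add, LinearMap.add_apply, smul_left, smul_right, hxx, hxw, hwx,
      map_mul, map_sub, h.symm, h.invol.invol]
    linear_combination (B x z * B y x) * ht2
  have hga : ∀ y, ((h.ofPreserves _ hpres : HU B) : V ≃ₗ[F] V) y =
      y + B x y • w + (t * B x y - B w y) • x := fun y => by
    rw [h.ofPreserves_apply, eichMap_apply]
  have hle : Submodule.span F {x} ≤ (hermGeom h).orth {x} :=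
    Submodule.span_le.2 fun y hy u hu => by rw [hy, hu]; exact hxx
  have g1 : ∀ z ∈ Submodule.span F {x}, ((h.ofPreserves _ hpres : HU B) : V ≃ₗ[F] V) z = z :=
    fun z hz => by
      obtain ⟨s, rfl⟩ := Submodule.mem_span_singleton.1 hz
      rw [hga, smul_right, smul_right, hxx, hwx]; simp
  have g2 : ∀ z ∈ (hermGeom h).orth {x},
      ((h.ofPreserves _ hpres : HU B) : V ≃ₗ[F] V) z - z ∈ Submodule.span F {x} := fun z hz => by
    rw [hga, show B x z = 0 from hz x rfl, zero_smul, add_zero, add_sub_cancel_left]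
    exact Submodule.smul_mem _ _ (Submodule.mem_span_singleton_self x)
  have g3 : ∀ z, ((h.ofPreserves _ hpres : HU B) : V ≃ₗ[F] V) z - z ∈ (hermGeom h).orth {x} :=
    fun z => by
      rw [hga, add_assoc, add_sub_cancel_left]
      exact Submodule.add_mem _ (Submodule.smul_mem _ _ fun u hu => by rw [hu]; exact hxw)
        (Submodule.smul_mem _ _ fun u hu => by rw [hu]; exact hxx)
  have hg : (h.ofPreserves _ hpres : HU B) ∈ HSU B :=
    det_eq_one_of_flag p _ (fun z hz => sub_eq_zero.2 (g1 z hz)) g2 g3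
  refine ⟨⟨_, hg⟩, mem_flagFix _ hle g1 g2 g3, c,
    fun e => hv (by rw [e, eq_comm, div_eq_zero_iff] at hc; exact hc.resolve_right hv'), ?_⟩
  show ((h.ofPreserves _ hpres : HU B) : V ≃ₗ[F] V) v = c • v'
  rw [hga, hv'', ← hk, ht, div_mul_cancel₀ _ hk0, sub_self, zero_smul, add_zero]

include p in
theorem sep_herm : Sep (hermGeom h) := by
  intro T u v _ hsing hperp huT hv0 hvW
  set S := insert u T
  set W := Submodule.span F S
  have huS : u ∈ S := Set.mem_insert u T
  have huu : B u u = 0 := (hsing u huS).2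
  have huW : u ∈ W := Submodule.subset_span huS
  by_cases huv : B u v = 0
  · obtain ⟨a, hav, haW⟩ := herm_sep h hvW
    have haa : σ (-B a a) = -B a a := by rw [map_neg, h.self_fixed]
    obtain ⟨t, ht⟩ := h.invol.exists_trace_eq haa
    have hau : B a u = 0 := haW u huW
    have hua : B u a = 0 := h.eq_zero_symm hau
    have hpres : ∀ y z, B (eichMap B u a t y) (eichMap B u a t z) = B y z := by
      intro y z
      simp only [eichMap_apply, map_add, LinearMap.add_apply, smul_left, smul_right, huu, hua, hau,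
        map_mul, map_sub, h.symm, h.invol.invol]
      linear_combination (B u z * B y u) * ht
    have hga : ∀ y, ((h.ofPreserves _ hpres : HU B) : V ≃ₗ[F] V) y =
        y + B u y • a + (t * B u y - B a y) • u := fun y => by
      rw [h.ofPreserves_apply, eichMap_apply]
    have hle : W ≤ (hermGeom h).orth S := fun y hy b hb =>
      (hermGeom h).symm ((hermGeom h).span_le_orth hperp hy fun z hz => hperp z hz b hb)
    have haO : a ∈ (hermGeom h).orth S := fun s hs => h.eq_zero_symm (haW s (Submodule.subset_span hs))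
    have g1 : ∀ z ∈ W, ((h.ofPreserves _ hpres : HU B) : V ≃ₗ[F] V) z = z := fun z hz => by
      rw [hga, haW z hz, show B u z = 0 from hle hz u huS]; simp
    have g2 : ∀ z ∈ (hermGeom h).orth S, ((h.ofPreserves _ hpres : HU B) : V ≃ₗ[F] V) z - z ∈ W :=
      fun z hz => by
        rw [hga, show B u z = 0 from hz u huS, zero_smul, add_zero, add_sub_cancel_left]
        exact Submodule.smul_mem _ _ huW
    have g3 : ∀ z, ((h.ofPreserves _ hpres : HU B) : V ≃ₗ[F] V) z - z ∈ (hermGeom h).orth S :=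
      fun z => by
        rw [hga, add_assoc, add_sub_cancel_left]
        exact Submodule.add_mem _ (Submodule.smul_mem _ _ haO) (Submodule.smul_mem _ _ (hle huW))
    have hg : (h.ofPreserves _ hpres : HU B) ∈ HSU B :=
      det_eq_one_of_flag p _ (fun z hz => sub_eq_zero.2 (g1 z hz)) g2 g3
    refine ⟨⟨_, hg⟩, mem_flagFix _ hle g1 g2 g3, fun h' => huT ?_⟩
    have h2 : ((h.ofPreserves _ hpres : HU B) : V ≃ₗ[F] V) v - v ∈ Submodule.span F T := h'
    rw [hga, huv, hav] at h2
    simpa using h2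
  · obtain ⟨θ, hθ0, hθ⟩ := h.exists_skew
    obtain ⟨g, hg, hga⟩ := herm_tr_mem (p := p) h hperp huS huu hθ
    refine ⟨g, hg, fun h' => huT ?_⟩
    rw [hga, add_sub_cancel_left] at h'
    have := Submodule.smul_mem _ (θ * B u v)⁻¹ h'
    rwa [inv_smul_smul₀ (mul_ne_zero hθ0 huv)] at this

include p in
theorem irred_herm : Irred (hermGeom h) := by
  intro e he y hy0 hey hy
  obtain ⟨z', hzy, hze⟩ := herm_sep h hy
  have hze' : B z' e = 0 := hze e (Submodule.mem_span_singleton_self e)
  obtain ⟨c, hc⟩ := h.invol.exists_trace_eq (μ := -B z' z') (by rw [map_neg, h.self_fixed])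
  obtain ⟨z, hz⟩ : ∃ z, z = z' + c • y := ⟨_, rfl⟩
  have hye : B y e = 0 := h.eq_zero_symm hey
  have hze2 : B z e = 0 := by rw [hz, add_left, smul_left, hze', hye, mul_zero, add_zero]
  have hzy2 : B z y = 1 := by rw [hz, add_left, smul_left, hzy, hy0.2, mul_zero, add_zero]
  have hyz' : B y z' = 1 := by rw [← h.symm, hzy, map_one]
  have hzz : B z z = 0 := by
    rw [hz]
    simp only [map_add, LinearMap.add_apply, smul_left, smul_right, hzy, hyz', hy0.2]
    linear_combination hc
  obtain ⟨θ, hθ0, hθ⟩ := h.exists_skew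
  obtain ⟨g, -, hga⟩ := herm_tr_mem (p := p) h (S := {z})
    (fun a ha b hb => by rw [ha, hb]; exact hzz) rfl hzz hθ
  refine ⟨g, by rw [hga, hze2, mul_zero, zero_smul, add_zero], fun h' => hθ0 ?_⟩
  have h2 : B y (suRep B g y) = 0 := h'
  rw [hga, map_add, hy0.2, smul_right, hzy2, mul_one, ← h.symm z y, hzy2, map_one, mul_one, zero_add] at h2
  exact h2

omit [Fact p.Prime] [CharP F p] [Nontrivial V] [Finite F] [FiniteDimensional F V] in
theorem herm_invariant {e : V} {g : HSU B} (hge : suRep B g e = e) {x : V} (hx : B e x = 0) :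
    B e (suRep B g x) = 0 := by
  conv_lhs => rw [← hge]
  exact ((g : HU B).2 e x).trans hx

include p in
theorem line_herm (hn : 4 ≤ Module.finrank F V) : ∀ e ∈ (hermGeom h).sing, ∀ H : Subgroup (HSU B),
    IsPGroup p H → (∀ g ∈ H, suRep B g e = e) →
      ∃ u ∈ (hermGeom h).sing, (hermGeom h).perp e u ∧ u ∉ Submodule.span F {e} ∧
        ∀ g ∈ H, suRep B g u - u ∈ Submodule.span F {e} := by
  intro e he H hH hfe
  haveI : Finite V := Module.finite_of_finite F
  obtain ⟨U, hU⟩ : ∃ U, U = Submodule.span F {e} := ⟨_, rfl⟩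
  rw [← hU]
  obtain ⟨O, hO⟩ : ∃ O, O = LinearMap.ker (B e) := ⟨_, rfl⟩
  have hUstab : H ≤ stab (suRep B) U := hU ▸ le_stab_point hfe
  let W3 : Submodule F V :=
    { carrier := {v | v ∈ O ∧ ∀ g ∈ H, suRep B g v - v ∈ U}
      zero_mem' := ⟨O.zero_mem, fun g _ => by rw [map_zero, sub_zero]; exact U.zero_mem⟩
      add_mem' := fun {a b} ha hb => ⟨O.add_mem ha.1 hb.1, fun g hg => by
        rw [map_add, add_sub_add_comm]; exact U.add_mem (ha.2 g hg) (hb.2 g hg)⟩
      smul_mem' := fun c a ha => ⟨O.smul_mem c ha.1, fun g hg => by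
        rw [map_smul, ← smul_sub]; exact U.smul_mem c (ha.2 g hg)⟩ }
  have hW3 : ∀ g ∈ H, ∀ v ∈ W3, suRep B g v ∈ W3 := by
    intro g hg v hv
    have hd : suRep B g v - v ∈ U := hv.2 g hg
    have hdW : suRep B g v - v ∈ W3 := by
      rw [hU] at hd
      obtain ⟨c, hc⟩ := Submodule.mem_span_singleton.1 hd
      rw [← hc]
      exact W3.smul_mem c ⟨hO ▸ LinearMap.mem_ker.2 he.2, fun k hk => by rw [hfe k hk, sub_self]; exact U.zero_mem⟩
    have h3 := W3.add_mem hdW hv
    rwa [sub_add_cancel] at h3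
  have heW3 : e ∈ W3 :=
    ⟨hO ▸ LinearMap.mem_ker.2 he.2, fun k hk => by rw [hfe k hk, sub_self]; exact U.zero_mem⟩
  have hgood : ∀ u ∈ O, u ∉ U → B u u = 0 → (∀ g ∈ H, suRep B g u - u ∈ U) →
      ∃ u ∈ (hermGeom h).sing, (hermGeom h).perp e u ∧ u ∉ U ∧ ∀ g ∈ H, suRep B g u - u ∈ U :=
    fun u huO huU huu hfu => ⟨u, ⟨fun h0 => huU (h0 ▸ U.zero_mem), huu⟩, LinearMap.mem_ker.1 (hO ▸ huO : u ∈ LinearMap.ker (B e)), huU, hfu⟩
  by_cases hX : h.orth W3 ≤ U
  · -- then the subgroup is trivial on the quotient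
    have hall : O ≤ W3 := fun v hv => by
      by_contra hvW
      obtain ⟨a, hav, haW⟩ := herm_sep h hvW
      have ha : a ∈ U := hX (h.mem_orth.2 fun w hw => h.eq_zero_symm (haW w hw))
      rw [hU] at ha
      obtain ⟨c, rfl⟩ := Submodule.mem_span_singleton.1 ha
      rw [hO, LinearMap.mem_ker] at hv
      rw [smul_left, hv, mul_zero] at hav
      exact zero_ne_one hav
    obtain ⟨f, hef, hff⟩ := h.exists_isotropic_partner he.1 he.2
    have hd : B e e * B f f - B e f * σ (B e f) ≠ 0 := h.hyperbolic_disc he.2 hef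
    have hP := h.pair_nondeg hd
    have h1 := h.finrank_orth hP
    rw [h.pair_finrank hd] at h1
    obtain ⟨u, hu0, huu⟩ := (h.restrict_herm (h.orth_nondeg hP)).exists_isotropic (by omega)
    have huO' : (u : V) ∈ O := by
      rw [hO, LinearMap.mem_ker]
      exact h.mem_orth.1 u.2 e (Submodule.subset_span (Set.mem_insert _ _))
    refine hgood u huO' (fun hmem => hu0 (Subtype.ext ?_)) huu (hall huO').2
    rw [hU] at hmem
    obtain ⟨c, hc⟩ := Submodule.mem_span_singleton.1 hmem
    have h2 := h.mem_orth.1 u.2 f (Submodule.subset_span (Set.mem_insert_of_mem _ rfl))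
    rw [← hc, smul_right, ← h.symm, hef, map_one, mul_one] at h2
    rw [← hc, h2, zero_smul]; rfl
  · have hXinv : ∀ g ∈ H, ∀ x ∈ h.orth W3, suRep B g x ∈ h.orth W3 := by
      intro g hg x hx
      refine h.mem_orth.2 fun w hw => ?_
      have h2 := hW3 g⁻¹ (inv_mem hg) w hw
      rw [← apply_inv_apply (ρ := suRep B) g w]
      exact ((g : HU B).2 _ x).trans (h.mem_orth.1 hx _ h2)
    obtain ⟨u, hu, huU, hfu⟩ := exists_fixed_mod (p := p) hH hUstab hXinv hX
    have huO : u ∈ O := hO ▸ LinearMap.mem_ker.2 (h.mem_orth.1 hu e heW3)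
    exact hgood u huO huU (h.mem_orth.1 hu u ⟨huO, hfu⟩) hfu

include p in
/-- In dimension three a subgroup fixing a point lies in its root group. -/
theorem le_rootGp_herm (hn : Module.finrank F V = 3) {e : V} (he : e ∈ (hermGeom h).sing)
    {H : Subgroup (HSU B)} (hH : IsPGroup p H) (hfe : ∀ g ∈ H, suRep B g e = e) :
    H ≤ (hermGeom h).rootGp e := by
  haveI : Finite V := Module.finite_of_finite F
  obtain ⟨f, hef, -⟩ := h.exists_isotropic_partner he.1 he.2
  have hrank : Module.finrank F (LinearMap.ker (B e)) = 2 := by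
    have h2 := LinearMap.finrank_range_add_finrank_ker (B e)
    rw [LinearMap.range_eq_top.2 fun c => ⟨c • f, by rw [map_smul, hef, smul_eq_mul, mul_one]⟩, finrank_top,
      Module.finrank_self] at h2
    omega
  obtain ⟨u, hu, hue, hfu⟩ := exists_fixed_mod (p := p) hH (le_stab_point hfe) (O := LinearMap.ker (B e))
    (fun g hg x hx => LinearMap.mem_ker.2 (herm_invariant (hfe g hg) (LinearMap.mem_ker.1 hx))) (fun h' => by
      have := Submodule.finrank_mono h'
      rw [finrank_span_singleton he.1, hrank] at this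
      omega)
  have hspan : LinearMap.ker (B e) = Submodule.span F {u, e} := by
    refine (Submodule.eq_of_le_of_finrank_le (Submodule.span_le.2 ?_) ?_).symm
    · exact Set.insert_subset hu (Set.singleton_subset_iff.2 (LinearMap.mem_ker.2 he.2))
    · have hli : LinearIndependent F ![u, e] := by
        rw [LinearIndependent.pair_iff]
        intro s t hst
        have hs : s = 0 := by
          by_contra hs
          refine hue (Submodule.mem_span_singleton.2 ⟨-(s⁻¹ * t), ?_⟩)
          rw [neg_smul, mul_smul, ← smul_neg, show -(t • e) = s • u from neg_eq_of_add_eq_zero_left hst,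
            inv_smul_smul₀ hs]
        rw [hs, zero_smul, zero_add, smul_eq_zero] at hst
        exact ⟨hs, hst.resolve_right he.1⟩
      have := finrank_span_eq_card hli
      rw [Matrix.range_cons_cons_empty, Fintype.card_fin] at this
      rw [this, hrank]
  intro g hg
  refine mem_flagFix _ ?_ (fun w hw => ?_) (fun w hw => ?_) fun w => ?_
  · exact Submodule.span_le.2 fun y hy a ha => by rw [hy, ha]; exact he.2
  · obtain ⟨c, rfl⟩ := Submodule.mem_span_singleton.1 hw
    rw [map_smul, hfe g hg]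
  · have h1 : w ∈ LinearMap.ker (B e) := LinearMap.mem_ker.2 (hw e rfl)
    rw [hspan, Submodule.mem_span_pair] at h1
    obtain ⟨a, b, rfl⟩ := h1
    rw [map_add, map_smul, map_smul, hfe g hg, add_sub_add_right_eq_sub, ← smul_sub]
    exact Submodule.smul_mem _ a (hfu g hg)
  · intro a ha
    rw [Set.mem_singleton_iff.1 ha]
    show B e (suRep B g w - w) = 0
    rw [map_sub, sub_eq_zero]
    conv_lhs => rw [← hfe g hg]
    exact (g : HU B).2 e w

end Geometry

section Std

open Matrix

variable {p : ℕ} [Fact p.Prime] {K : Type*} [Field K] [Fintype K] [CharP K p] {n q : ℕ}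

/-- The projection from the group of the form. -/
noncomputable def psuProj (hK : Fintype.card K = q ^ 2) : HSU (hermStd n hK) →* Cfsg.PSU n K q :=
  (QuotientGroup.mk' _).comp (suEquiv n hK).symm.toMonoidHom

theorem psuProj_surjective (hK : Fintype.card K = q ^ 2) : Function.Surjective (psuProj (n := n) hK) :=
  (QuotientGroup.mk'_surjective _).comp (suEquiv n hK).symm.surjective

theorem ker_psuProj (hK : Fintype.card K = q ^ 2) :
    (psuProj (n := n) hK).ker = Subgroup.center (HSU (hermStd n hK)) := by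
  ext g
  show QuotientGroup.mk' _ ((suEquiv n hK).symm g) = 1 ↔ _
  rw [QuotientGroup.mk'_apply, QuotientGroup.eq_one_iff, Subgroup.mem_center_iff, Subgroup.mem_center_iff]
  constructor
  · intro h y
    have := congrArg (suEquiv n hK) (h ((suEquiv n hK).symm y))
    rwa [map_mul, map_mul, MulEquiv.apply_symm_apply, MulEquiv.apply_symm_apply] at this
  · intro h y
    apply (suEquiv n hK).injective
    rw [map_mul, map_mul, MulEquiv.apply_symm_apply, h]

/-- The unitary groups of dimension at least four. -/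
theorem split_PSU (hK : Fintype.card K = q ^ 2) (hn : 4 ≤ n) : Split p (Cfsg.PSU n K q) := by
  haveI : Nonempty (Fin n) := ⟨⟨0, by omega⟩⟩
  haveI : IsSimpleGroup (Cfsg.PSU n K q) := isSimpleGroup_PSU' hK n (by omega) fun h3 => by omega
  have hh := hermStd_isHerm (n := n) hK
  haveI : Finite (HSU (hermStd n hK)) := Finite.of_equiv _ (suEquiv n hK).toEquiv
  haveI : Finite (Fin n → K) := Module.finite_of_finite K
  have hsc : ∀ z ∈ (psuProj (n := n) hK).ker, ∃ a : K, ∀ v, suRep (hermStd n hK) z v = a • v := fun z hz =>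
    (hh.mem_center_HSU_iff (by rw [finrank_std]; omega)).1 (ker_psuProj hK ▸ hz)
  refine split_of_geom (hermGeom hh) (psuProj hK) (psuProj_surjective hK) suRep_injective
    (ker_psuProj hK ▸ not_dvd_card_center (suRep _) suRep_injective fun z hz =>
      (hh.mem_center_HSU_iff (by rw [finrank_std]; omega)).1 hz)
    hsc (fun α => ?_) (fix_herm hh) (htr_herm (p := p) hh) (sep_herm (p := p) hh) (irred_herm (p := p) hh)
    ?_ (line_herm hh (by rw [finrank_std]; omega))
  · obtain ⟨g, hg, θ, rfl⟩ := CfsgLib.Known.AutPSU.Trans.exists_eq_uSemi (hF := hK) (by omega)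
      (fun h3 => by omega) α
    obtain ⟨G, hG⟩ : ∃ G : Matrix (Fin n) (Fin n) K, G = ((g : GL (Fin n) K) : Matrix (Fin n) (Fin n) K) :=
      ⟨_, rfl⟩
    let f : (Fin n → K) →+ (Fin n → K) :=
      AddMonoidHom.mk' (fun v => G *ᵥ (θ ∘ v)) fun a b => by
        rw [← Matrix.mulVec_add]
        exact congrArg _ (funext fun i => map_add θ _ _)
    have hinj : Function.Injective f := fun a b e => by
      have h1 := congrArg (fun w => ((g⁻¹ : GL (Fin n) K) : Matrix (Fin n) (Fin n) K) *ᵥ w) e
      simp only [f, AddMonoidHom.mk'_apply, Matrix.mulVec_mulVec, hG, Units.inv_mul, Matrix.one_mulVec] at h1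
      exact funext fun i => θ.injective (congrFun h1 i)
    refine ⟨f, hinj, fun c v => ⟨θ c, ?_⟩,
      fun x hx => ⟨fun h => hx.1 (hinj (by rw [h, map_zero])), ?_⟩, fun x => ?_⟩
    · show G *ᵥ (θ ∘ (c • v)) = θ c • (G *ᵥ (θ ∘ v))
      rw [← Matrix.mulVec_smul]
      exact congrArg _ (funext fun i => map_mul θ _ _)
    · show hermStd n hK (G *ᵥ (θ ∘ x)) (G *ᵥ (θ ∘ x)) = 0
      rw [hG, ← guEquiv_apply hK ⟨g, hg⟩, HU.map_eq]
      exact (CfsgLib.Known.AutPSU.Trans.bf_map (hF := hK) θ x x).trans (by rw [show hermStd n hK x x = 0 from hx.2, map_zero])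
    · refine ⟨suEquiv n hK (CfsgLib.Known.AutPSU.suSemiHom hK ⟨g, CfsgLib.Known.AutPSU.GU_le_uGL hK hg⟩ θ
        ((suEquiv n hK).symm x)), ?_, fun v => ?_⟩
      · show QuotientGroup.mk' _ _ = _
        rw [MulEquiv.coe_toMonoidHom, MulEquiv.symm_apply_apply]
        exact (CfsgLib.Known.AutPSU.uSemi_mk hK _ θ _).symm
      · show ((suEquiv n hK _ : HU (hermStd n hK)) : (Fin n → K) ≃ₗ[K] _) (G *ᵥ (θ ∘ v)) = G *ᵥ (θ ∘ _)
        rw [suEquiv_apply, hG]
        conv_rhs => rw [← (suEquiv n hK).apply_symm_apply x]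
        show (((g : GL (Fin n) K) : Matrix (Fin n) (Fin n) K) * _ * ((g⁻¹ : GL (Fin n) K) : Matrix (Fin n) (Fin n) K)) *ᵥ _ = _
        rw [Matrix.mulVec_mulVec, Matrix.mul_assoc, Units.inv_mul, Matrix.mul_one, ← Matrix.mulVec_mulVec]
        exact congrArg _ (funext fun i => (RingHom.map_mulVec θ.toRingHom _ v i).symm)
  · obtain ⟨u, hu, huu⟩ := hh.exists_isotropic (by rw [finrank_std]; omega)
    exact ⟨u, hu, huu⟩

/-- The unitary groups of dimension three. -/
theorem rankOne_PSU (hK : Fintype.card K = q ^ 2) (hq : q ≠ 2) : RankOne p (Cfsg.PSU 3 K q) := by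
  haveI : IsSimpleGroup (Cfsg.PSU 3 K q) := isSimpleGroup_PSU' hK 3 le_rfl fun _ => hq
  have hh := hermStd_isHerm (n := 3) hK
  haveI : Finite (HSU (hermStd 3 hK)) := Finite.of_equiv _ (suEquiv 3 hK).toEquiv
  haveI : Finite (Fin 3 → K) := Module.finite_of_finite K
  have h3 : Module.finrank K (Fin 3 → K) = 3 := finrank_std
  obtain ⟨P⟩ : Nonempty (Sylow p (HSU (hermStd 3 hK))) := inferInstance
  have hP : (P : Subgroup (HSU (hermStd 3 hK))) ≠ ⊥ := by
    obtain ⟨u, hu, huu⟩ := hh.exists_isotropic (by rw [h3]; omega)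
    obtain ⟨f, hf⟩ := hh.exists_apply_eq_one hu
    obtain ⟨θ, hθ0, hθ⟩ := hh.exists_skew
    obtain ⟨g, hg, hga⟩ := herm_tr_mem (p := p) hh (S := {u})
      (fun a ha b hb => by rw [ha, hb]; exact huu) rfl huu hθ
    intro h
    obtain ⟨Q, hQ⟩ := (isPGroup_flagFix (p := p) (suRep (hermStd 3 hK)) suRep_injective (Submodule.span K ({u} : Set (Fin 3 → K))) ((hermGeom hh).orth {u})).exists_le_sylow
    have h1 : (Q : Subgroup (HSU (hermStd 3 hK))) = ⊥ := Subgroup.card_eq_one.1 (by
      rw [Q.card_eq_multiplicity, ← P.card_eq_multiplicity, h, Subgroup.card_bot])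
    have h2 := hQ hg
    rw [h1, Subgroup.mem_bot] at h2
    have h4 := hga f
    rw [h2, map_one, LinearEquiv.coe_one, id_eq, hf, mul_one, eq_comm, add_eq_left, smul_eq_zero] at h4
    exact h4.elim hθ0 hu
  obtain ⟨e, he, hfe⟩ := fix_herm (p := p) hh P P.isPGroup' hP
  exact rankOne_of_geom (hermGeom hh) (psuProj hK) (psuProj_surjective hK) suRep_injective
    (ker_psuProj hK ▸ not_dvd_card_center (suRep _) suRep_injective fun z hz =>
      (hh.mem_center_HSU_iff (by rw [h3])).1 hz)
    (fun z hz => (hh.mem_center_HSU_iff (by rw [h3])).1 (ker_psuProj hK ▸ hz))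
    (htr_herm (p := p) hh) (sep_herm (p := p) hh) (irred_herm (p := p) hh) P he hfe
    (le_rootGp_herm hh h3 he P.isPGroup' hfe)

end Std

end CfsgLib.HallGen.PMinimal
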